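import Cfsg.Agent.Lib.Components.IntrinsicPair.Quaternion
import Cfsg.Agent.Lib.Components.Basic
import Cfsg.Agent.Lib.SylowAutSolvable.Ranks
import Cfsg.Agent.S0107
import Cfsg.Agent.S0202
import Cfsg.Agent.S0203
import Cfsg.Agent.S0205
import Cfsg.Agent.S0215
import Cfsg.Agent.S0514

/-!
A quasisimple group with a unique involution `z`: elements of order four, automorphisms fixing a
Sylow 2-subgroup, perfect groups of automorphisms.
-/

set_option autoImplicit false
set_option linter.style.haveILetI false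
set_option linter.unusedSectionVars false

namespace Cfsg.Agent.IntrinsicPair

open Subgroup

universe u

variable {X : Type u} [Group X] [Finite X]

/-- A quasisimple group with unique involution `z` whose centre is a 2-group. -/
structure QQ (X : Type u) [Group X] (z : X) : Prop where
  qs : Cfsg.IsQuasisimple X
  uinv : UInv (⊤ : Subgroup X) z
  cen : IsPGroup 2 (Subgroup.center X)

local notation "Xb" => X ⧸ Subgroup.center X

/-- The action on the central quotient. -/
noncomputable def bar : MulAut X →* MulAut Xb where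
  toFun φ := QuotientGroup.congr (Subgroup.center X) (Subgroup.center X) φ
    (Subgroup.characteristic_iff_map_eq.mp inferInstance φ)
  map_one' := by
    ext q
    induction q using QuotientGroup.induction_on
    rfl
  map_mul' φ ψ := by
    ext q
    induction q using QuotientGroup.induction_on
    rfl

lemma bar_mk (φ : MulAut X) (x : X) : bar φ (x : Xb) = ((φ x : X) : Xb) := rfl

lemma bar_conj (x : X) : bar (MulAut.conj x) = MulAut.conj (x : Xb) := by
  ext q
  induction q using QuotientGroup.induction_on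
  rfl

lemma conj_map (φ : MulAut X) (x : X) : φ * MulAut.conj x = MulAut.conj (φ x) * φ := by
  ext y
  simp [MulAut.mul_apply]

namespace QQ

variable {z : X}

lemma z_mem_center (h : QQ X z) : z ∈ Subgroup.center X :=
  mem_center_iff.mpr fun g => h.uinv.comm (le_normalizer (Subgroup.mem_top g))

lemma perfect (h : QQ X z) : _root_.commutator X = ⊤ := h.qs.1.commutator_eq_top

lemma bar_injective (h : QQ X z) : Function.Injective (bar (X := X)) := by
  rw [injective_iff_map_eq_one]
  intro φ hφ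
  have hd : ∀ x, φ x * x⁻¹ ∈ Subgroup.center X := fun x => by
    have : ((φ x : X) : Xb) = (x : Xb) := by rw [← bar_mk, hφ]; rfl
    rw [← QuotientGroup.eq_one_iff, QuotientGroup.mk_mul, QuotientGroup.mk_inv, this, mul_inv_cancel]
  let d : X →* Subgroup.center X :=
    MonoidHom.mk' (fun x => ⟨φ x * x⁻¹, hd x⟩) fun a b => Subtype.ext (by
      show φ (a * b) * (a * b)⁻¹ = φ a * a⁻¹ * (φ b * b⁻¹)
      rw [map_mul, mul_inv_rev, mul_assoc (φ a) a⁻¹, mem_center_iff.mp (hd b) a⁻¹]
      group)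
  haveI : Group.IsSolvable (Subgroup.center X) :=
    Group.isSolvable_of_comm fun a b => Subtype.ext (mem_center_iff.mp b.2 a)
  ext x
  have := SylowAutSolvable.FixInvolutions.hom_eq_one h.perfect d x
  exact mul_inv_eq_one.mp (congrArg Subtype.val this)

lemma z_mem_sylow (h : QQ X z) (P : Sylow 2 X) : z ∈ (P : Subgroup X) :=
  IsPGroup.le_sylow_of_normal h.cen P h.z_mem_center

lemma sylow_uinv (h : QQ X z) (P : Sylow 2 X) : UInv (P : Subgroup X) z :=
  h.uinv.mono le_top (h.z_mem_sylow P)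

lemma sylow_not_cyclic (h : QQ X z) (P : Sylow 2 X) : ¬ IsCyclic (P : Subgroup X) := by
  intro hc
  have h2 : (Nat.card X).minFac = 2 := (Nat.minFac_eq_two_iff _).mpr (by
    rw [← h.uinv.inv]; exact orderOf_dvd_natCard z)
  set f := MonoidHom.transferSylow P (hc.normalizer_le_centralizer h2)
  haveI : Group.IsSolvable (P : Subgroup X) := by
    letI := hc.commGroup
    infer_instance
  have hk : f.ker = ⊤ := eq_top_iff.mpr fun x _ => SylowAutSolvable.FixInvolutions.hom_eq_one h.perfect f x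
  have := (IsCyclic.isComplement' h2 hc).disjoint.eq_bot
  rw [show (MonoidHom.transferSylow P _).ker = ⊤ from hk, top_inf_eq] at this
  exact h.uinv.ne_one (Subgroup.mem_bot.mp (this ▸ h.z_mem_sylow P))

lemma center_eq (h : QQ X z) : Subgroup.center X = zpowers z := by
  haveI : Fact (Nat.Prime 2) := ⟨Nat.prime_two⟩
  refine le_antisymm ?_ (zpowers_le.mpr h.z_mem_center)
  intro x hx
  obtain ⟨P⟩ := (inferInstance : Nonempty (Sylow 2 X))
  obtain ⟨k, hk, ⟨e⟩⟩ :=
    (isCyclic_or_quaternion (h.sylow_uinv P) P.2).resolve_left (h.sylow_not_cyclic P)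
  have hxP : x ∈ (P : Subgroup X) := IsPGroup.le_sylow_of_normal h.cen P hx
  have h2 : 2 ≤ 2 ^ k := by
    calc 2 = 2 ^ 1 := rfl
      _ ≤ 2 ^ k := Nat.pow_le_pow_right two_pos hk
  have := ZStar.Consequences.quaternion_center h2 (x := e ⟨x, hxP⟩) fun y => by
    obtain ⟨y, rfl⟩ := e.surjective y
    rw [← map_mul, ← map_mul]
    exact congrArg e (Subtype.ext (mem_center_iff.mp hx y))
  rw [← map_mul, ← map_one e] at this
  have hxx : x * x = 1 := congrArg Subtype.val (e.injective this)
  by_cases h1 : x = 1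
  · rw [h1]; exact one_mem _
  · rw [h.uinv.eq_of_sq (Subgroup.mem_top x) hxx h1]; exact Subgroup.mem_zpowers z

lemma mk_eq_one (h : QQ X z) {x : X} : (x : Xb) = 1 ↔ x = 1 ∨ x = z := by
  rw [QuotientGroup.eq_one_iff, h.center_eq]
  constructor
  · intro hx
    obtain ⟨i, rfl⟩ := mem_zpowers_iff.mp hx
    rcases Int.even_or_odd' i with ⟨j, rfl | rfl⟩
    · left; rw [zpow_mul, zpow_two, h.uinv.mul_self, one_zpow]
    · right; rw [zpow_add_one, zpow_mul, zpow_two, h.uinv.mul_self, one_zpow, one_mul]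
  · rintro (rfl | rfl)
    · exact one_mem _
    · exact Subgroup.mem_zpowers _

lemma mk_four (h : QQ X z) {a : X} (ha : orderOf a = 4) : orderOf (a : Xb) = 2 := by
  rw [Involutions.Basic.orderOf_two_iff, ← QuotientGroup.mk_mul,
    h.uinv.sq_of_four (Subgroup.mem_top a) ha, h.mk_eq_one, Ne, h.mk_eq_one]
  refine ⟨Or.inr rfl, ?_⟩
  rintro (rfl | rfl)
  · simp at ha
  · rw [h.uinv.inv] at ha; omega

lemma four_of_mk (h : QQ X z) {a : X} (ha : orderOf (a : Xb) = 2) : a * a = z := by
  obtain ⟨h2, h1⟩ := Involutions.Basic.orderOf_two_iff.mp ha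
  rw [← QuotientGroup.mk_mul, h.mk_eq_one] at h2
  refine h2.resolve_left fun hh => h1 (h.mk_eq_one.mpr ?_)
  by_cases ha1 : a = 1
  · exact Or.inl ha1
  · exact Or.inr (h.uinv.eq_of_sq (Subgroup.mem_top a) hh ha1)

lemma simple (h : QQ X z) : IsSimpleGroup Xb := h.qs.2

lemma perfect_bar (h : QQ X z) : _root_.commutator Xb = ⊤ := by
  have := Subgroup.map_commutator (⊤ : Subgroup X) ⊤ (QuotientGroup.mk' (Subgroup.center X))
  rw [← _root_.commutator_def, h.perfect, Subgroup.map_top_of_surjective _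
    (QuotientGroup.mk'_surjective _), ← _root_.commutator_def] at this
  exact this.symm

lemma exists_sylow_bar (h : QQ X z) (P : Sylow 2 X) :
    ∃ (T : Sylow 2 Xb) (k : ℕ), 1 ≤ k ∧ Nonempty ((T : Subgroup Xb) ≃* DihedralGroup (2 ^ k)) ∧
      (T : Subgroup Xb) = (P : Subgroup X).map (QuotientGroup.mk' (Subgroup.center X)) := by
  haveI : Fact (Nat.Prime 2) := ⟨Nat.prime_two⟩
  let π := QuotientGroup.mk' (Subgroup.center X)
  have hπ : Function.Surjective π := QuotientGroup.mk'_surjective _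
  obtain ⟨k, hk, e⟩ := exists_dihedral_quotient (h.sylow_uinv P) P.2 (h.sylow_not_cyclic P)
    (π.subgroupMap (P : Subgroup X)) (π.subgroupMap_surjective _) fun s => by
      rw [Subtype.ext_iff]
      exact h.mk_eq_one
  exact ⟨P.mapSurjective hπ, k, hk, e, rfl⟩

lemma even_bar (h : QQ X z) : 2 ∣ Nat.card Xb := by
  obtain ⟨P⟩ := (inferInstance : Nonempty (Sylow 2 X))
  obtain ⟨T, k, hk, ⟨e⟩, -⟩ := h.exists_sylow_bar P
  refine dvd_trans ?_ (T : Subgroup Xb).card_subgroup_dvd_card
  rw [Nat.card_congr e.toEquiv, DihedralGroup.nat_card]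
  exact Dvd.intro _ rfl

lemma normal_odd_eq_bot (h : QQ X z) {N : Subgroup Xb} (hN : N.Normal)
    (ho : Odd (Nat.card N)) : N = ⊥ := by
  haveI := h.simple
  refine hN.eq_bot_or_eq_top.resolve_right fun ht => ?_
  rw [ht, Subgroup.card_top] at ho
  exact Nat.not_even_iff_odd.mpr ho (even_iff_two_dvd.mpr h.even_bar)

lemma center_bar (h : QQ X z) : Subgroup.center Xb = ⊥ := by
  haveI := h.simple
  refine (inferInstance : (Subgroup.center Xb).Normal).eq_bot_or_eq_top.resolve_right fun ht => ?_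
  rw [← commutator_eq_bot_iff_center_eq_top, h.perfect_bar] at ht
  exact top_ne_bot ht

lemma oddCore_bar (h : QQ X z) : Cfsg.oddCore Xb = ⊥ :=
  h.normal_odd_eq_bot inferInstance Cores.oddCore_odd

lemma one_class (h : QQ X z) {x y : Xb} (hx : orderOf x = 2) (hy : orderOf y = 2) :
    ∃ g : Xb, g * x * g⁻¹ = y := by
  haveI : Fact (Nat.Prime 2) := ⟨Nat.prime_two⟩
  haveI := h.simple
  obtain ⟨P⟩ := (inferInstance : Nonempty (Sylow 2 X))
  obtain ⟨T, k, hk, e, -⟩ := h.exists_sylow_bar P
  have hnp : ¬ IsPGroup 2 Xb := fun hp => by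
    haveI := hp.isNilpotent
    haveI : Group.IsSolvable Xb := IsNilpotent.to_isSolvable
    exact (Group.IsSolvable.commutator_lt_top_of_nontrivial Xb).ne h.perfect_bar
  rcases Nat.lt_or_ge k 2 with hk2 | hk2
  · obtain rfl : k = 1 := by omega
    obtain ⟨e⟩ := e
    haveI : IsKleinFour (T : Subgroup Xb) := by
      rw [pow_one] at e
      exact ⟨(Nat.card_congr e.toEquiv).trans IsKleinFour.card_four,
        (Monoid.exponent_eq_of_mulEquiv e).trans IsKleinFour.exponent_two⟩
    rcases S0202.result T inferInstance with h1 | h3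
    · obtain ⟨hs, -⟩ := Nat.card_eq_one_iff_unique.mp h1
      have := congrArg Subtype.val (hs.elim ⟨ConjClasses.mk x, x, hx, rfl⟩ ⟨ConjClasses.mk y, y, hy, rfl⟩)
      exact isConj_iff.mp (ConjClasses.mk_eq_mk_iff_isConj.mp this)
    · exfalso
      obtain ⟨N, hN, hc⟩ := (S0203.result T inferInstance).mp h3
      rcases hN.eq_bot_or_eq_top with hb | ht
      · have := hc.sup_eq_top
        rw [hb, bot_sup_eq] at this
        exact hnp (IsPGroup.of_equiv (this ▸ T.2 : IsPGroup 2 (⊤ : Subgroup Xb)) topEquiv)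
      · have := hc.disjoint.eq_bot
        rw [ht, top_inf_eq] at this
        have h4 : Nat.card (T : Subgroup Xb) = 4 := IsKleinFour.card_four
        rw [this, Subgroup.card_bot] at h4
        omega
  · refine S0107.result T k hk2 e ?_ x y hx hy
    haveI : (Cfsg.pResidual 2 Xb).Normal := ⟨fun n hn g => by
      have hle : (Cfsg.pResidual 2 Xb).map (MulAut.conj g).toMonoidHom ≤ Cfsg.pResidual 2 Xb := by
        rw [Cfsg.pResidual, MonoidHom.map_closure]
        refine Subgroup.closure_mono ?_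
        rintro _ ⟨w, hw, rfl⟩
        show Nat.Coprime (orderOf ((MulAut.conj g) w)) 2
        rw [MulEquiv.orderOf_eq]
        exact hw
      exact hle ⟨n, hn, rfl⟩⟩
    refine (inferInstance : (Cfsg.pResidual 2 Xb).Normal).eq_bot_or_eq_top.resolve_left fun hb => hnp ?_
    intro g
    obtain ⟨j, m, hm, ho⟩ := Nat.exists_eq_two_pow_mul_odd (orderOf_pos g).ne'
    refine ⟨j, ?_⟩
    have : g ^ 2 ^ j ∈ Cfsg.pResidual 2 Xb := Subgroup.subset_closure (by
      show Nat.Coprime (orderOf (g ^ 2 ^ j)) 2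
      rw [orderOf_pow, ho, Nat.gcd_eq_right (dvd_mul_right _ _),
        Nat.mul_div_cancel_left _ (Nat.two_pow_pos j)]
      exact Nat.coprime_two_right.mpr hm)
    rwa [hb, Subgroup.mem_bot] at this

lemma conj_four (h : QQ X z) {a b : X} (ha : orderOf a = 4) (hb : orderOf b = 4) :
    ∃ g : X, g * a * g⁻¹ = b ∨ g * a * g⁻¹ = b⁻¹ := by
  obtain ⟨g, hg⟩ := h.one_class (h.mk_four ha) (h.mk_four hb)
  induction g using QuotientGroup.induction_on with | H g => ?_
  refine ⟨g, ?_⟩
  rw [← QuotientGroup.mk_mul, ← QuotientGroup.mk_inv, ← QuotientGroup.mk_mul] at hg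
  have h1 : ((b⁻¹ * (g * a * g⁻¹) : X) : Xb) = 1 := by
    rw [QuotientGroup.mk_mul, QuotientGroup.mk_inv, hg, inv_mul_cancel]
  rcases h.mk_eq_one.mp h1 with h1 | h1
  · exact Or.inl (inv_mul_eq_one.mp h1).symm
  · right
    rw [inv_mul_eq_iff_eq_mul] at h1
    rw [h1]
    refine eq_inv_of_mul_eq_one_left ?_
    rw [mul_assoc, ← mem_center_iff.mp h.z_mem_center b, ← mul_assoc,
      h.uinv.sq_of_four (Subgroup.mem_top b) hb, h.uinv.mul_self]

lemma centralizer_solvable (h : QQ X z) {x : Xb} (hx : orderOf x = 2) :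
    Group.IsSolvable (centralizer ({x} : Set Xb)) := by
  obtain ⟨P⟩ := (inferInstance : Nonempty (Sylow 2 X))
  obtain ⟨T, k, hk, e, -⟩ := h.exists_sylow_bar P
  obtain ⟨N, hN, ho, j, hj⟩ := S0514.result T (2 ^ k)
    (by calc 2 = 2 ^ 1 := rfl
          _ ≤ 2 ^ k := Nat.pow_le_pow_right two_pos hk) e x hx
  haveI : Group.IsSolvable N := S0205.result ho
  haveI : Fact (Nat.Prime 2) := ⟨Nat.prime_two⟩
  haveI := (IsPGroup.of_card (n := j) (by rw [← Subgroup.index_eq_card]; exact hj) :
    IsPGroup 2 (_ ⧸ N)).isNilpotent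
  haveI : Group.IsSolvable (↥(centralizer ({x} : Set Xb)) ⧸ N) := IsNilpotent.to_isSolvable
  exact Group.isSolvable_of_ker_le_range N.subtype (QuotientGroup.mk' N)
    (by rw [QuotientGroup.ker_mk', range_subtype])

/-- An automorphism of order two fixing a Sylow 2-subgroup pointwise is trivial. -/
theorem eq_one_of_fix_sylow (h : QQ X z) {τ : MulAut X} (hτ : τ * τ = 1) (P : Sylow 2 X)
    (hfix : ∀ x ∈ (P : Subgroup X), τ x = x) : τ = 1 := by
  haveI : Fact (Nat.Prime 2) := ⟨Nat.prime_two⟩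
  obtain ⟨T, k, hk, -, hT⟩ := h.exists_sylow_bar P
  apply h.bar_injective
  rw [map_one]
  by_contra hne
  set u := bar τ with hu
  have hu2 : orderOf u = 2 :=
    Involutions.Basic.orderOf_two_iff.mpr ⟨by rw [hu, ← map_mul, hτ, map_one], hne⟩
  have huu := Involutions.Basic.inv_sq_one hu2
  set I : Subgroup (MulAut Xb) := (MulAut.conj : Xb →* MulAut Xb).range with hI
  haveI hIn : I.Normal := ⟨by
    rintro _ ⟨x, rfl⟩ φ
    exact ⟨φ x, by ext y; simp [MulAut.mul_apply]⟩⟩
  set W := I ⊔ zpowers u with hW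
  set Tc := (T : Subgroup Xb).map (MulAut.conj : Xb →* MulAut Xb) with hTc
  have hcomm : ∀ q ∈ Tc, Commute u q := by
    rintro _ ⟨q, hq, rfl⟩
    rw [hT] at hq
    obtain ⟨p, hp, rfl⟩ := hq
    show u * MulAut.conj (p : Xb) = MulAut.conj (p : Xb) * u
    rw [hu, ← bar_conj, ← map_mul, ← map_mul, conj_map, hfix p hp]
  have hP0 : IsPGroup 2 ↥(Tc ⊔ zpowers u) := by
    refine IsPGroup.to_sup_of_normal_right' (T.2.map _)
      (IsPGroup.of_card (n := 1) (by rw [Nat.card_zpowers, hu2, pow_one])) ?_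
    intro q hq
    refine centralizer_le_normalizer _ (mem_centralizer_iff.mpr fun w hw => ?_)
    obtain ⟨i, rfl⟩ := mem_zpowers_iff.mp hw
    exact ((hcomm q hq).zpow_left i).eq
  have hle : Tc ⊔ zpowers u ≤ W := sup_le_sup_right (map_le_range _ _) _
  obtain ⟨P0, hP0le⟩ := (hP0.comap_of_injective W.subtype W.subtype_injective).exists_le_sylow
  have huW : u ∈ W := le_sup_right (α := Subgroup _) (Subgroup.mem_zpowers u)
  have huP0 : (⟨u, huW⟩ : W) ∈ (P0 : Subgroup W) :=
    hP0le (le_sup_right (α := Subgroup _) (Subgroup.mem_zpowers u) : u ∈ Tc ⊔ zpowers u)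
  -- elements of the Sylow subgroup inside the inner automorphisms
  have hmax : ∀ x : Xb, ∀ hx : MulAut.conj x ∈ W,
      (⟨MulAut.conj x, hx⟩ : W) ∈ (P0 : Subgroup W) → x ∈ (T : Subgroup Xb) := by
    intro x hx hxP
    let ι : Xb →* W := (MulAut.conj : Xb →* MulAut Xb).codRestrict W
      fun y => le_sup_left (α := Subgroup _) ⟨y, rfl⟩
    have hι : Function.Injective ι := fun a b hab =>
      SylowAutSolvable.conj_injective h.center_bar (congrArg Subtype.val hab)
    have h1 : IsPGroup 2 ↥((P0 : Subgroup W).comap ι) := P0.2.comap_of_injective ι hι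
    have h2 : (T : Subgroup Xb) ≤ (P0 : Subgroup W).comap ι := fun q hq =>
      hP0le (le_sup_left (α := Subgroup _) ⟨q, hq, rfl⟩ : MulAut.conj q ∈ Tc ⊔ zpowers u)
    exact (T.3 h1 h2).le (show x ∈ (P0 : Subgroup W).comap ι from hxP)
  have hiso : ∀ g : W, g * ⟨u, huW⟩ * g⁻¹ ∈ (P0 : Subgroup W) →
      g * ⟨u, huW⟩ * g⁻¹ = (⟨u, huW⟩ : W) := by
    intro g hg
    obtain ⟨x, hx⟩ : ∃ x : X, (g : MulAut Xb) * u * (g : MulAut Xb)⁻¹ =
        MulAut.conj (x : Xb) * u * (MulAut.conj (x : Xb))⁻¹ := by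
      have hg' : (g : MulAut Xb) ∈ (↑(I ⊔ zpowers u) : Set (MulAut Xb)) := g.2
      rw [Subgroup.normal_mul I (zpowers u)] at hg'
      obtain ⟨_, ⟨x, rfl⟩, w, hw, he⟩ := hg'
      obtain ⟨i, rfl⟩ := mem_zpowers_iff.mp hw
      induction x using QuotientGroup.induction_on with | H x => ?_
      refine ⟨x, ?_⟩
      rw [← he]
      group
    have hcu : MulAut.conj (x : Xb) * u * (MulAut.conj (x : Xb))⁻¹ =
        MulAut.conj ((x * τ x⁻¹ : X) : Xb) * u := by
      rw [← bar_conj, hu, ← bar_conj, ← map_inv, ← map_mul, ← map_mul, ← map_mul]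
      congr 1
      rw [← map_inv, mul_assoc, conj_map, ← mul_assoc, ← map_mul]
    rw [hcu] at hx
    set c := x * τ x⁻¹ with hc
    have hmemW : MulAut.conj (c : Xb) ∈ W := le_sup_left (α := Subgroup _) ⟨_, rfl⟩
    have heq : g * ⟨u, huW⟩ * g⁻¹ = (⟨MulAut.conj (c : Xb), hmemW⟩ : W) * ⟨u, huW⟩ :=
      Subtype.ext hx
    rw [heq] at hg ⊢
    have hcT : (c : Xb) ∈ (T : Subgroup Xb) :=
      hmax _ hmemW (((P0 : Subgroup W).mul_mem_cancel_right huP0).mp hg)
    by_cases hc1 : (c : Xb) = 1
    · refine Subtype.ext ?_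
      show MulAut.conj (c : Xb) * u = u
      rw [hc1, map_one, one_mul]
    exfalso
    have hc2 : orderOf (c : Xb) = 2 := by
      rw [Involutions.Basic.orderOf_two_iff]
      refine ⟨SylowAutSolvable.conj_injective h.center_bar ?_, hc1⟩
      have hsq : (MulAut.conj (c : Xb) * u) * (MulAut.conj (c : Xb) * u) = 1 := by
        rw [← hx, show (g : MulAut Xb) * u * (g : MulAut Xb)⁻¹ * ((g : MulAut Xb) * u *
          (g : MulAut Xb)⁻¹) = g * (u * u) * (g : MulAut Xb)⁻¹ by group, huu]
        group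
      rw [(hcomm _ ⟨_, hcT, rfl⟩).mul_mul_mul_comm, huu, mul_one] at hsq
      rw [map_mul, map_one]
      exact hsq
    have hcfix : τ c = c := by
      rw [hT] at hcT
      obtain ⟨p, hp, hpc⟩ := hcT
      have h1 : ((p⁻¹ * c : X) : Xb) = 1 := by
        rw [QuotientGroup.mk_mul, QuotientGroup.mk_inv]
        exact inv_mul_eq_one.mpr hpc
      refine hfix c ?_
      rw [show c = p * (p⁻¹ * c) by group]
      refine mul_mem hp ?_
      rcases h.mk_eq_one.mp h1 with h1 | h1 <;> rw [h1]
      · exact one_mem _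
      · exact h.z_mem_sylow P
    have hcc := h.four_of_mk hc2
    have hτx : τ x = c⁻¹ * x := by
      rw [hc, map_inv, mul_inv_rev, inv_inv]; group
    have : x = c⁻¹ * (c⁻¹ * x) := by
      have h2 : τ (τ x) = x := by rw [← MulAut.mul_apply, hτ, MulAut.one_apply]
      conv_lhs => rw [← h2, hτx, map_mul, map_inv, hcfix, hτx]
    rw [← mul_assoc, right_eq_mul, ← mul_inv_rev, hcc, inv_eq_one] at this
    exact h.uinv.ne_one this
  obtain ⟨N, hN, hodd, hNc⟩ := S0215.result P0 ⟨u, huW⟩
    (by rw [orderOf_mk]; exact hu2) huP0 hiso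
  let ι : Xb →* W := (MulAut.conj : Xb →* MulAut Xb).codRestrict W
    fun y => le_sup_left (α := Subgroup _) ⟨y, rfl⟩
  have hbot : N.comap ι = ⊥ := h.normal_odd_eq_bot (hN.comap ι) (hodd.of_dvd_nat
    (Subgroup.card_comap_dvd_of_injective N ι fun a b hab =>
      SylowAutSolvable.conj_injective h.center_bar (congrArg Subtype.val hab)))
  refine hne (MulEquiv.ext fun y => ?_)
  have he : ι (u y * y⁻¹) = ⟨u, huW⟩ * ι y * (⟨u, huW⟩ : W)⁻¹ * (ι y)⁻¹ := by
    refine Subtype.ext ?_
    show MulAut.conj (u y * y⁻¹) = u * MulAut.conj y * u⁻¹ * (MulAut.conj y)⁻¹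
    rw [map_mul, map_inv]
    congr 1
    ext w
    simp [MulAut.mul_apply]
  have h1 : u y * y⁻¹ ∈ N.comap ι := by rw [Subgroup.mem_comap, he]; exact hNc (ι y)
  rw [hbot, Subgroup.mem_bot] at h1
  exact mul_inv_eq_one.mp h1

/-- A perfect group acts on `X` by inner automorphisms. -/
theorem inner_of_perfect (h : QQ X z) {W : Type*} [Group W] (hW : _root_.commutator W = ⊤)
    (f : W →* MulAut X) (w : W) : ∃ x : X, f w = MulAut.conj x := by
  haveI : Fact (Nat.Prime 2) := ⟨Nat.prime_two⟩
  obtain ⟨P⟩ := (inferInstance : Nonempty (Sylow 2 X))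
  obtain ⟨T, k, hk, ⟨e⟩, -⟩ := h.exists_sylow_bar P
  haveI : Group.IsSolvable (Cfsg.Out Xb) := by
    refine SylowAutSolvable.Ranks.out_of_two_generated (fun H _ _ hH => S0205.result hH)
      h.center_bar h.oddCore_bar T ⟨e.symm (.r 1), e.symm (.sr 0), ?_⟩
    apply Subgroup.map_injective (f := e.toMonoidHom) e.injective
    rw [MonoidHom.map_closure, Subgroup.map_top_of_surjective _ e.surjective, eq_top_iff]
    rintro g -
    have hr : (DihedralGroup.r 1 : DihedralGroup (2 ^ k)) ∈
        closure (e.toMonoidHom '' {e.symm (.r 1), e.symm (.sr 0)}) :=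
      subset_closure ⟨_, Or.inl rfl, e.apply_symm_apply _⟩
    have hs : (DihedralGroup.sr 0 : DihedralGroup (2 ^ k)) ∈
        closure (e.toMonoidHom '' {e.symm (.r 1), e.symm (.sr 0)}) :=
      subset_closure ⟨_, Or.inr rfl, e.apply_symm_apply _⟩
    haveI : NeZero (2 ^ k) := ⟨by positivity⟩
    rcases g with i | i
    · rw [show DihedralGroup.r i = (DihedralGroup.r 1 : DihedralGroup (2 ^ k)) ^ i.val by
        rw [DihedralGroup.r_one_pow, ZMod.natCast_zmod_val]]
      exact pow_mem hr _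
    · rw [show DihedralGroup.sr i = DihedralGroup.sr 0 *
        (DihedralGroup.r 1 : DihedralGroup (2 ^ k)) ^ i.val by
        rw [DihedralGroup.r_one_pow, ZMod.natCast_zmod_val, DihedralGroup.sr_mul_r, zero_add]]
      exact mul_mem hs (pow_mem hr _)
  haveI : (Cfsg.Inn Xb).Normal := SylowAutSolvable.inn_normal
  have hmem := SylowAutSolvable.FixInvolutions.hom_eq_one hW
    ((QuotientGroup.mk' (Cfsg.Inn Xb)).comp (bar.comp f)) w
  obtain ⟨y, hy⟩ := (QuotientGroup.eq_one_iff _).mp hmem
  induction y using QuotientGroup.induction_on with | H y => ?_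
  exact ⟨y, h.bar_injective (by rw [bar_conj]; exact hy.symm)⟩

/-- The fixed points in the central quotient of an automorphism whose fixed 2-elements are central. -/
theorem solvable_fix (h : QQ X z) (τ : MulAut X)
    (hfix : ∀ x, τ x = x → (∃ k : ℕ, x ^ 2 ^ k = 1) → x = 1 ∨ x = z) :
    Group.IsSolvable ((bar τ).toMonoidHom.eqLocus (MonoidHom.id Xb)) := by
  haveI : Fact (Nat.Prime 2) := ⟨Nat.prime_two⟩
  set F : Subgroup X := τ.toMonoidHom.eqLocus (MonoidHom.id X) with hF
  haveI hFs : Group.IsSolvable F := by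
    set C0 := (Subgroup.center X).subgroupOf F with hC0
    have hodd : Odd C0.index := by
      rw [← Nat.coprime_two_right, Nat.coprime_comm, Nat.prime_two.coprime_iff_not_dvd]
      obtain ⟨P⟩ := (inferInstance : Nonempty (Sylow 2 F))
      refine fun hd => P.not_dvd_index (hd.trans (index_dvd_of_le fun x hx => ?_))
      obtain ⟨j, hj⟩ := P.2 ⟨x, hx⟩
      rw [hC0, mem_subgroupOf]
      rcases hfix x x.2 ⟨j, congrArg Subtype.val (congrArg Subtype.val hj)⟩ with h1 | h1 <;> rw [h1]
      · exact one_mem _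
      · exact h.z_mem_center
    haveI : C0.Normal := inferInstance
    haveI : Group.IsSolvable (↥F ⧸ C0) := S0205.result (by rwa [← Subgroup.index_eq_card])
    haveI : Group.IsSolvable C0 := Group.isSolvable_of_comm fun a b =>
      Subtype.ext (Subtype.ext (mem_center_iff.mp (show ((b : F) : X) ∈ Subgroup.center X from b.2) a))
    exact Group.isSolvable_of_ker_le_range C0.subtype (QuotientGroup.mk' C0)
      (by rw [QuotientGroup.ker_mk', range_subtype])
  set Fb := ((bar τ).toMonoidHom.eqLocus (MonoidHom.id Xb))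
  set Fp := Fb.comap (QuotientGroup.mk' (Subgroup.center X))
  have hd : ∀ x ∈ Fp, x⁻¹ * τ x ∈ Subgroup.center X := fun x hx => by
    rw [← QuotientGroup.eq_one_iff, QuotientGroup.mk_mul, QuotientGroup.mk_inv, inv_mul_eq_one]
    exact (show bar τ (x : Xb) = (x : Xb) from hx).symm
  let d : Fp →* Subgroup.center X :=
    MonoidHom.mk' (fun x => ⟨(x : X)⁻¹ * τ x, hd x x.2⟩) fun a b => Subtype.ext (by
      show (a * b : X)⁻¹ * τ (a * b : X) = (a : X)⁻¹ * τ a * ((b : X)⁻¹ * τ b)
      rw [map_mul, mul_inv_rev, mul_assoc, ← mul_assoc (a : X)⁻¹, ← mul_assoc,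
        mem_center_iff.mp (hd a a.2) (b : X)⁻¹]
      group)
  haveI : Group.IsSolvable (Subgroup.center X) :=
    Group.isSolvable_of_comm fun a b => Subtype.ext (mem_center_iff.mp b.2 a)
  haveI : Group.IsSolvable ↥(F.subgroupOf Fp) :=
    Group.isSolvable_of_isSolvable_injective
      (f := (MonoidHom.mk' (fun x => (⟨((x : Fp) : X), x.2⟩ : F)) fun _ _ => rfl :
        ↥(F.subgroupOf Fp) →* F))
      fun a b e => Subtype.ext (Subtype.ext (congrArg Subtype.val e :))
  haveI : Group.IsSolvable Fp := by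
    refine Group.isSolvable_of_ker_le_range (F.subgroupOf Fp).subtype d fun x hx => ?_
    rw [range_subtype, mem_subgroupOf]
    exact (inv_mul_eq_one.mp (congrArg Subtype.val (MonoidHom.mem_ker.mp hx))).symm
  exact Group.isSolvable_of_surjective
    (f := (MonoidHom.mk' (fun x => (⟨QuotientGroup.mk' _ (x : X), x.2⟩ : Fb)) fun _ _ => rfl :
      Fp →* Fb)) fun y => by
    obtain ⟨x, hx⟩ := QuotientGroup.mk'_surjective (Subgroup.center X) (y : Xb)
    exact ⟨⟨x, show QuotientGroup.mk' _ x ∈ Fb by rw [hx]; exact y.2⟩, Subtype.ext hx⟩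

/-- A perfect group commuting with `τ` acts trivially if `τ` has solvable fixed-point group. -/
theorem trivial_of_commute (h : QQ X z) {τ : MulAut X}
    (hτ : Group.IsSolvable ((bar τ).toMonoidHom.eqLocus (MonoidHom.id Xb)))
    {W : Type*} [Group W] (hW : _root_.commutator W = ⊤) (f : W →* MulAut X)
    (hc : ∀ w, Commute τ (f w)) (w : W) : f w = 1 := by
  set Fb := ((bar τ).toMonoidHom.eqLocus (MonoidHom.id Xb))
  have hinj := SylowAutSolvable.conj_injective h.center_bar
  have hin : ∀ w, bar (f w) ∈ Fb.map (MulAut.conj : Xb →* MulAut Xb) := fun w => by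
    obtain ⟨x, hx⟩ := h.inner_of_perfect hW f w
    refine ⟨(x : Xb), ?_, by rw [← bar_conj, hx]⟩
    show bar τ (x : Xb) = (x : Xb)
    have h1 : τ * MulAut.conj x = MulAut.conj x * τ := hx ▸ hc w
    rw [conj_map] at h1
    have h2 := congrArg bar (mul_right_cancel h1)
    rw [bar_conj, bar_conj] at h2
    exact hinj h2
  haveI := hτ
  haveI : Group.IsSolvable ↥(Fb.map (MulAut.conj : Xb →* MulAut Xb)) :=
    Group.isSolvable_of_surjective ((MulAut.conj : Xb →* MulAut Xb).subgroupMap_surjective Fb)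
  have := SylowAutSolvable.FixInvolutions.hom_eq_one hW ((bar.comp f).codRestrict _ hin) w
  exact h.bar_injective ((congrArg Subtype.val this).trans (map_one _).symm)

/-- A central involution of a perfect group acts trivially. -/
theorem eq_one_of_central (h : QQ X z) {W : Type*} [Group W] (hW : _root_.commutator W = ⊤)
    (f : W →* MulAut X) {u : W} (hu : u * u = 1) (hc : ∀ w, Commute u w) : f u = 1 := by
  by_contra hne
  obtain ⟨k, hk⟩ := h.inner_of_perfect hW f u
  have hb : bar (f u) = MulAut.conj (k : Xb) := by rw [hk, bar_conj]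
  have h2 : orderOf (k : Xb) = 2 := by
    rw [Involutions.Basic.orderOf_two_iff]
    refine ⟨SylowAutSolvable.conj_injective h.center_bar ?_, fun h1 => hne ?_⟩
    · rw [map_mul, ← hb, ← map_mul, ← map_mul f, hu, map_one, map_one, map_one]
    · apply h.bar_injective
      rw [hb, h1, map_one, map_one]
  have he : (bar (f u)).toMonoidHom.eqLocus (MonoidHom.id Xb) = centralizer ({(k : Xb)} : Set Xb) := by
    ext y
    rw [Subgroup.mem_centralizer_singleton_iff]
    show bar (f u) y = y ↔ _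
    rw [hb, MulAut.conj_apply, mul_inv_eq_iff_eq_mul]
    exact ⟨fun e => e.symm, fun e => e.symm⟩
  exact hne (h.trivial_of_commute (τ := f u) (he ▸ h.centralizer_solvable h2) hW f
    (fun w => (hc w).map f) u)

end QQ

end Cfsg.Agent.IntrinsicPair
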