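import Cfsg.Agent.Lib.Components.IntrinsicPair.Setup
import Cfsg.Agent.Lib.Components.SylowCentralizer

/-!
Components of the centralizer of a second involution `t` in `C(z)/O(C(z))`, perfect subgroups, and
fixed points of an involution on a quaternion group.
-/

set_option autoImplicit false
set_option linter.style.haveILetI false
set_option linter.unusedSectionVars false

namespace Cfsg.Agent.IntrinsicPair

open Subgroup
open scoped commutatorElement
open Cfsg.Agent.Components.Basic Cfsg.Agent.Components.PComponents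

universe u

variable {G : Type u} [Group G] [Finite G]

local instance fact_two' : Fact (Nat.Prime 2) := ⟨Nat.prime_two⟩

/-! ### Perfect subgroups -/

/-- In a perfect group, two elements outside a subgroup can be chosen with product outside. -/
lemma perfect_le_or {W S : Subgroup G} (hW : ⁅W, W⁆ = W)
    (h : ∀ x ∈ W, ∀ y ∈ W, x ∉ S → y ∉ S → x * y ∈ S) : W ≤ S := by
  intro a ha
  by_contra haS
  have hmem : ∀ w ∈ W, w ∉ S → a⁻¹ * w ∈ S := by
    intro w hw hwS
    exact h _ (W.inv_mem ha) _ hw (fun e => haS (by simpa using S.inv_mem e)) hwS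
  have hn : ∀ x ∈ W, ∀ s ∈ W, s ∈ S → x * s * x⁻¹ ∈ S := by
    intro x hx s hs hsS
    by_cases hxS : x ∈ S
    · exact S.mul_mem (S.mul_mem hxS hsS) (S.inv_mem hxS)
    · refine h _ (W.mul_mem hx hs) _ (W.inv_mem hx) (fun e => hxS ?_)
        fun e => hxS (by simpa using S.inv_mem e)
      simpa using S.mul_mem e (S.inv_mem hsS)
  have hc : ⁅W, W⁆ ≤ S := by
    rw [commutator_le]
    intro x hx y hy
    rw [commutatorElement_def]
    by_cases hxS : x ∈ S
    · rw [show x * y * x⁻¹ * y⁻¹ = x * (y * x⁻¹ * y⁻¹) by group]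
      exact S.mul_mem hxS (hn y hy _ (W.inv_mem hx) (S.inv_mem hxS))
    by_cases hyS : y ∈ S
    · exact S.mul_mem (hn x hx y hy hyS) (S.inv_mem hyS)
    · rw [show x * y * x⁻¹ * y⁻¹ = (x * y) * (y * x)⁻¹ by group]
      exact S.mul_mem (h x hx y hy hxS hyS) (S.inv_mem (h y hy x hx hyS hxS))
  exact haS (hc (hW.symm ▸ ha))

/-- A perfect subgroup lies in a subgroup containing all its 2-elements. -/
lemma perfect_le_of_two {W S : Subgroup G} (hW : ⁅W, W⁆ = W)
    (h : ∀ x ∈ W, IsTwo x → x ∈ S) : W ≤ S := by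
  haveI : ((pGen 2 W).subgroupOf W).Normal := pGen_subgroupOf_normal W
  haveI hs : Group.IsSolvable (↥W ⧸ (pGen 2 W).subgroupOf W) := S0205.result (by
    rw [← Subgroup.index_eq_card, ← Nat.coprime_two_right]
    exact coprime_relIndex_pGen W)
  have hW' : _root_.commutator W = ⊤ := Subgroup.map_injective W.subtype_injective (by
    rw [Subgroup.map_subtype_commutator, hW, ← MonoidHom.range_eq_map, range_subtype])
  intro w hw
  have h1 := SylowAutSolvable.FixInvolutions.hom_eq_one hW'
    (QuotientGroup.mk' ((pGen 2 W).subgroupOf W)) ⟨w, hw⟩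
  have h2 : w ∈ pGen 2 W := mem_subgroupOf.mp ((QuotientGroup.eq_one_iff _).mp h1)
  exact (closure_le S).mpr (fun x hx => h x hx.1 hx.2) h2

/-- A perfect subgroup covering a perfect subgroup of the quotient. -/
lemma exists_perfect {z : G} {M : Subgroup G} (hM : M ≤ C z) {P : Subgroup (Q z)}
    (hP : ⁅P, P⁆ = P) (h : P ≤ im z M) : ∃ L ≤ M, ⁅L, L⁆ = L ∧ P ≤ im z L := by
  obtain ⟨L, hLM, hL, hmin⟩ := exists_minimal_le (fun L => P ≤ im z L) h
  refine ⟨L, hLM, hmin _ (commutator_le_self L) ?_, hL⟩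
  have hLC : L ≤ C z := hLM.trans hM
  have e : (⁅L, L⁆).subgroupOf (C z) = ⁅L.subgroupOf (C z), L.subgroupOf (C z)⁆ := by
    apply Subgroup.map_injective (C z).subtype_injective
    rw [map_commutator, map_subgroupOf_eq_of_le hLC,
      map_subgroupOf_eq_of_le ((commutator_le_self L).trans hLC)]
  rw [im, e, map_commutator, ← hP]
  exact commutator_mono hL hL

/-! ### A fixed point of an involution on a quaternion group -/

/-- An involution `x` normalizing but not centralizing a 2-group with unique involution `z` sends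
some element `n` to `n * z`. -/
lemma exists_n {S : Subgroup G} {z x : G} (h : UInv S z) (hS : IsPGroup 2 S) (hx : x * x = 1)
    (hn : x ∈ normalizer (S : Set G)) (hne : ¬ ∀ s ∈ S, Commute x s) :
    ∃ n ∈ S, x * n * x⁻¹ = n * z := by
  set W := S ⊓ C x with hW
  have hzx : Commute x z := h.comm hn
  have hTp : IsPGroup 2 ↥(S ⊔ zpowers x) :=
    IsPGroup.to_sup_of_normal_left' hS (IsTwo.isPGroup ⟨1, by rw [pow_one, sq, hx]⟩)
      (zpowers_le.mpr hn)
  -- the normalizer of the fixed points is invariant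
  set N := S ⊓ normalizer (W : Set G) with hN
  have hxW : x ∈ normalizer (W : Set G) := by
    refine mem_normalizer_iff.mpr fun w => ?_
    have hxinv : x⁻¹ = x := inv_eq_of_mul_eq_one_right hx
    constructor
    · rintro ⟨hwS, hwC⟩
      refine ⟨(mem_normalizer_iff.mp hn w).mp hwS, mem_C.mpr ?_⟩
      rw [((mem_C.mp hwC).symm).eq, mul_inv_cancel_right]
      exact mem_C.mp hwC
    · rintro ⟨hwS, hwC⟩
      have hw' : w ∈ S := (mem_normalizer_iff.mp hn w).mpr hwS
      refine ⟨hw', mem_C.mpr ?_⟩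
      have h1 : (x * w * x⁻¹) * x = x * (x * w * x⁻¹) := mem_C.mp hwC
      rw [inv_mul_cancel_right, ← mul_assoc, ← mul_assoc, hx, one_mul, hxinv] at h1
      exact h1.symm
  have hxN : x ∈ normalizer (N : Set G) := by
    have h2 : normalizer (W : Set G) ⊓ normalizer (S : Set G) ≤ normalizer (N : Set G) :=
      le_trans (le_inf inf_le_right (inf_le_left.trans le_normalizer))
        inf_normalizer_le_normalizer_inf
    exact h2 ⟨hxW, hn⟩
  have hlt : W < N := by
    refine lt_of_le_of_ne (le_inf inf_le_left le_normalizer) fun e => hne fun s hs => ?_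
    haveI := hS.isNilpotent
    have hlt' : W.subgroupOf S ≠ ⊤ → W.subgroupOf S < normalizer (W.subgroupOf S : Set S) :=
      fun h' => Group.normalizerCondition_of_isNilpotent (G := S) _ (lt_top_iff_ne_top.mpr h')
    by_cases htop : W.subgroupOf S = ⊤
    · exact (mem_C.mp (mem_inf.mp (subgroupOf_eq_top.mp htop hs)).2).symm
    exfalso
    obtain ⟨s', hs', hs''⟩ := SetLike.exists_of_lt (hlt' htop)
    refine hs'' ?_
    have : (s' : G) ∈ N := ⟨s'.2, by
      refine mem_normalizer_iff.mpr fun w => ?_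
      constructor
      · intro hw
        exact (mem_normalizer_iff.mp hs' ⟨w, hw.1⟩).mp hw
      · intro hw
        have hwS : w ∈ S := by
          have := S.mul_mem (S.mul_mem (S.inv_mem s'.2) hw.1) s'.2
          rwa [show (s' : G)⁻¹ * ((s' : G) * w * (s' : G)⁻¹) * s' = w by group] at this
        exact (mem_normalizer_iff.mp hs' ⟨w, hwS⟩).mpr hw⟩
    rw [← e] at this
    exact this
  have hxT : x ∈ S ⊔ zpowers x := le_sup_right (α := Subgroup G) (mem_zpowers x)
  set T := N ⊔ zpowers x with hT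
  have hTT : T ≤ S ⊔ zpowers x := sup_le_sup_right inf_le_left _
  obtain ⟨n, hnN, hnW, hfix⟩ := Components.SylowCentralizer.exists_fixed_step (p := 2)
    (hTp.to_le hTT) hlt (le_sup_left) (sup_le le_normalizer (zpowers_le.mpr hxN))
    (sup_le inf_le_right (zpowers_le.mpr hxW))
  refine ⟨n, hnN.1, ?_⟩
  have hd := hfix x (le_sup_right (α := Subgroup G) (mem_zpowers x))
  rw [commutatorElement_def] at hd
  set d := x * n * x⁻¹ * n⁻¹ with hdd
  have hdC : Commute d x := mem_C.mp hd.2
  have hxn : x * n * x⁻¹ = d * n := by rw [hdd]; group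
  have hd2 : d * d = 1 := by
    have h1 : x * (d * n) * x⁻¹ = n := by
      rw [← hxn, show x * (x * n * x⁻¹) * x⁻¹ = (x * x) * n * (x * x)⁻¹ by group, hx]; group
    rw [show x * (d * n) * x⁻¹ = (x * d * x⁻¹) * (x * n * x⁻¹) by group, hxn,
      ← hdC.eq, mul_inv_cancel_right, ← mul_assoc] at h1
    exact mul_eq_right.mp h1
  have hd1 : d ≠ 1 := by
    intro e
    refine hnW ⟨hnN.1, mem_C.mpr ?_⟩
    rw [e, one_mul] at hxn
    exact (mul_inv_eq_iff_eq_mul.mp hxn).symm
  rw [hxn, h.eq_of_sq hd.1 hd2 hd1]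
  exact ((h.comm (le_normalizer hnN.1)).eq).symm

/-! ### Components centralized or permuted by `t` -/

/-- The centralizer of `z` and `t`. -/
abbrev H (z t : G) : Subgroup G := C z ⊓ C t

lemma H_le_left (z t : G) : H z t ≤ C z := inf_le_left

/-- A component of `C(t̄)` against the image of a subnormal subgroup of `H`. -/
lemma cen_dich {z t : G} (htC : t ∈ C z) (ht : orderOf t = 2) {R : Subgroup (Q z)}
    (hRa : R ≤ centralizer ({pr z t} : Set (Q z)))
    (hR : Cfsg.IsComponent (R.subgroupOf (centralizer ({pr z t} : Set (Q z)))))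
    {M : Subgroup G} (hMH : M ≤ H z t) (hM : (M.subgroupOf (H z t)).IsSubnormal) :
    R ≤ im z M ∨ ∀ q ∈ R, ∀ m ∈ M, Commute q (pr z m) := by
  set Ca := centralizer ({pr z t} : Set (Q z))
  let φ : H z t →* Ca := MonoidHom.mk' (fun x => ⟨pr z x, mem_centralizer_singleton_iff.mpr (by
      rw [← pr_mul x.2.1 htC, ← pr_mul htC x.2.1, (mem_C.mp x.2.2).eq])⟩)
    fun a b => Subtype.ext (pr_mul a.2.1 b.2.1)
  have hφ : Function.Surjective φ := by
    rintro ⟨q, hq⟩
    obtain ⟨x, hx, rfl⟩ := pr_surj q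
    obtain ⟨o, -, hoC, ho1, hc⟩ :=
      commute_lift hx htC ht (mem_centralizer_singleton_iff.mp hq : _)
    refine ⟨⟨o * x, (C z).mul_mem hoC hx, mem_C.mpr hc⟩, Subtype.ext ?_⟩
    show pr z (o * x) = pr z x
    rw [pr_mul hoC hx, ho1, one_mul]
  rcases component_le_or_commutator_eq_bot hR (hM.map hφ) with h | h
  · left
    intro q hq
    obtain ⟨m, hm, he⟩ := h (show (⟨q, hRa hq⟩ : Ca) ∈ R.subgroupOf Ca from hq)
    rw [← show pr z (m : G) = q from congrArg Subtype.val he]
    exact pr_mem_im (hMH.trans (H_le_left z t)) hm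
  · right
    intro q hq m hm
    have h1 := mem_centralizer_iff.mp (commutator_eq_bot_iff_le_centralizer.mp h
      (show (⟨q, hRa hq⟩ : Ca) ∈ R.subgroupOf Ca from hq))
      (φ ⟨m, hMH hm⟩) ⟨⟨m, hMH hm⟩, hm, rfl⟩
    exact (congrArg Subtype.val h1).symm

lemma cen_solvable {z t : G} (htC : t ∈ C z) (ht : orderOf t = 2) {R : Subgroup (Q z)}
    (hRa : R ≤ centralizer ({pr z t} : Set (Q z)))
    (hR : Cfsg.IsComponent (R.subgroupOf (centralizer ({pr z t} : Set (Q z)))))
    {M : Subgroup G} (hMH : M ≤ H z t) (hM : (M.subgroupOf (H z t)).IsSubnormal)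
    (hs : Group.IsSolvable M) : ∀ q ∈ R, ∀ m ∈ M, Commute q (pr z m) := by
  refine (cen_dich htC ht hRa hR hMH hM).resolve_left fun hle => ?_
  haveI : Group.IsSolvable ↥(M.subgroupOf (C z)) :=
    Group.isSolvable_of_isSolvable_injective
      (f := (subgroupOfEquivOfLe (hMH.trans (H_le_left z t))).toMonoidHom) (MulEquiv.injective _)
  haveI : Group.IsSolvable ↥(im z M) :=
    Group.isSolvable_of_surjective ((QuotientGroup.mk' _).subgroupMap_surjective _)
  exact component_not_isSolvable hR (Group.isSolvable_of_isSolvable_injective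
    (f := (Subgroup.inclusion hle).comp (subgroupOfEquivOfLe hRa).toMonoidHom)
    ((Subgroup.inclusion_injective hle).comp (MulEquiv.injective _)))

namespace Comp

variable {J : Subgroup G} {z t : G}

/-- When `t` acts trivially, `J` gives a component of `C(t̄)`. -/
lemma fix_component (h : Comp J z) (htr : Triv z J t) :
    im z J ≤ centralizer ({pr z t} : Set (Q z)) ∧
      Cfsg.IsComponent ((im z J).subgroupOf (centralizer ({pr z t} : Set (Q z)))) := by
  have hle : im z J ≤ centralizer ({pr z t} : Set (Q z)) := by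
    intro q hq
    obtain ⟨j, hj, rfl⟩ := (mem_im h.le).mp hq
    exact mem_centralizer_singleton_iff.mpr (htr j hj).eq.symm
  exact ⟨hle, component_subgroupOf h.component hle⟩

/-- When `t` moves `J`, the diagonal is a component of `C(t̄)`. -/
lemma diag_component (h : Comp J z) (htC : t ∈ C z) (ht : orderOf t = 2) (hmov : cj t J ≠ J) :
    ∃ R : Subgroup (Q z), R ≤ centralizer ({pr z t} : Set (Q z)) ∧
      Cfsg.IsComponent (R.subgroupOf (centralizer ({pr z t} : Set (Q z)))) ∧
      (∀ q, q ∈ R ↔ ∃ j ∈ J, q = pr z (j * (t * j * t⁻¹))) := by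
  set a := pr z t
  set D := im z J
  set Da := D.map (MulAut.conj a).toMonoidHom with hDa
  have hh : ⁅D, Da⁆ = ⊥ := component_commutator_eq_bot_of_ne h.component
    (component_conj h.component a) fun e => hmov ((h.conj_of_mem htC).ext h (by
      rw [h.im_cj htC]; exact e.symm))
  set δ := Components.ComponentTwo.diag D a hh
  have hδ : ∀ x : D, δ x = x * (a * x * a⁻¹) := fun _ => rfl
  set R := δ.range with hRdef
  have ha2 : a * a = 1 := by
    rw [← pr_mul htC htC, Involutions.Basic.inv_sq_one ht, pr_one]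
  have hai : a⁻¹ = a := inv_eq_of_mul_eq_one_right ha2
  have hRa : R ≤ centralizer ({a} : Set (Q z)) := by
    rintro _ ⟨x, rfl⟩
    rw [mem_centralizer_singleton_iff, hδ]
    have hc : (x : Q z) * (a * x * a⁻¹) = a * x * a⁻¹ * x :=
      (mem_centralizer_iff.mp (commutator_eq_bot_iff_le_centralizer.mp hh x.2) _
        ⟨x, x.2, rfl⟩).symm
    calc (x : Q z) * (a * x * a⁻¹) * a = a * (a * x * a⁻¹ * x) := by
          rw [hai, show (x : Q z) * (a * x * a) * a = x * a * x * (a * a) by group,
            show a * (a * (x : Q z) * a * x) = a * a * (x * a * x) by group, ha2, mul_one, one_mul]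
      _ = a * ((x : Q z) * (a * x * a⁻¹)) := by rw [← hc]
  refine ⟨R, hRa, ⟨?_, ?_⟩, fun q => ?_⟩
  · -- subnormal
    set Ca := centralizer ({a} : Set (Q z))
    set E := D ⊔ Da
    have hEl : E ≤ Cfsg.layer (Q z) :=
      sup_le (le_layer h.component) (le_layer (component_conj h.component a))
    have hEn : Cfsg.layer (Q z) ≤ normalizer (E : Set (Q z)) :=
      fun g hg => mem_normalizer_iff_map_conj_eq.mpr ((Subgroup.map_sup D Da _).trans (congrArg₂ (· ⊔ ·)
        (mem_normalizer_iff_map_conj_eq.mp (Components.Basic.layer_le_normalizer h.component hg))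
        (mem_normalizer_iff_map_conj_eq.mp
          (Components.Basic.layer_le_normalizer (component_conj h.component a) hg))))
    have hE : E.IsSubnormal := IsSubnormal.trans hEl
      (normal_subgroupOf_of_le_normalizer hEn).isSubnormal
      (inferInstance : (Cfsg.layer (Q z)).Normal).isSubnormal
    have hRE : R ≤ E := by
      rintro _ ⟨x, rfl⟩
      exact mul_mem (mem_sup_left x.2) (mem_sup_right ⟨x, x.2, rfl⟩)
    have hRn : E.subgroupOf Ca ≤ normalizer (R.subgroupOf Ca : Set Ca) := by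
      have key : ∀ g : Q z, g ∈ E → g ∈ Ca → ∀ r ∈ R, g * r * g⁻¹ ∈ R := by
        rintro g hgE hgC _ ⟨x, rfl⟩
        have hgD : g * x * g⁻¹ ∈ D :=
          (mem_normalizer_iff.mp (Components.Basic.layer_le_normalizer h.component (hEl hgE)) _).mp x.2
        refine ⟨⟨_, hgD⟩, ?_⟩
        rw [hδ, hδ]
        show g * x * g⁻¹ * (a * (g * x * g⁻¹) * a⁻¹) = g * (x * (a * x * a⁻¹)) * g⁻¹
        have hga : a * g = g * a := (mem_centralizer_singleton_iff.mp hgC).symm
        have hga' : g⁻¹ * a⁻¹ = a⁻¹ * g⁻¹ := by rw [← mul_inv_rev, hga, mul_inv_rev]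
        calc g * x * g⁻¹ * (a * (g * x * g⁻¹) * a⁻¹)
            = g * x * g⁻¹ * ((a * g) * x * (g⁻¹ * a⁻¹)) := by group
          _ = g * x * g⁻¹ * ((g * a) * x * (a⁻¹ * g⁻¹)) := by rw [hga, hga']
          _ = g * ((x : Q z) * (a * x * a⁻¹)) * g⁻¹ := by group
      intro g hg
      refine mem_normalizer_iff.mpr fun r => ⟨key g hg g.2 r, fun hr => ?_⟩
      have := key (g : Q z)⁻¹ (E.inv_mem hg) (Ca.inv_mem g.2) _ hr
      rw [mem_subgroupOf]
      simpa [mul_assoc] using this
    exact IsSubnormal.trans (fun x hx => hRE hx)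
      (normal_subgroupOf_of_le_normalizer hRn).isSubnormal hE.subgroupOf
  · refine (isQuasisimple_congr (subgroupOfEquivOfLe hRa)).mpr ?_
    haveI : Nontrivial R := by
      rw [Subgroup.nontrivial_iff_ne_bot]
      intro hbot
      refine hmov ((h.conj_of_mem htC).ext h ?_)
      rw [h.im_cj htC]
      refine (eq_of_le_of_card_ge (fun x hx => ?_)
        (Subgroup.card_map_of_injective (MulAut.conj a).injective).le).symm
      have h1 : δ ⟨x, hx⟩ ∈ R := ⟨⟨x, hx⟩, rfl⟩
      rw [hbot, Subgroup.mem_bot, hδ] at h1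
      rw [show x = (a * x * a⁻¹)⁻¹ from eq_inv_of_mul_eq_one_left h1]
      exact inv_mem (show a * x * a⁻¹ ∈ Da from ⟨x, hx, rfl⟩)
    exact Components.Local.isQuasisimple_of_surjective δ.rangeRestrict_surjective h.component.2
  · constructor
    · rintro ⟨⟨p, hp⟩, rfl⟩
      obtain ⟨j, hj, rfl⟩ := (mem_im h.le).mp hp
      refine ⟨j, hj, ?_⟩
      rw [hδ, pr_mul (h.le hj) ((C z).mul_mem ((C z).mul_mem htC (h.le hj)) ((C z).inv_mem htC)),
        pr_conj htC (h.le hj)]
    · rintro ⟨j, hj, rfl⟩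
      refine ⟨⟨pr z j, pr_mem_im h.le hj⟩, ?_⟩
      rw [hδ, pr_mul (h.le hj) ((C z).mul_mem ((C z).mul_mem htC (h.le hj)) ((C z).inv_mem htC)),
        pr_conj htC (h.le hj)]

lemma inter_H (h : Comp J z) : J ⊓ C t ≤ H z t := le_inf (inf_le_left.trans h.le) inf_le_right

lemma inter_subnormal (h : Comp J z) : ((J ⊓ C t).subgroupOf (H z t)).IsSubnormal := by
  have h1 : ((J.subgroupOf (C z)).comap (inclusion (H_le_left z t))).IsSubnormal :=
    h.pc.1.comap _
  convert h1 using 1
  ext ⟨x, hx⟩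
  show x ∈ J ⊓ C t ↔ x ∈ J
  exact ⟨fun e => e.1, fun e => ⟨e, hx.2⟩⟩

end Comp

end Cfsg.Agent.IntrinsicPair
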