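import Cfsg.Agent.Lib.Components.IntrinsicPair.OneBase

/-!
Part (i), the case where the element `a` fixes `K`.
-/

set_option autoImplicit false
set_option linter.style.haveILetI false
set_option linter.unusedSectionVars false

namespace Cfsg.Agent.IntrinsicPair

open Subgroup

universe u

variable {G : Type u} [Group G] [Finite G]

/-- An element of odd order permuting two points fixes both. -/
lemma odd_fix {o : G} {A B : Subgroup G} (ho : Odd (orderOf o)) (hne : A ≠ B)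
    (hA : cj o A = A ∨ cj o A = B) (hB : cj o B = A ∨ cj o B = B) : cj o A = A ∧ cj o B = B := by
  have h1 : cj o A = A := by
    refine hA.resolve_right fun h => hne ?_
    have h2 : cj o B = A := hB.resolve_right fun h' => hne (cj_inj (h.trans h'.symm))
    have h3 : o * o ∈ normalizer (A : Set G) := mem_norm_iff.mpr (by rw [cj_mul, h, h2])
    obtain ⟨m, hm⟩ := ho
    have h4 : o = (o * o) ^ (m + 1) := by
      rw [← sq, ← pow_mul, show 2 * (m + 1) = orderOf o + 1 by omega, pow_succ, pow_orderOf_eq_one,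
        one_mul]
    have h5 : o ∈ normalizer (A : Set G) := h4 ▸ pow_mem h3 _
    exact (mem_norm_iff.mp h5).symm.trans h
  exact ⟨h1, hB.resolve_left fun h => hne (cj_inj (h1.trans h.symm))⟩

namespace Cfg

variable {J K R T T2 : Subgroup G} {z t y : G}

/-- The components at `z` on which `t = a⁻¹ a'` acts nontrivially are `J` and `J'`. -/
lemma pair_of_mem (c : Cfg J K R T T2 z t y) {a : G} (haJ : a ∈ J) (ht : a⁻¹ * (y * a * y⁻¹) = t)
    {x : G} (hx : x ∈ H z t) {Jb : Subgroup G} (hJb : Jb = J ∨ Jb = cj y J) :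
    cj x Jb = J ∨ cj x Jb = cj y J := by
  have hb : Comp Jb z := by rcases hJb with rfl | rfl; exacts [c.hJ, c.hJ']
  have hX := hb.conj_of_mem hx.1
  by_contra hn
  push Not at hn
  have htriv : Triv z (cj x Jb) t := fun j hj => by
    rw [← ht, pr_mul ((C z).inv_mem (c.hJ.le haJ)) (c.hJ'.le (conj_mem_cj haJ)),
      pr_inv (c.hJ.le haJ)]
    exact ((c.hJ.comm_of_ne hX (Ne.symm hn.1) haJ hj).inv_left).mul_left
      (c.hJ'.comm_of_ne hX (Ne.symm hn.2) (conj_mem_cj haJ) hj)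
  have h1 := hX.triv_conj ((C z).inv_mem hx.1) c.tC htriv
  rw [← cj_mul, inv_mul_cancel, cj_one, inv_inv,
    show x⁻¹ * t * x = t by rw [mul_assoc, (mem_C.mp hx.2).eq.symm, inv_mul_cancel_left]] at h1
  rcases hJb with rfl | rfl
  · exact c.tJ_nontriv h1
  · refine c.tJ_nontriv ?_
    have h2 := c.hJ'.triv_conj ((C z).inv_mem c.yC) c.tC h1
    rwa [← cj_mul, inv_mul_cancel, cj_one, inv_inv,
      show y⁻¹ * t * y = t by rw [mul_assoc, c.t_y, inv_mul_cancel_left]] at h2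

/-- Elements of `R ∩ J` have order at most four. -/
lemma sq_cases (c : Cfg J K R T T2 z t y) {x : G} (hxR : x ∈ R) (hxJ : x ∈ J) :
    x * x = 1 ∨ x * x = z := by
  set x' := y * x * y⁻¹ with hx'
  have hw : Commute y (x⁻¹ * x') := by
    by_cases hfix : cj x⁻¹ K = K
    · refine c.commute_P y ⟨c.hyR, c.hyK⟩ _ ⟨R.mul_mem (R.inv_mem hxR) (c.conj_yR hxR), ?_⟩
      show x⁻¹ * x' ∈ K
      rw [hx', show x⁻¹ * (y * x * y⁻¹) = (x⁻¹ * y * x⁻¹⁻¹) * y⁻¹ by group]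
      exact K.mul_mem (hfix ▸ conj_mem_cj c.hyK) (K.inv_mem c.hyK)
    · have hK'' := c.hK.conj_of_mem ((C t).inv_mem (c.RCt hxR))
      have hm : x⁻¹ * y * x⁻¹⁻¹ ∈ cj x⁻¹ K := conj_mem_cj c.hyK
      have hmR : x⁻¹ * y * x⁻¹⁻¹ ∈ R :=
        R.mul_mem (R.mul_mem (R.inv_mem hxR) c.hyR) (R.inv_mem (R.inv_mem hxR))
      have := (c.hK.commute_exact hK'' (Ne.symm hfix) c.hR.two c.RCt c.hyR c.hyK hmR hm).mul_right
        (Commute.refl y).inv_right
      rwa [hx', show x⁻¹ * (y * x * y⁻¹) = (x⁻¹ * y * x⁻¹⁻¹) * y⁻¹ by group]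
  set x'' := y * x' * y⁻¹ with hx''
  have hx''J : x'' ∈ J := c.conj_back (conj_mem_cj hxJ)
  have hcom : Commute x x' :=
    c.comm_T (c.hRT hxR) hxJ (c.conj_yT (c.hRT hxR)) (conj_mem_cj hxJ)
  have h1 : x'⁻¹ * x'' = x⁻¹ * x' :=
    calc x'⁻¹ * x'' = y * (x⁻¹ * x') * y⁻¹ := by rw [hx'', hx']; group
      _ = x⁻¹ * x' := by rw [hw.eq, mul_inv_cancel_right]
  have h2 : x'' * x = x' * x' := by
    rw [inv_mul_eq_iff_eq_mul.mp h1, mul_assoc, mul_assoc x⁻¹, hcom.symm.eq, inv_mul_cancel_left]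
  have h2p : IsTwo (x' * x') :=
    isTwo_of_pgroup c.hR.two (R.mul_mem (c.conj_yR hxR) (c.conj_yR hxR))
  have hxx : x * x = y⁻¹ * (x' * x') * y := by rw [hx']; group
  rcases c.hJ.meet_cases c.hJ' c.hJne (h2 ▸ J.mul_mem hx''J hxJ)
    ((cj y J).mul_mem (conj_mem_cj hxJ) (conj_mem_cj hxJ)) h2p with e | e
  · left; rw [hxx, e, mul_one, inv_mul_cancel]
  · right; rw [hxx, e, mul_assoc, c.hyz.eq.symm, inv_mul_cancel_left]

/-- The case `a ∈ N(K)` is impossible. -/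
theorem false_of_fix (c : Cfg J K R T T2 z t y) {a : G} (haR : a ∈ R) (haJ : a ∈ J)
    (ha4 : orderOf a = 4) (haK : a ∈ normalizer (K : Set G)) : False := by
  obtain ⟨hcom, hw2, -, hsq⟩ := c.w_facts haR haJ ha4
  have hwt : a⁻¹ * (y * a * y⁻¹) = t := by
    refine c.hK.uinv.uniq _ ?_ hw2
    rw [show a⁻¹ * (y * a * y⁻¹) = (a⁻¹ * y * a) * y⁻¹ by group]
    refine K.mul_mem ?_ (K.inv_mem c.hyK)
    have := (mem_normalizer_iff.mp (inv_mem haK) y).mp c.hyK
    rwa [inv_inv] at this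
  set a' := y * a * y⁻¹ with ha'
  have ha't : a' = a * t := inv_mul_eq_iff_eq_mul.mp hwt
  have hT := c.hJ.syl_inf c.hT
  obtain ⟨β, hβ, -, hβa⟩ := exists_inverting (c.hJ.syl_uinv c.hT) hT.two
    (c.hJ.syl_not_cyclic hT) ⟨c.hRT haR, haJ⟩ ha4
  have hβa' : Commute β a' := c.comm_T hβ.1 hβ.2 (c.conj_yT (c.hRT haR)) (conj_mem_cj haJ)
  have hβt : β * t * β⁻¹ = z * t := by
    calc β * t * β⁻¹ = (β * a * β⁻¹)⁻¹ * (β * a' * β⁻¹) := by rw [← hwt]; group
      _ = a * (a * t) := by rw [hβa, inv_inv, hβa'.eq, mul_inv_cancel_right, ha't]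
      _ = z * t := by rw [← mul_assoc, c.hJ.uinv.sq_of_four haJ ha4]
  have hβz := conj_eq_of_mem_C (c.hJ.le hβ.2)
  obtain ⟨n, hn, -, hnz, -⟩ := c.exists_n' c.zK_nontriv
  obtain ⟨hgz, hgt, hgzt⟩ := c.g_maps hβ.2 hβt hn.2 hnz
  set g := β * n with hg
  have hKJ : Comp (cj g J) t := hgz ▸ c.hJ.conj g
  have hKJ' : Comp (cj g (cj y J)) t := hgz ▸ c.hJ'.conj g
  set ga := g * a * g⁻¹
  set ga' := g * a' * g⁻¹
  have hgaC : ga ∈ C t := hKJ.le (conj_mem_cj haJ)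
  have hga'C : ga' ∈ C t := hKJ'.le (conj_mem_cj (conj_mem_cj haJ))
  have hzeq : z = ga⁻¹ * ga' * t := by
    rw [show ga⁻¹ * ga' = g * (a⁻¹ * a') * g⁻¹ by simp only [ga, ga']; group, hwt, hgt, mul_assoc,
      c.t2, mul_one]
  have hprz : pr t z = (pr t ga)⁻¹ * pr t ga' * pr t t := by
    rw [← pr_inv hgaC, ← pr_mul ((C t).inv_mem hgaC) hga'C,
      ← pr_mul ((C t).mul_mem ((C t).inv_mem hgaC) hga'C) (self_mem_C t), ← hzeq]
  have htc : ∀ j ∈ C t, Commute (pr t t) (pr t j) := fun j hj => by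
    show pr t t * pr t j = pr t j * pr t t
    rw [← pr_mul (self_mem_C t) hj, ← pr_mul hj (self_mem_C t), (mem_C.mp hj).eq]
  have hmem : K = cj g J ∨ K = cj g (cj y J) := by
    by_contra hnn
    push Not at hnn
    exact c.zK_nontriv fun j hj => hprz ▸
      (((c.hK.comm_of_ne hKJ hnn.1 hj (conj_mem_cj haJ)).symm.inv_left.mul_left
        (c.hK.comm_of_ne hKJ' hnn.2 hj (conj_mem_cj (conj_mem_cj haJ))).symm).mul_left
          (htc j (c.hK.le hj)))
  obtain ⟨b, Jb, hJb, hbJ, hgb, hb, hzc⟩ : ∃ b Jb, (Jb = J ∨ Jb = cj y J) ∧ b ∈ Jb ∧ cj g Jb = K ∧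
      (b = a ∨ b = a * t) ∧ ∀ p ∈ K, Commute (pr t z) (pr t p) →
        Commute (pr t (g * b * g⁻¹)) (pr t p) := by
    rcases hmem with hm | hm
    · refine ⟨a, J, Or.inl rfl, haJ, hm.symm, Or.inl rfl, fun p hp hc => ?_⟩
      have hne : K ≠ cj g (cj y J) := fun e => c.hJne (cj_inj (hm.symm.trans e))
      have e : pr t ga = pr t ga' * pr t t * (pr t z)⁻¹ := by rw [hprz]; group
      show Commute (pr t ga) (pr t p)
      rw [e]
      exact ((c.hK.comm_of_ne hKJ' hne hp (conj_mem_cj (conj_mem_cj haJ))).symm.mul_left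
        (htc p (c.hK.le hp))).mul_left hc.inv_left
    · refine ⟨a', cj y J, Or.inr rfl, conj_mem_cj haJ, hm.symm, Or.inr ha't, fun p hp hc => ?_⟩
      have hne : K ≠ cj g J := fun e => c.hJne (cj_inj (e.symm.trans hm))
      have e : pr t ga' = pr t ga * pr t z * (pr t t)⁻¹ := by rw [hprz]; group
      show Commute (pr t ga') (pr t p)
      rw [e]
      exact ((c.hK.comm_of_ne hKJ hne hp (conj_mem_cj haJ)).symm.mul_left hc).mul_left
        (htc p (c.hK.le hp)).inv_left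
  have hbR : b ∈ R := by rcases hb with rfl | rfl; exacts [haR, R.mul_mem haR c.tR]
  have hb4 : orderOf b = 4 := by
    rcases hb with rfl | rfl
    · exact ha4
    · rw [← ha't, ha', Involutions.Basic.orderOf_conj]; exact ha4
  set k0 := g * b * g⁻¹ with hk0
  have hk0K : k0 ∈ K := hgb ▸ conj_mem_cj hbJ
  have hk04 : orderOf k0 = 4 := by rw [hk0, Involutions.Basic.orderOf_conj]; exact hb4
  have hk0C : k0 ∈ C z := by
    have := mem_C_conj g (mem_C.mpr ((mem_C.mp (c.RC hbR)).mul_right (mem_C.mp (c.RCt hbR))) :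
      b ∈ C (z * t))
    rwa [hgzt] at this
  have hq4 : orderOf (pr t k0) = 4 := by
    rw [orderOf_pr (c.hK.le hk0K) (isTwo_of_order_four hk04)]; exact hk04
  have hsel := (c.hK.abelian_of_four (pr_mem_im c.hK.le hk0K) hq4
    (c.hR.two.to_le inf_le_left : IsPGroup 2 ↥(R ⊓ K)) inf_le_right fun p hp =>
      (hzc p hp.2 (by
        show pr t z * pr t p = pr t p * pr t z
        rw [← pr_mul c.zC (c.RCt hp.1), ← pr_mul (c.RCt hp.1) c.zC,
          (mem_C.mp (c.RC hp.1)).eq])).symm).2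
  by_cases hyt2 : y * y ≠ t
  · set r := g⁻¹ * y * g with hr
    have hrJ : r ∈ Jb := mem_cj.mp (hgb.symm ▸ c.hyK)
    have hrz : r ∈ C z := by
      have := mem_C_conj g⁻¹ c.yCt
      rwa [inv_inv, show g⁻¹ * t * g = z by rw [← hgz]; group] at this
    have hrzt : r ∈ C (z * t) := by
      have := mem_C_conj g⁻¹ c.yC
      rwa [inv_inv, show g⁻¹ * z * g = z * t by
        calc g⁻¹ * z * g = g⁻¹ * (g * (z * t) * g⁻¹) * g := by rw [hgzt]
          _ = z * t := by group] at this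
    have hrt : r ∈ C t := mem_C.mpr (by
      have := (mem_C.mp hrz).mul_right (mem_C.mp hrzt)
      rwa [← mul_assoc, c.z2, one_mul] at this)
    have hr2 : IsTwo r := by
      have := c.hy2.conj g⁻¹
      rwa [inv_inv] at this
    obtain ⟨r1, hr1J, hr1H, hr12, hr1sq⟩ : ∃ r1 ∈ J, r1 ∈ H z t ∧ IsTwo r1 ∧
        (r1 * r1 = 1 ∨ r1 * r1 = z → r * r = 1 ∨ r * r = z) := by
      rcases hJb with rfl | rfl
      · exact ⟨r, hrJ, ⟨hrz, hrt⟩, hr2, id⟩
      · refine ⟨y * r * y⁻¹, c.conj_back hrJ, ⟨?_, ?_⟩, hr2.conj y, ?_⟩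
        · exact (C z).mul_mem ((C z).mul_mem c.yC hrz) ((C z).inv_mem c.yC)
        · exact (C t).mul_mem ((C t).mul_mem c.yCt hrt) ((C t).inv_mem c.yCt)
        · rintro (e | e) <;> [left; right] <;>
            rw [show r * r = y⁻¹ * ((y * r * y⁻¹) * (y * r * y⁻¹)) * y by group, e]
          · group
          · rw [mul_assoc, c.hyz.eq.symm, inv_mul_cancel_left]
    obtain ⟨h, hh, hhr⟩ := (c.hR.inf inf_le_right (subnormal_inf c.hJ.pc.1 inf_le_left)).exists_conj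
      hr12.isPGroup (zpowers_le.mpr (⟨hr1J, hr1H⟩ : r1 ∈ J ⊓ H z t))
    have hm := hhr r1 (mem_zpowers r1)
    have hrr : r * r = 1 ∨ r * r = z := hr1sq (by
      rcases c.sq_cases hm.1 hm.2.1 with e | e <;> [left; right] <;>
        rw [show r1 * r1 = h⁻¹ * ((h * r1 * h⁻¹) * (h * r1 * h⁻¹)) * h by group, e]
      · group
      · rw [mul_assoc, ← (mem_C.mp hh.2.1).eq, inv_mul_cancel_left])
    have e : y * y = g * (r * r) * g⁻¹ := by rw [hr]; group
    rcases hrr with h0 | h0 <;> rw [h0] at e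
    · exact c.hyt (c.hK.uinv.eq_of_sq c.hyK (by rw [e]; group) c.hy1)
    · exact hyt2 (e.trans hgz)
  rw [not_not] at hyt2
  have hy4 : orderOf y = 4 := orderOf_four c.hK.uinv.inv hyt2
  obtain ⟨k1, hk1, hk1C, hk1t, hprk⟩ :
      ∃ k1, (k1 = k0 ∨ k1 = k0⁻¹) ∧ k1 ∈ C z ∧ k1 ∈ C t ∧ pr t y = pr t k1 := by
    rcases hsel y ⟨c.hyR, c.hyK⟩ hy4 with e | e
    · exact ⟨k0, Or.inl rfl, hk0C, c.hK.le hk0K, e⟩
    · exact ⟨k0⁻¹, Or.inr rfl, (C z).inv_mem hk0C, (C t).inv_mem (c.hK.le hk0K),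
        by rw [pr_inv (c.hK.le hk0K)]; exact e⟩
  set o := k1⁻¹ * y with ho
  have hoH : o ∈ H z t :=
    ⟨(C z).mul_mem ((C z).inv_mem hk1C) c.yC, (C t).mul_mem ((C t).inv_mem hk1t) c.yCt⟩
  have hoo : Odd (orderOf o) := odd_of_pr_eq_one hoH.2 (by
    rw [ho, pr_mul ((C t).inv_mem hk1t) c.yCt, pr_inv hk1t, hprk, inv_mul_cancel])
  obtain ⟨hoJ, hoJ'⟩ := odd_fix hoo c.hJne (c.pair_of_mem haJ hwt hoH (Or.inl rfl))
    (c.pair_of_mem haJ hwt hoH (Or.inr rfl))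
  have hk1J : cj k1 J = cj y J := by
    rw [show k1 = y * o⁻¹ by rw [ho]; group, cj_mul, cj_inv hoJ]
  have hk1J' : cj k1 (cj y J) = J := by
    rw [show k1 = y * o⁻¹ by rw [ho]; group, cj_mul, cj_inv hoJ', c.cj_y_J']
  obtain ⟨hk0J, hk0J'⟩ : cj k0 J = cj y J ∧ cj k0 (cj y J) = J := by
    rcases hk1 with rfl | rfl
    · exact ⟨hk1J, hk1J'⟩
    · have h1 := cj_inv hk1J'
      have h2 := cj_inv hk1J
      rw [inv_inv] at h1 h2
      exact ⟨h1, h2⟩
  set X := cj n Jb with hX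
  have hβX : cj β X = K := by rw [hX, ← cj_mul]; exact hgb
  have hnn : n * n ∈ H z t := by
    refine ⟨mem_C.mpr (mul_inv_eq_iff_eq_mul.mp ?_), (C t).mul_mem (c.hK.le hn.2) (c.hK.le hn.2)⟩
    rw [show n * n * z * (n * n)⁻¹ = n * (n * z * n⁻¹) * n⁻¹ by group, hnz,
      show n * (z * t) * n⁻¹ = (n * z * n⁻¹) * (n * t * n⁻¹) by group, hnz,
      conj_eq_of_mem_C (c.hK.le hn.2), mul_assoc, c.t2, mul_one]
  have hgJ : ∀ A : Subgroup G, cj β A = A → cj g⁻¹ A = cj n⁻¹ A := fun A hA => by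
    rw [hg, mul_inv_rev, cj_mul, cj_inv hA]
  have hβJ : cj β J = J := mem_norm_iff.mp (le_normalizer hβ.2)
  have hβJ' : cj β (cj y J) = cj y J := mem_norm_iff.mp (c.hJ.norm_of_mem c.hJ' hβ.2)
  have hswap : cj b X ≠ X := by
    have hbk : b = g⁻¹ * k0 * g := by rw [hk0]; group
    rcases c.pair_of_mem haJ hwt hnn hJb with e | e <;>
      rw [cj_mul, ← hX] at e <;> rw [← cj_inv e]
    · rw [← hgJ J hβJ, hbk, cj_mul, ← cj_mul g, mul_inv_cancel, cj_one, cj_mul, hk0J]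
      exact fun h => c.hJne (cj_inj h).symm
    · rw [← hgJ _ hβJ', hbk, cj_mul, ← cj_mul g, mul_inv_cancel, cj_one, cj_mul, hk0J']
      exact fun h => c.hJne (cj_inj h)
  have hfa : cj a⁻¹ X = X := by
    have e : a⁻¹ = β⁻¹ * a * β := by
      have h1 : β * a⁻¹ * β⁻¹ = a := by
        rw [show β * a⁻¹ * β⁻¹ = (β * a * β⁻¹)⁻¹ by group, hβa, inv_inv]
      calc a⁻¹ = β⁻¹ * (β * a⁻¹ * β⁻¹) * β := by group
        _ = β⁻¹ * a * β := by rw [h1]
    rw [e, cj_mul, hβX, cj_mul, mem_norm_iff.mp haK]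
    exact cj_inv hβX
  have hft : cj t X = X := by
    have e : t = β⁻¹ * (z * t) * β := by rw [← hβt]; group
    rw [e, cj_mul, hβX, cj_mul,
      mem_norm_iff.mp (mul_mem c.hzK (le_normalizer c.hK.uinv.mem))]
    exact cj_inv hβX
  have hfa' : cj a X = X := by
    have := cj_inv hfa
    rwa [inv_inv] at this
  rcases hb with rfl | rfl
  · exact hswap hfa'
  · exact hswap (by rw [cj_mul, hft, hfa'])

end Cfg

end Cfsg.Agent.IntrinsicPair
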