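import Cfsg.Agent.Lib.Components.IntrinsicPair.OneB
import Cfsg.Agent.Lib.Components.IntrinsicPair.OneC

/-!
Part (i): a 2-element of `K` of order at least four centralizing `z` normalizes `J`.
-/

set_option autoImplicit false
set_option linter.style.haveILetI false
set_option linter.unusedSectionVars false

namespace Cfsg.Agent.IntrinsicPair

open Subgroup

universe u

variable {G : Type u} [Group G] [Finite G]

/-- `t` fixes `J` when a 2-element of order four of `K` centralizing `z` has square `t`. -/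
lemma t_fixes {J K : Subgroup G} {z t y : G} (hJ : Comp J z) (hK : Comp K t)
    (hyK : y ∈ K) (hy : y * y = t) (hyz : Commute y z) : t ∈ normalizer (J : Set G) := by
  by_contra htJ
  have hyC : y ∈ C z := mem_C.mpr hyz
  have htC : t ∈ C z := hy ▸ (C z).mul_mem hyC hyC
  have hzC : z ∈ C t := mem_C_comm.mp htC
  have hyCt : y ∈ C t := hK.le hyK
  have hmov : cj t J ≠ J := fun e => htJ (mem_norm_iff.mpr e)
  have hJt := hJ.conj_of_mem htC
  have hyH : y ∈ H z t := ⟨hyC, hyCt⟩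
  obtain ⟨R, hR, hyR⟩ := exists_syl_ge (isTwo_of_order_four (orderOf_four hK.uinv.inv hy)).isPGroup
    (zpowers_le.mpr hyH)
  have hyR' : y ∈ R := hyR (mem_zpowers y)
  obtain ⟨T, hT, hRT⟩ := exists_syl_ge hR.two (hR.le.trans inf_le_left)
  have htR : t ∈ R := hy ▸ R.mul_mem hyR' hyR'
  obtain ⟨R0, hR0a, hR0c, hR0m⟩ := hJ.diag_component htC hK.uinv.inv hmov
  rcases cen_dich htC hK.uinv.inv hR0a hR0c (M := K ⊓ H z t) inf_le_right
    (subnormal_inf hK.pc.1 inf_le_right) with h | h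
  · obtain ⟨i, hi, hi4⟩ := hJ.exists_four_mem hT
    set i' := t * i * t⁻¹ with hi'
    have hi'J : i' ∈ cj t J := conj_mem_cj hi.2
    have hi'T : i' ∈ T := T.mul_mem (T.mul_mem (hRT htR) hi.1) (T.inv_mem (hRT htR))
    have hcom := hJ.commute_exact hJt (Ne.symm hmov) hT.two hT.le hi.1 hi.2 hi'T hi'J
    have hi'sq : i' * i' = z := hJt.uinv.sq_of_four hi'J
      (by rw [hi', Involutions.Basic.orderOf_conj]; exact hi4)
    have hu2 : orderOf (i * i') = 2 := Involutions.Basic.orderOf_two_iff.mpr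
      ⟨hJ.mul_involution hi.2 hi4 hcom hi'sq, hJ.mul_ne_one hJt (Ne.symm hmov) hi.2 hi'J hi4⟩
    obtain ⟨m, hm, he⟩ := (mem_im (inf_le_right.trans inf_le_left)).mp
      (h ((hR0m _).mpr ⟨i, hi.2, rfl⟩))
    obtain ⟨n, hn, hn'⟩ := lift_involution hm.2.1 (by
      rw [he, orderOf_pr ((C z).mul_mem (hJ.le hi.2) (hJt.le hi'J)) (isTwo_of_order_two hu2)]
      exact hu2)
    rw [hK.uinv.uniq _ (K.pow_mem hm.1 n) hn, he] at hn'
    refine htJ (hJ.layer_inner htC ?_).1
    rw [hn', pr_mul (hJ.le hi.2) (hJt.le hi'J)]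
    exact mul_mem (hJ.mem_layer hi.2) (hJt.mem_layer hi'J)
  · have hJy := hJ.conj_of_mem hyC
    have hy2J : cj (y * y) J ≠ J := by rw [hy]; exact hmov
    have h1 : cj y J ≠ J := fun e => hy2J (by rw [cj_mul, e, e])
    have hty : t * y = y * t := (mem_C.mp hyCt).eq.symm
    have h2 : cj y J ≠ cj t J := by
      intro e
      refine hmov ?_
      calc cj t J = cj y (cj y J) := by rw [← cj_mul, hy]
        _ = cj (y * t) J := by rw [e, cj_mul]
        _ = cj t (cj y J) := by rw [← hty, cj_mul]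
        _ = J := by rw [e, ← cj_mul, hK.uinv.mul_self, cj_one]
    have h3 : cj y (cj t J) ≠ J := by
      intro e
      refine h2 ?_
      rw [← cj_mul, ← hty, cj_mul] at e
      have := cj_inv e
      rwa [hK.uinv.inv_eq, eq_comm] at this
    obtain ⟨T0, hT0, -⟩ := exists_syl_ge hR.two (hR.le.trans inf_le_left)
    obtain ⟨i, hi, hi4⟩ := hJ.exists_four_mem hT0
    refine hJ.not_triv_four hi.2 hi4 fun k hk => ?_
    set a := pr z (i * (t * i * t⁻¹)) with ha
    have hq : Commute a (pr z y) :=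
      h _ ((hR0m _).mpr ⟨i, hi.2, rfl⟩) y ⟨hyK, hyC, hyCt⟩
    have hiC : i ∈ C z := hJ.le hi.2
    have hiC' : t * i * t⁻¹ ∈ C z := hJt.le (conj_mem_cj hi.2)
    have hk1 : Commute (pr z k) (pr z (y * i * y⁻¹)) :=
      hJ.comm_of_ne hJy (Ne.symm h1) hk (conj_mem_cj hi.2)
    have hk2 : Commute (pr z k) (pr z (y * (t * i * t⁻¹) * y⁻¹)) :=
      hJ.comm_of_ne (hJt.conj_of_mem hyC) (Ne.symm h3) hk (conj_mem_cj (conj_mem_cj hi.2))
    have hk3 : Commute (pr z k) (pr z (t * i * t⁻¹)) :=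
      hJ.comm_of_ne hJt (Ne.symm hmov) hk (conj_mem_cj hi.2)
    have e : a = pr z (y * i * y⁻¹) * pr z (y * (t * i * t⁻¹) * y⁻¹) := by
      rw [pr_conj hyC hiC, pr_conj hyC hiC']
      calc a = pr z y * a * (pr z y)⁻¹ := by rw [hq.symm.eq, mul_inv_cancel_right]
        _ = _ := by rw [ha, pr_mul hiC hiC']; group
    have hka : Commute (pr z k) a := e ▸ hk1.mul_right hk2
    have := hka.mul_right hk3.inv_right
    rw [ha, pr_mul hiC hiC', mul_inv_cancel_right] at this
    exact this.symm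

/-- Part (i). -/
theorem normalizes {J K : Subgroup G} {z t y : G} (hJ : Comp J z) (hK : Comp K t)
    (hyK : y ∈ K) (hy2 : IsTwo y) (hy4 : 4 ≤ orderOf y) (hyz : Commute y z) :
    y ∈ normalizer (J : Set G) := by
  by_cases hne : z = t
  · subst hne
    exact hK.norm_of_mem hJ hyK
  have hy1 : y ≠ 1 := fun e => by rw [e, orderOf_one] at hy4; omega
  have hyt : y ≠ t := fun e => by rw [e, hK.uinv.inv] at hy4; omega
  obtain ⟨k, hk⟩ := hy2
  obtain ⟨m, hm⟩ := hK.uinv.exists_four hyK hk hy1 hyt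
  have htJ := t_fixes hJ hK (K.pow_mem hyK m) (hK.uinv.sq_of_four (K.pow_mem hyK m) hm)
    (hyz.pow_left m)
  by_contra hyJ
  -- the last power of `y` moving `J`
  obtain ⟨j, hj, hj'⟩ : ∃ j : ℕ, y ^ 2 ^ j ∉ normalizer (J : Set G) ∧
      y ^ 2 ^ (j + 1) ∈ normalizer (J : Set G) := by
    by_contra hn
    push Not at hn
    have hall : ∀ j : ℕ, y ^ 2 ^ j ∉ normalizer (J : Set G) := by
      intro j
      induction j with
      | zero => rwa [pow_zero, pow_one]
      | succ j ih => exact hn j ih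
    exact hall k (by rw [hk]; exact one_mem _)
  set y1 := y ^ 2 ^ j with hy1'
  have hy12 : IsTwo y1 := IsTwo.pow ⟨k, hk⟩ _
  have hy1z : Commute y1 z := hyz.pow_left _
  have hy1K : y1 ∈ K := K.pow_mem hyK _
  have hy1H : y1 ∈ H z t := ⟨mem_C.mpr hy1z, hK.le hy1K⟩
  obtain ⟨R, hR, hyR⟩ := exists_syl_ge hy12.isPGroup (zpowers_le.mpr hy1H)
  obtain ⟨T, hT, hRT⟩ := exists_syl_ge hR.two (hR.le.trans inf_le_left)
  obtain ⟨T2, hT2, hRT2⟩ := exists_syl_ge hR.two (hR.le.trans inf_le_right)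
  have c : Cfg J K R T T2 z t y1 :=
    { hJ := hJ, hK := hK, hne := hne, hyK := hy1K, hy2 := hy12,
      hy1 := fun e => hj (e ▸ one_mem _), hyt := fun e => hj (e ▸ htJ), hyz := hy1z,
      hyy := by rw [hy1', ← pow_add, ← two_mul, ← pow_succ']; exact hj',
      hyJ := hj, htJ := htJ, hR := hR, hyR := hyR (mem_zpowers y1), hT := hT, hRT := hRT,
      hT2 := hT2, hRT2 := hRT2 }
  obtain ⟨a, haR, haJ, ha4, -⟩ := c.exists_a
  by_cases haK : a ∈ normalizer (K : Set G)
  · exact c.false_of_fix haR haJ ha4 haK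
  · exact c.false_of_move haR haJ ha4 haK

end Cfsg.Agent.IntrinsicPair
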