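import Cfsg.Agent.Lib.Components.IntrinsicPair.OneBase

/-!
Part (i), the case where the element `a` moves `K`.
-/

set_option autoImplicit false
set_option linter.style.haveILetI false
set_option linter.unusedSectionVars false

namespace Cfsg.Agent.IntrinsicPair

open Subgroup
open Cfsg.Agent.Components.Basic

universe u

variable {G : Type u} [Group G] [Finite G]

lemma moved_facts {x n s : G} (hxs : Commute x s) (hns : Commute n s) (hs : s * s = 1)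
    (he : x * n * x⁻¹ = n * s) :
    n * x * n⁻¹ = x * s ∧ n⁻¹ * x * n = x * s := by
  have hsi : s⁻¹ = s := inv_eq_of_mul_eq_one_right hs
  have h1 : x * n = n * (s * x) := by rw [← mul_assoc, ← he]; group
  constructor
  · calc n * x * n⁻¹ = s * (n * (s * x) * n⁻¹) := by
          rw [← mul_assoc n s x, hns.eq, show s * (s * n * x * n⁻¹) = (s * s) * (n * x * n⁻¹) by group,
            hs, one_mul]
      _ = s * x := by rw [← h1, mul_inv_cancel_right]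
      _ = x * s := hxs.eq.symm
  · rw [mul_assoc, h1, inv_mul_cancel_left]
    exact hxs.eq.symm

/-- The product of two solvable commuting subgroups is solvable. -/
lemma isSolvable_sup {A B : Subgroup G} (hA : Group.IsSolvable A) (hB : Group.IsSolvable B)
    (hc : ∀ a ∈ A, ∀ b ∈ B, Commute a b) : Group.IsSolvable (A ⊔ B : Subgroup G) := by
  have hc' : ∀ (a : A) (b : B), Commute (A.subtype a) (B.subtype b) := fun a b => hc a a.2 b b.2
  set f := A.subtype.noncommCoprod B.subtype hc' with hf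
  have hr : f.range = A ⊔ B := by rw [hf, MonoidHom.noncommCoprod_range, range_subtype, range_subtype]
  haveI := hA
  haveI := hB
  rw [← hr]
  exact Group.isSolvable_of_surjective f.rangeRestrict_surjective

namespace Comp

variable {J : Subgroup G} {z : G}

/-- Elements of the image commuting with `a` modulo the centre form a solvable subgroup. -/
lemma solvable_cen (h : Comp J z) {a : G} (ha : a ∈ J) (h4 : orderOf a = 4) :
    ∃ N : Subgroup (Q z), Group.IsSolvable N ∧ N ≤ im z J ∧ ∀ d ∈ im z J,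
      (d⁻¹ * (pr z a * d * (pr z a)⁻¹) = 1 ∨ d⁻¹ * (pr z a * d * (pr z a)⁻¹) = pr z z) → d ∈ N := by
  set X := ↥(im z J)
  set aX : X := ⟨pr z a, pr_mem_im h.le ha⟩
  set π := QuotientGroup.mk' (Subgroup.center X)
  have h4X : orderOf aX = 4 := by
    rw [Subgroup.orderOf_mk, orderOf_pr (h.le ha) (isTwo_of_order_four h4)]; exact h4
  haveI : Group.IsSolvable ↥(centralizer ({π aX} : Set (X ⧸ Subgroup.center X))) :=
    h.qq.centralizer_solvable (h.qq.mk_four h4X)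
  set Np := (centralizer ({π aX} : Set (X ⧸ Subgroup.center X))).comap π with hNp
  haveI : Group.IsSolvable Np := by
    haveI : Group.IsSolvable ↥((Subgroup.center X).subgroupOf Np) :=
      Group.isSolvable_of_comm fun x y => Subtype.ext (Subtype.ext
        (mem_center_iff.mp (show ((y : Np) : X) ∈ Subgroup.center X from y.2) x))
    refine Group.isSolvable_of_ker_le_range ((Subgroup.center X).subgroupOf Np).subtype
      (π.subgroupComap (centralizer ({π aX} : Set (X ⧸ Subgroup.center X)))) fun x hx => ?_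
    rw [range_subtype, mem_subgroupOf, ← QuotientGroup.eq_one_iff]
    exact congrArg Subtype.val (MonoidHom.mem_ker.mp hx)
  refine ⟨Np.map (im z J).subtype,
    Group.isSolvable_of_surjective ((im z J).subtype.subgroupMap_surjective Np), map_subtype_le _,
    fun d hd hc => ⟨⟨d, hd⟩, ?_, rfl⟩⟩
  set dX : X := ⟨d, hd⟩
  show π dX ∈ centralizer ({π aX} : Set (X ⧸ Subgroup.center X))
  have h1 : π (dX⁻¹ * (aX * dX * aX⁻¹)) = 1 := by
    refine h.qq.mk_eq_one.mpr (hc.imp (fun e => Subtype.ext ?_) fun e => Subtype.ext ?_) <;> exact e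
  rw [map_mul, map_inv, map_mul, map_mul, map_inv, inv_mul_eq_one, eq_mul_inv_iff_mul_eq] at h1
  exact mem_centralizer_singleton_iff.mpr h1

end Comp

namespace Cfg

variable {J K R T T2 : Subgroup G} {z t y : G}

/-- An element `b` inverting `y` and moved by `z`. -/
lemma exists_b (c : Cfg J K R T T2 z t y) (hy : y * y = t) :
    ∃ b ∈ T2 ⊓ K, orderOf b = 4 ∧ b * y * b⁻¹ = y⁻¹ ∧ z * b * z⁻¹ = b * t ∧
      b * z * b⁻¹ = z * t ∧ b⁻¹ * z * b = z * t := by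
  have hS := c.hK.syl_inf c.hT2
  have hu := c.hK.syl_uinv c.hT2
  have hy4 : orderOf y = 4 := orderOf_four c.hK.uinv.inv hy
  have hyS : y ∈ T2 ⊓ K := ⟨c.hRT2 c.hyR, c.hyK⟩
  obtain ⟨b, hb, hb4, hby⟩ := exists_inverting hu hS.two (c.hK.syl_not_cyclic hS) hyS hy4
  refine ⟨b, hb, hb4, hby, ?_⟩
  have hzn : z ∈ normalizer ((T2 ⊓ K : Subgroup G) : Set G) :=
    mem_norm_inf (le_normalizer (c.hRT2 c.zR)) c.hzK
  have hby' : b⁻¹ * y⁻¹ * b = y := by rw [← hby]; group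
  set c0 := b⁻¹ * (z * b * z⁻¹) with hc0
  have hc0S : c0 ∈ T2 ⊓ K := mul_mem (inv_mem hb) ((mem_normalizer_iff.mp hzn b).mp hb)
  have hzy : z⁻¹ * y * z = y := by rw [mul_assoc, c.hyz.eq, inv_mul_cancel_left]
  have hzy' : z * y⁻¹ * z⁻¹ = y⁻¹ := mul_inv_eq_iff_eq_mul.mpr (c.hyz.inv_left.symm).eq
  have hc0y : Commute c0 y := by
    refine mul_inv_eq_iff_eq_mul.mp ?_
    rw [hc0, show b⁻¹ * (z * b * z⁻¹) * y * (b⁻¹ * (z * b * z⁻¹))⁻¹ =
      b⁻¹ * (z * (b * (z⁻¹ * y * z) * b⁻¹) * z⁻¹) * b by group, hzy, hby, hzy', hby']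
  have hzc : z * c0 * z⁻¹ = c0⁻¹ := by
    rw [hc0, show z * (b⁻¹ * (z * b * z⁻¹)) * z⁻¹ = z * b⁻¹ * z * b * (z * z)⁻¹ by group, c.z2,
      mul_inv_rev, mul_inv_rev, mul_inv_rev, inv_inv, inv_inv, c.hJ.uinv.inv_eq]
    group
  have hc01 : c0 ≠ 1 := by
    intro e
    have hzb : z * b * z⁻¹ = b := (inv_mul_eq_one.mp e).symm
    have hbC : b ∈ C z := mem_C.mpr (Commute.symm (mul_inv_eq_iff_eq_mul.mp hzb))
    have hbR : b ∈ R := c.hRT2eq ▸ ⟨hb.1, hbC⟩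
    rw [(c.commute_P b ⟨hbR, hb.2⟩ y ⟨c.hyR, c.hyK⟩).eq, mul_inv_cancel_right] at hby
    exact c.hK.uinv.ne_one (hy.symm.trans (eq_inv_iff_mul_eq_one.mp hby))
  have hc0t : c0 = t := by
    by_contra hne
    obtain ⟨k, hk⟩ := isTwo_of_pgroup hS.two hc0S
    obtain ⟨m, hm⟩ := hu.exists_four hc0S hk hc01 hne
    have hm' : c0 ^ m ∈ (T2 ⊓ K) ⊓ C y := ⟨pow_mem hc0S m, mem_C.mpr (hc0y.pow_left m)⟩
    have hyc : y ∈ (T2 ⊓ K) ⊓ C y := ⟨hyS, self_mem_C y⟩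
    haveI := isCyclic_of_central_four (hu.mono inf_le_left (hy ▸ mul_mem hyc hyc))
      (hS.two.to_le inf_le_left) hyc hy4 fun x hx => mem_C.mp hx.2
    have hcase := eq_or_eq_inv_of_cyclic (hu.mono inf_le_left (hy ▸ mul_mem hyc hyc)) hyc hm' hy4 hm
    have h1 : z * c0 ^ m * z⁻¹ = (c0 ^ m)⁻¹ := by rw [← conj_pow, hzc, inv_pow]
    have h2 : z * c0 ^ m * z⁻¹ = c0 ^ m := by
      rcases hcase with e | e <;> rw [e]
      · exact mul_inv_eq_iff_eq_mul.mpr c.hyz.symm.eq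
      · exact hzy'
    have h3 : orderOf (c0 ^ m) ∣ 2 := orderOf_dvd_of_pow_eq_one (by
      rw [sq]; exact eq_inv_iff_mul_eq_one.mp (h2.symm.trans h1))
    rw [hm] at h3; norm_num at h3
  have he : z * b * z⁻¹ = b * t := inv_mul_eq_iff_eq_mul.mp (hc0.symm.trans hc0t)
  exact ⟨he, moved_facts c.hzt (mem_C.mp (c.hK.le hb.2)) c.t2 he⟩

/-- The case `a ∉ N(K)`: the exact relations. -/
theorem relations (c : Cfg J K R T T2 z t y) {a : G} (haR : a ∈ R) (haJ : a ∈ J)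
    (ha4 : orderOf a = 4) (haK : a ∉ normalizer (K : Set G)) :
    y * y = t ∧ a * (y * a * y⁻¹) = t ∧ a⁻¹ * y * a * y = z ∧ K ≠ cj a⁻¹ K ∧
      a⁻¹ * (y * a * y⁻¹) = z * t := by
  obtain ⟨hcom, hw2, -, hsq⟩ := c.w_facts haR haJ ha4
  have hK' := c.hK.conj_of_mem ((C t).inv_mem (c.RCt haR))
  have hKne : K ≠ cj a⁻¹ K := fun e => haK (by
    have := inv_mem (mem_norm_iff.mpr e.symm)
    rwa [inv_inv] at this)
  set y' := a⁻¹ * y * a with hy'
  have hy'K : y' ∈ cj a⁻¹ K := by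
    have : a⁻¹ * y * a⁻¹⁻¹ ∈ cj a⁻¹ K := conj_mem_cj c.hyK
    rwa [inv_inv] at this
  have hy'R : y' ∈ R := R.mul_mem (R.mul_mem (R.inv_mem haR) c.hyR) haR
  have hc := c.hK.commute_exact hK' hKne c.hR.two c.RCt c.hyR c.hyK hy'R hy'K
  have hw : a⁻¹ * (y * a * y⁻¹) = y' * y⁻¹ := by rw [hy']; group
  have hyy : y * y = t := by
    have h1 := Involutions.Basic.inv_sq_one hw2
    rw [hw, (hc.inv_left).mul_mul_mul_comm, ← mul_inv_rev, mul_inv_eq_one] at h1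
    rcases c.hK.meet_cases hK' hKne (K.mul_mem c.hyK c.hyK) (h1 ▸ mul_mem hy'K hy'K)
      (isTwo_of_pgroup c.hR.two (R.mul_mem c.hyR c.hyR)) with e | e
    · exact absurd (c.hK.uinv.eq_of_sq c.hyK e c.hy1) c.hyt
    · exact e
  obtain ⟨b, hb, hb4, hby, hzb, hbz, hbz'⟩ := c.exists_b hyy
  set b2 := a⁻¹ * b * a with hb2
  have hb2K : b2 ∈ cj a⁻¹ K := by
    have : a⁻¹ * b * a⁻¹⁻¹ ∈ cj a⁻¹ K := conj_mem_cj hb.2
    rwa [inv_inv] at this
  have hb2T : b2 ∈ T2 :=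
    T2.mul_mem (T2.mul_mem (T2.inv_mem (c.hRT2 haR)) hb.1) (c.hRT2 haR)
  have hbb2 := c.hK.commute_exact hK' hKne c.hT2.two c.hT2.le hb.1 hb.2 hb2T hb2K
  have hbt : Commute b t := mem_C.mp (c.hK.le hb.2)
  have hat : Commute a t := mem_C.mp (c.RCt haR)
  have haz : Commute a z := mem_C.mp (c.RC haR)
  have hb2sq : b2 * b2 = t := by
    rw [hb2, show a⁻¹ * b * a * (a⁻¹ * b * a) = a⁻¹ * (b * b) * a by group,
      c.hK.uinv.sq_of_four hb.2 hb4, mul_assoc, hat.symm.eq, inv_mul_cancel_left]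
  set δ := b * b2⁻¹ with hδ
  have hzb2 : z * b2 * z⁻¹ = b2 * t := by
    calc z * b2 * z⁻¹ = (z * a⁻¹) * b * (a * z⁻¹) := by rw [hb2]; group
      _ = (a⁻¹ * z) * b * (z⁻¹ * a) := by rw [haz.symm.inv_right.eq, haz.inv_right.eq]
      _ = a⁻¹ * (z * b * z⁻¹) * a := by group
      _ = b2 * t := by rw [hzb, hb2, mul_assoc, mul_assoc b, hat.symm.eq]; group
  have hδR : δ ∈ R := by
    rw [← c.hRT2eq]
    refine ⟨T2.mul_mem hb.1 (T2.inv_mem hb2T), mem_C.mpr (Commute.symm ?_)⟩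
    refine mul_inv_eq_iff_eq_mul.mp ?_
    rw [hδ, show z * (b * b2⁻¹) * z⁻¹ = (z * b * z⁻¹) * (z * b2 * z⁻¹)⁻¹ by group, hzb, hzb2,
      mul_inv_rev, mul_assoc b, mul_inv_cancel_left]
  have hδ2 : δ * δ = 1 := by
    rw [hδ, hbb2.inv_right.symm.mul_mul_mul_comm, c.hK.uinv.sq_of_four hb.2 hb4, ← mul_inv_rev,
      hb2sq, mul_inv_cancel]
  have hδi : δ⁻¹ = δ := inv_eq_of_mul_eq_one_right hδ2
  have hδt : Commute δ t := mem_C.mp (c.RCt hδR)
  have haa : a * a = z := c.hJ.uinv.sq_of_four haJ ha4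
  have hzbz : a⁻¹ * a⁻¹ * b * (a * a) = b * t := by
    rw [← mul_inv_rev, haa, c.hJ.uinv.inv_eq, ← hzb, c.hJ.uinv.inv_eq]
  have haδ : a⁻¹ * δ * a = δ * t := by
    calc a⁻¹ * δ * a = b2 * (a⁻¹ * a⁻¹ * b * (a * a))⁻¹ := by
          rw [hδ, hb2]
          simp only [mul_inv_rev, inv_inv, mul_assoc, mul_inv_cancel_left]
      _ = b2 * (t * b⁻¹) := by rw [hzbz, mul_inv_rev, c.hK.uinv.inv_eq]
      _ = (b * b2⁻¹)⁻¹ * t := by rw [hbt.symm.inv_right.eq]; group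
      _ = δ * t := by rw [← hδ, hδi]
  set a2 := δ * a * δ⁻¹ with ha2
  have hta : a⁻¹ * a2 = t := by
    rw [ha2, show a⁻¹ * (δ * a * δ⁻¹) = (a⁻¹ * δ * a) * δ⁻¹ by group, haδ, hδt.eq,
      mul_inv_cancel_right]
  have hJ2 := c.hJ.conj_of_mem (c.RC hδR)
  have hJ2ne : J ≠ cj δ J := fun e => c.hne
    (c.hJ.uinv.uniq t (hta ▸ J.mul_mem (J.inv_mem haJ) (e ▸ conj_mem_cj haJ)) c.hK.uinv.inv).symm
  have hprt : pr z t = (pr z a)⁻¹ * pr z a2 := by
    rw [← pr_inv (c.hJ.le haJ), ← pr_mul ((C z).inv_mem (c.hJ.le haJ)) (hJ2.le (conj_mem_cj haJ)),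
      hta]
  have hnt' : ¬ Triv z (cj y J) t := fun h => c.tJ_nontriv (by
    have h2 := c.hJ'.triv_conj ((C z).inv_mem c.yC) c.tC h
    rwa [← cj_mul, inv_mul_cancel, cj_one, inv_inv,
      show y⁻¹ * t * y = t by rw [mul_assoc, c.t_y, inv_mul_cancel_left]] at h2)
  have hJ2eq : cj δ J = cj y J := by
    by_contra hne
    exact hnt' fun j hj => hprt ▸ ((c.hJ.comm_of_ne c.hJ' c.hJne haJ hj).inv_left.mul_left
      (hJ2.comm_of_ne c.hJ' hne (conj_mem_cj haJ) hj))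
  set a' := y * a * y⁻¹ with ha'
  have ha2J : a2 ∈ cj y J := hJ2eq ▸ conj_mem_cj haJ
  have ha2R : a2 ∈ R := R.mul_mem (R.mul_mem hδR haR) (R.inv_mem hδR)
  have hcen : Triv z (cj y J) (a' * a2) := by
    intro j hj
    obtain ⟨i, hi, rfl⟩ : ∃ i ∈ J, j = y * i * y⁻¹ :=
      ⟨y⁻¹ * j * y, mem_cj.mp hj, by group⟩
    have ha'C : a' ∈ C z := c.hJ'.le (conj_mem_cj haJ)
    have ha2C : a2 ∈ C z := c.hJ'.le ha2J
    have hAj : Commute (pr z a) (pr z (y * i * y⁻¹)) := c.hJ.comm_of_ne c.hJ' c.hJne haJ hj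
    have hA2i : Commute (pr z a2) (pr z i) := (c.hJ.comm_of_ne c.hJ' c.hJne hi ha2J).symm
    have hA2a : Commute (pr z a2) (pr z a) := (c.hJ.comm_of_ne c.hJ' c.hJne haJ ha2J).symm
    have hTY : pr z t * pr z y = pr z y * pr z t := by
      rw [← pr_mul c.tC c.yC, ← pr_mul c.yC c.tC, c.t_y]
    have e1 : pr z t * pr z (y * i * y⁻¹) * (pr z t)⁻¹ =
        pr z a2 * pr z (y * i * y⁻¹) * (pr z a2)⁻¹ := by
      rw [hprt, mul_inv_rev, inv_inv, show (pr z a)⁻¹ * pr z a2 * pr z (y * i * y⁻¹) *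
        ((pr z a2)⁻¹ * pr z a) = (pr z a)⁻¹ * (pr z a2 * pr z (y * i * y⁻¹) * (pr z a2)⁻¹) * pr z a
        by group, mul_assoc (pr z a)⁻¹, ← (((hA2a.symm).mul_right hAj).mul_right
          (hA2a.symm.inv_right)).eq, inv_mul_cancel_left]
    have e2 : pr z t * pr z i * (pr z t)⁻¹ = (pr z a)⁻¹ * pr z i * pr z a := by
      rw [hprt, mul_inv_rev, inv_inv, show (pr z a)⁻¹ * pr z a2 * pr z i * ((pr z a2)⁻¹ * pr z a) =
        (pr z a)⁻¹ * (pr z a2 * pr z i * (pr z a2)⁻¹) * pr z a by group, hA2i.eq, mul_inv_cancel_right]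
    have e3 : pr z t * pr z (y * i * y⁻¹) * (pr z t)⁻¹ =
        (pr z a')⁻¹ * pr z (y * i * y⁻¹) * pr z a' := by
      rw [pr_conj c.yC (c.hJ.le hi), ha', pr_conj c.yC (c.hJ.le haJ)]
      calc pr z t * (pr z y * pr z i * (pr z y)⁻¹) * (pr z t)⁻¹
          = (pr z t * pr z y) * pr z i * (pr z t * pr z y)⁻¹ := by group
        _ = (pr z y * pr z t) * pr z i * (pr z y * pr z t)⁻¹ := by rw [hTY]
        _ = pr z y * (pr z t * pr z i * (pr z t)⁻¹) * (pr z y)⁻¹ := by group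
        _ = _ := by rw [e2]; group
    have hgoal : (pr z a' * pr z a2) * pr z (y * i * y⁻¹) * (pr z a' * pr z a2)⁻¹ =
        pr z (y * i * y⁻¹) := by
      rw [show (pr z a' * pr z a2) * pr z (y * i * y⁻¹) * (pr z a' * pr z a2)⁻¹ =
        pr z a' * (pr z a2 * pr z (y * i * y⁻¹) * (pr z a2)⁻¹) * (pr z a')⁻¹ by group, ← e1, e3]
      group
    show Commute (pr z (a' * a2)) _
    rw [pr_mul ha'C ha2C]
    exact mul_inv_eq_iff_eq_mul.mp hgoal
  have hcase : a' * a2 = 1 ∨ a' * a2 = z := by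
    by_contra hn
    push Not at hn
    exact c.hJ'.not_triv (mul_mem (conj_mem_cj haJ) ha2J)
      (isTwo_of_pgroup c.hR.two (R.mul_mem (c.conj_yR haR) ha2R)) hn.1 hn.2 hcen
  have haat : a * a' = t := by
    rcases hcase with e | e
    · rw [eq_inv_of_mul_eq_one_right e] at hta
      rw [hcom.eq, ← inv_inv (a' * a), mul_inv_rev, hta, c.hK.uinv.inv_eq]
    · exfalso
      have e' : a2 = a' := mul_left_cancel (e.trans hsq.symm)
      rw [e', hw] at hta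
      have hy'eq : y' ∈ K := by
        rw [mul_inv_eq_iff_eq_mul.mp hta]; exact K.mul_mem c.hK.uinv.mem c.hyK
      rcases c.hK.meet_cases hK' hKne hy'eq hy'K (isTwo_of_pgroup c.hR.two hy'R) with e1 | e1
      · refine c.hy1 ?_
        rw [hy'] at e1
        rw [show y = a * (a⁻¹ * y * a) * a⁻¹ by group, e1]; group
      · refine c.hyt ?_
        rw [hy'] at e1
        rw [show y = a * (a⁻¹ * y * a) * a⁻¹ by group, e1, hat.eq, mul_inv_cancel_right]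
  have hwzt : a⁻¹ * a' = z * t := by
    rw [← haat, ← c.hJ.uinv.inv_eq, ← haa]; group
  refine ⟨hyy, haat, ?_, hKne, hwzt⟩
  show y' * y = z
  rw [show y' * y = y' * y⁻¹ * (y * y) by group, hyy, ← hw, hwzt, mul_assoc, c.t2, mul_one]

/-- The elements `η`, `V = η t η⁻¹`, `V' = η⁻¹ t η`. -/
theorem exists_V (c : Cfg J K R T T2 z t y) {a : G} (haR : a ∈ R) (haJ : a ∈ J)
    (ha4 : orderOf a = 4) (hyy : y * y = t) (haat : a * (y * a * y⁻¹) = t)
    (hwzt : a⁻¹ * (y * a * y⁻¹) = z * t) :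
    ∃ η V V' : G, η ∈ C z ∧ η * t * η⁻¹ = V ∧ η * V' * η⁻¹ = t ∧
      V ∈ R ∧ orderOf V = 2 ∧ V * y * V⁻¹ = z * y ∧ V' ∈ H z t ∧ V' * V' = 1 ∧
      pr z V' ∈ im z J ⊔ im z (cj y J) ∧ pr z (y * V' * y⁻¹) = pr z V' * pr z z := by
  have hS := c.hJ.syl_inf c.hT
  obtain ⟨β, hβ, hβ4, hβa⟩ := exists_inverting (c.hJ.syl_uinv c.hT) hS.two
    (c.hJ.syl_not_cyclic hS) ⟨c.hRT haR, haJ⟩ ha4
  set a' := y * a * y⁻¹ with ha'
  set β' := y * β * y⁻¹ with hβ'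
  have hβa' : Commute β a' := c.comm_T hβ.1 hβ.2 (c.conj_yT (c.hRT haR)) (conj_mem_cj haJ)
  have hβt : β * t * β⁻¹ = z * t := by
    calc β * t * β⁻¹ = (β * a * β⁻¹) * (β * a' * β⁻¹) := by rw [← haat]; group
      _ = a⁻¹ * a' := by rw [hβa, hβa'.eq, mul_inv_cancel_right]
      _ = z * t := hwzt
  have htβ : t * β * t⁻¹ = z * β := by
    calc t * β * t⁻¹ = (z * z) * t * β * t⁻¹ := by rw [c.z2, one_mul]
      _ = z * ((z * t) * β) * t⁻¹ := by group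
      _ = z * ((β * t * β⁻¹) * β) * t⁻¹ := by rw [hβt]
      _ = z * β := by group
  have hzy : y * z * y⁻¹ = z := conj_eq_of_mem_C c.yC
  have htβ' : t * β' * t⁻¹ = z * β' := by
    calc t * β' * t⁻¹ = (t * y) * β * (t * y)⁻¹ := by rw [hβ']; group
      _ = y * (t * β * t⁻¹) * y⁻¹ := by rw [c.t_y]; group
      _ = (y * z * y⁻¹) * β' := by rw [htβ, hβ']; group
      _ = z * β' := by rw [hzy]
  have hcom : Commute β β' := c.comm_T hβ.1 hβ.2 (c.conj_yT hβ.1) (conj_mem_cj hβ.2)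
  have hzβ : Commute β z := mem_C.mp (c.hJ.le hβ.2)
  have hzβ' : Commute β' z := mem_C.mp (c.hJ'.le (conj_mem_cj hβ.2))
  have hβ'sq : β' * β' = z := c.hJ'.uinv.sq_of_four (conj_mem_cj hβ.2)
    (by rw [hβ', Involutions.Basic.orderOf_conj]; exact hβ4)
  set V := β * β' with hV
  have hV2 : V * V = 1 := c.hJ.mul_involution hβ.2 hβ4 hcom hβ'sq
  have hVi : V⁻¹ = V := inv_eq_of_mul_eq_one_right hV2
  have hVord : orderOf V = 2 := Involutions.Basic.orderOf_two_iff.mpr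
    ⟨hV2, c.hJ.mul_ne_one c.hJ' c.hJne hβ.2 (conj_mem_cj hβ.2) hβ4⟩
  have hVR : V ∈ R := by
    rw [← c.hRTeq]
    refine ⟨T.mul_mem hβ.1 (c.conj_yT hβ.1), mem_C.mpr (Commute.symm ?_)⟩
    refine mul_inv_eq_iff_eq_mul.mp ?_
    rw [hV, show t * (β * β') * t⁻¹ = (t * β * t⁻¹) * (t * β' * t⁻¹) by group, htβ, htβ',
      show z * β * (z * β') = z * (β * z) * β' by group, hzβ.eq, ← mul_assoc z z, c.z2, one_mul]
  have hyV : y * V * y⁻¹ = z * V := by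
    rw [hV, show y * (β * β') * y⁻¹ = (y * β * y⁻¹) * ((y * y) * β * (y * y)⁻¹) by
      rw [hβ']; group, ← hβ', hyy, htβ, ← mul_assoc, hzβ'.eq, mul_assoc, hcom.symm.eq]
  have hVy : V * y * V⁻¹ = z * y := by
    have hVz : Commute V z := mem_C.mp (c.RC hVR)
    calc V * y * V⁻¹ = V * (y * V * y⁻¹) * y := by rw [hVi]; group
      _ = V * (V * z) * y := by rw [hyV, hVz.symm.eq]
      _ = z * y := by rw [← mul_assoc V V, hV2, one_mul]
  set aX : im z J := ⟨pr z a, pr_mem_im c.hJ.le haJ⟩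
  set βX : im z J := ⟨pr z β, pr_mem_im c.hJ.le hβ.2⟩
  obtain ⟨gX, hgX⟩ := c.hJ.qq.conj_four (a := aX) (b := βX)
    (by rw [Subgroup.orderOf_mk, orderOf_pr (c.hJ.le haJ) (isTwo_of_order_four ha4)]; exact ha4)
    (by rw [Subgroup.orderOf_mk, orderOf_pr (c.hJ.le hβ.2) (isTwo_of_order_four hβ4)]; exact hβ4)
  obtain ⟨h, hh, hhg⟩ := (mem_im c.hJ.le).mp gX.2
  obtain ⟨β1, hβ1, hβ1a, hβ1V, hB1⟩ : ∃ β1 ∈ J, β1 * a * β1⁻¹ = a⁻¹ ∧
      β1 * (y * β1 * y⁻¹) = V ∧ pr z h * pr z a * (pr z h)⁻¹ = pr z β1 := by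
    rcases hgX with e | e
    · exact ⟨β, hβ.2, hβa, rfl, by rw [hhg]; exact congrArg Subtype.val e⟩
    · refine ⟨β⁻¹, J.inv_mem hβ.2, ?_, ?_, ?_⟩
      · have h1 : β * a⁻¹ * β⁻¹ = a := by
          rw [show β * a⁻¹ * β⁻¹ = (β * a * β⁻¹)⁻¹ by group, hβa, inv_inv]
        calc β⁻¹ * a * β⁻¹⁻¹ = β⁻¹ * (β * a⁻¹ * β⁻¹) * β⁻¹⁻¹ := by rw [h1]
          _ = a⁻¹ := by group
      · rw [show β⁻¹ * (y * β⁻¹ * y⁻¹) = (y * β * y⁻¹ * β)⁻¹ by group, ← hβ', ← hcom.eq, ← hV, hVi]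
      · rw [pr_inv (c.hJ.le hβ.2), hhg]; exact congrArg Subtype.val e
  have hhC : h ∈ C z := c.hJ.le hh
  have haC : a ∈ C z := c.hJ.le haJ
  have hh'C : y * h * y⁻¹ ∈ C z := c.hJ'.le (conj_mem_cj hh)
  have hcc : ∀ {j j' : G}, j ∈ J → j' ∈ cj y J → Commute (pr z j) (pr z j') := fun hj hj' =>
    c.hJ.comm_of_ne c.hJ' c.hJne hj hj'
  set η0 := h * (y * h * y⁻¹) with hη0
  have hη0C : η0 ∈ C z := (C z).mul_mem hhC hh'C
  have hprt : pr z t = pr z a * pr z a' := by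
    rw [← pr_mul haC (c.hJ'.le (conj_mem_cj haJ)), haat]
  set A := pr z a with hA
  set A' := pr z a' with hA'
  set Hh := pr z h with hHh
  set Hh' := pr z (y * h * y⁻¹) with hHh'
  set Y := pr z y with hY
  have hA'eq : A' = Y * A * Y⁻¹ := pr_conj c.yC haC
  have hH'eq : Hh' = Y * Hh * Y⁻¹ := pr_conj c.yC hhC
  have hprη : pr z η0 = Hh * Hh' := pr_mul hhC hh'C
  set B1 := pr z β1
  have hB1' : Hh' * A' * Hh'⁻¹ = pr z (y * β1 * y⁻¹) := by
    rw [pr_conj c.yC (c.hJ.le hβ1), hA'eq, hH'eq, ← hY,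
      show Y * Hh * Y⁻¹ * (Y * A * Y⁻¹) * (Y * Hh * Y⁻¹)⁻¹ = Y * (Hh * A * Hh⁻¹) * Y⁻¹ by group, hB1]
  have hηt : pr z (η0 * t * η0⁻¹) = pr z V := by
    rw [pr_conj hη0C c.tC, hprη, hprt]
    calc Hh * Hh' * (A * A') * (Hh * Hh')⁻¹ = Hh * ((Hh' * A) * A') * Hh'⁻¹ * Hh⁻¹ := by group
      _ = Hh * A * (Hh' * A' * Hh'⁻¹) * Hh⁻¹ := by
          rw [(show Commute Hh' A from (hcc haJ (conj_mem_cj hh)).symm).eq]; group
      _ = (Hh * A * Hh⁻¹) * (Hh' * A' * Hh'⁻¹) := by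
          have hc1 : Commute Hh (pr z (y * β1 * y⁻¹)) := hcc hh (conj_mem_cj hβ1)
          rw [hB1', mul_assoc (Hh * A) _ Hh⁻¹, ← hc1.inv_left.eq]; group
      _ = pr z V := by rw [hB1, hB1', ← pr_mul (c.hJ.le hβ1) (c.hJ'.le (conj_mem_cj hβ1)), hβ1V]
  obtain ⟨o, -, hoC, ho1, hoe⟩ := conj_of_pr_eq
    ((C z).mul_mem ((C z).mul_mem hη0C c.tC) ((C z).inv_mem hη0C)) (c.RC hVR)
    (by rw [Involutions.Basic.orderOf_conj, c.hK.uinv.inv]) hVord hηt
  set η := o * η0 with hη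
  have hηC : η ∈ C z := (C z).mul_mem hoC hη0C
  have hηtV : η * t * η⁻¹ = V := by rw [← hoe, hη]; group
  set V' := η⁻¹ * t * η with hV'
  have hηV' : η * V' * η⁻¹ = t := by rw [hV']; group
  have hV'C : V' ∈ C z := (C z).mul_mem ((C z).mul_mem ((C z).inv_mem hηC) c.tC) hηC
  have hV't : Commute V' t := by
    have h1 := (mem_C.mp (c.RCt hVR)).symm.map (MulAut.conj η⁻¹).toMonoidHom
    have h2 : η⁻¹ * V * η = t := by rw [← hηtV]; group
    simp only [MulEquiv.coe_toMonoidHom, MulAut.conj_apply, inv_inv] at h1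
    rwa [h2] at h1
  have hprη' : pr z η = Hh * Hh' := by rw [pr_mul hoC hη0C, ho1, one_mul, hprη]
  set k := h⁻¹ * a * h with hk
  have hkJ : k ∈ J := J.mul_mem (J.mul_mem (J.inv_mem hh) haJ) hh
  set Kk := pr z k
  have hKk : Kk = Hh⁻¹ * A * Hh := by
    show pr z (h⁻¹ * a * h) = _
    rw [pr_mul ((C z).mul_mem ((C z).inv_mem hhC) haC) hhC, pr_mul ((C z).inv_mem hhC) haC,
      pr_inv hhC]
  set Kk' := pr z (y * k * y⁻¹)
  have hKk' : Kk' = Hh'⁻¹ * A' * Hh' := by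
    show pr z (y * k * y⁻¹) = _
    rw [pr_conj c.yC (c.hJ.le hkJ), show pr z k = Kk from rfl, hKk, hA'eq, hH'eq, ← hY]; group
  have hprV' : pr z V' = Kk * Kk' := by
    rw [hV', pr_mul ((C z).mul_mem ((C z).inv_mem hηC) c.tC) hηC,
      pr_mul ((C z).inv_mem hηC) c.tC, pr_inv hηC, hprη', hprt, hKk, hKk']
    calc (Hh * Hh')⁻¹ * (A * A') * (Hh * Hh') = Hh'⁻¹ * Hh⁻¹ * A * (A' * Hh) * Hh' := by group
      _ = Hh'⁻¹ * (Hh⁻¹ * A * Hh) * (A' * Hh') := by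
          rw [(show Commute A' Hh from (hcc hh (conj_mem_cj haJ)).symm).eq]; group
      _ = (Hh⁻¹ * A * Hh) * (Hh'⁻¹ * (A' * Hh')) := by
          have hc1 : Commute Kk Hh' := hcc hkJ (conj_mem_cj hh)
          rw [← hKk, hc1.symm.inv_left.eq, mul_assoc]
      _ = Hh⁻¹ * A * Hh * (Hh'⁻¹ * A' * Hh') := by group
  refine ⟨η, V, V', hηC, hηtV, hηV', hVR, hVord, hVy, ⟨hV'C, mem_C.mpr hV't⟩, ?_, ?_, ?_⟩
  · rw [hV', show η⁻¹ * t * η * (η⁻¹ * t * η) = η⁻¹ * (t * t) * η by group, c.t2]; group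
  · rw [hprV']
    exact mul_mem (mem_sup_left (pr_mem_im c.hJ.le hkJ))
      (mem_sup_right (pr_mem_im c.hJ'.le (conj_mem_cj hkJ)))
  · have hKinv : A * Kk * A⁻¹ = Kk⁻¹ := by
      have h1 : B1 * A * B1⁻¹ = A⁻¹ := by
        show pr z β1 * pr z a * (pr z β1)⁻¹ = (pr z a)⁻¹
        rw [← pr_conj (c.hJ.le hβ1) haC, hβ1a, pr_inv haC]
      calc A * Kk * A⁻¹ = Hh⁻¹ * ((Hh * A * Hh⁻¹) * A * (Hh * A * Hh⁻¹)⁻¹) * Hh := by
            rw [hKk]; group
        _ = Hh⁻¹ * A⁻¹ * Hh := by rw [hB1, h1]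
        _ = Kk⁻¹ := by rw [hKk]; group
    have hk4 : orderOf k = 4 := by
      rw [hk, show h⁻¹ * a * h = h⁻¹ * a * h⁻¹⁻¹ by group, Involutions.Basic.orderOf_conj]
      exact ha4
    have hKz : Kk⁻¹ = Kk * pr z z := by
      rw [← pr_inv (c.hJ.le hkJ), c.hJ.uinv.four_inv hkJ hk4, pr_mul (c.hJ.le hkJ) c.hJ.z_mem]
    have hYY : Y * Y = A * A' := by rw [hY, ← pr_mul c.yC c.yC, hyy, hprt]
    have hK'eq : Kk' = Y * Kk * Y⁻¹ := pr_conj c.yC (c.hJ.le hkJ)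
    have hA'k : Commute Kk A' := hcc hkJ (conj_mem_cj haJ)
    have hKK' : Commute Kk Kk' := hcc hkJ (conj_mem_cj hkJ)
    rw [pr_conj c.yC hV'C, hprV', ← hY]
    calc Y * (Kk * Kk') * Y⁻¹ = Kk' * ((Y * Y) * Kk * (Y * Y)⁻¹) := by rw [hK'eq]; group
      _ = Kk' * (A * (A' * Kk * A'⁻¹) * A⁻¹) := by rw [hYY]; group
      _ = Kk' * (Kk * pr z z) := by rw [hA'k.symm.eq, mul_inv_cancel_right, hKinv, hKz]
      _ = Kk * Kk' * pr z z := by rw [← mul_assoc, hKK'.symm.eq]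

/-- The subgroup of `H` lying over `C(t̄)` in `J J'` is solvable. -/
lemma solvable_F (c : Cfg J K R T T2 z t y) {a : G} (haJ : a ∈ J)
    (ha4 : orderOf a = 4) (haat : a * (y * a * y⁻¹) = t) :
    ∃ F : Subgroup G, F ≤ H t z ∧ (F.subgroupOf (H t z)).IsSubnormal ∧ Group.IsSolvable F ∧
      ∀ x ∈ H t z, pr z x ∈ im z J ⊔ im z (cj y J) → x ∈ F := by
  set E := im z J ⊔ im z (cj y J) with hE
  have hEn : Cfsg.layer (Q z) ≤ normalizer (E : Set (Q z)) := fun g hg =>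
    mem_normalizer_iff_map_conj_eq.mpr ((Subgroup.map_sup _ _ _).trans (congrArg₂ (· ⊔ ·)
      (mem_normalizer_iff_map_conj_eq.mp (Components.Basic.layer_le_normalizer c.hJ.component hg))
      (mem_normalizer_iff_map_conj_eq.mp (Components.Basic.layer_le_normalizer c.hJ'.component hg))))
  have hEs : E.IsSubnormal := IsSubnormal.trans
    (sup_le (le_layer c.hJ.component) (le_layer c.hJ'.component))
    (normal_subgroupOf_of_le_normalizer hEn).isSubnormal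
    (inferInstance : (Cfsg.layer (Q z)).Normal).isSubnormal
  set M := (E.comap (QuotientGroup.mk' (Cfsg.pPrimeCore 2 ↥(C z)))).map (C z).subtype with hM
  have hMs : (M.subgroupOf (C z)).IsSubnormal := by
    rw [hM, subgroupOf, comap_map_eq_self_of_injective (C z).subtype_injective]
    exact hEs.comap _
  refine ⟨M ⊓ H t z, inf_le_right, subnormal_inf hMs inf_le_right, ?_,
    fun x hx hxE => ⟨⟨⟨x, hx.2⟩, ?_, rfl⟩, hx⟩⟩
  swap
  · rw [SetLike.mem_coe, Subgroup.mem_comap, ← pr_mk hx.2]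
    exact hxE
  obtain ⟨N1, hN1, hN1le, hN1m⟩ := c.hJ.solvable_cen haJ ha4
  obtain ⟨N2, hN2, hN2le, hN2m⟩ := c.hJ'.solvable_cen (conj_mem_cj haJ)
    (show orderOf (y * a * y⁻¹) = 4 by rw [Involutions.Basic.orderOf_conj]; exact ha4)
  haveI hNs : Group.IsSolvable ↥(N1 ⊔ N2) := isSolvable_sup hN1 hN2 fun p hp q hq => by
    obtain ⟨j, hj, rfl⟩ := (mem_im c.hJ.le).mp (hN1le hp)
    obtain ⟨j', hj', rfl⟩ := (mem_im c.hJ'.le).mp (hN2le hq)
    exact c.hJ.comm_of_ne c.hJ' c.hJne hj hj'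
  set F := M ⊓ H t z
  have hFC : ∀ x : F, (x : G) ∈ C z := fun x => x.2.2.2
  let ψ : F →* Q z := MonoidHom.mk' (fun x => pr z x) fun p q => pr_mul (hFC p) (hFC q)
  have hcc : ∀ p ∈ im z J, ∀ q ∈ im z (cj y J), Commute p q := fun p hp q hq => by
    obtain ⟨j, hj, rfl⟩ := (mem_im c.hJ.le).mp hp
    obtain ⟨j', hj', rfl⟩ := (mem_im c.hJ'.le).mp hq
    exact c.hJ.comm_of_ne c.hJ' c.hJne hj hj'
  have hrange : ψ.range ≤ N1 ⊔ N2 := by
    rintro _ ⟨⟨x, hxM, hxt, hxz⟩, rfl⟩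
    show pr z x ∈ N1 ⊔ N2
    obtain ⟨⟨x', hx'C⟩, hx', rfl⟩ := hxM
    have hxE : pr z x' ∈ (↑E : Set (Q z)) := by rw [pr_mk hx'C]; exact hx'
    rw [hE, coe_mul_of_right_le_normalizer_left] at hxE
    swap
    · exact le_trans (fun q hq => mem_centralizer_iff.mpr fun p hp => (hcc p hp q hq).eq)
        (centralizer_le_normalizer _)
    obtain ⟨d, hd, d', hd', he⟩ := hxE
    have he' : d * d' = pr z x' := he
    set A := pr z a
    set A' := pr z (y * a * y⁻¹)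
    have hA : A ∈ im z J := pr_mem_im c.hJ.le haJ
    have hA' : A' ∈ im z (cj y J) := pr_mem_im c.hJ'.le (conj_mem_cj haJ)
    have hcomm : (A * d * A⁻¹) * (A' * d' * A'⁻¹) = d * d' := by
      have h1 : pr z t * pr z x' * (pr z t)⁻¹ = pr z x' := by
        have hxt' : x' ∈ C t := hxt
        rw [← pr_conj c.tC hx'C, (mem_C.mp hxt').eq.symm, mul_inv_cancel_right]
      rw [← he', ← haat, pr_mul (c.hJ.le haJ) (c.hJ'.le (conj_mem_cj haJ))] at h1
      calc (A * d * A⁻¹) * (A' * d' * A'⁻¹) = A * d * ((A⁻¹ * A') * d' * A'⁻¹) := by group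
        _ = A * (d * A') * (A⁻¹ * d') * A'⁻¹ := by
            rw [(hcc A hA A' hA').inv_left.eq]; group
        _ = A * (A' * d) * (d' * A⁻¹) * A'⁻¹ := by
            rw [(hcc d hd A' hA').eq, (hcc A hA d' hd').inv_left.eq]
        _ = A * A' * (d * d') * (A' * A)⁻¹ := by group
        _ = d * d' := by rw [← (hcc A hA A' hA').eq]; exact h1
    have hdd : d⁻¹ * (A * d * A⁻¹) = d' * (A' * d' * A'⁻¹)⁻¹ := by
      rw [inv_mul_eq_iff_eq_mul, ← mul_assoc, eq_mul_inv_iff_mul_eq]; exact hcomm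
    have hw1 : d⁻¹ * (A * d * A⁻¹) ∈ im z J :=
      mul_mem (inv_mem hd) (mul_mem (mul_mem hA hd) (inv_mem hA))
    have hw2 : d' * (A' * d' * A'⁻¹)⁻¹ ∈ im z (cj y J) :=
      mul_mem hd' (inv_mem (mul_mem (mul_mem hA' hd') (inv_mem hA')))
    have hcases : d⁻¹ * (A * d * A⁻¹) = 1 ∨ d⁻¹ * (A * d * A⁻¹) = pr z z :=
      c.hJ.central_cases hw1 fun j hj => hdd ▸ (hcc _ (pr_mem_im c.hJ.le hj) _ hw2).symm
    have hcases' : d'⁻¹ * (A' * d' * A'⁻¹) = 1 ∨ d'⁻¹ * (A' * d' * A'⁻¹) = pr z z := by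
      have e0 : d'⁻¹ * (A' * d' * A'⁻¹) = d'⁻¹ * (d' * (A' * d' * A'⁻¹)⁻¹)⁻¹ * d' := by group
      rcases hcases with e | e <;> rw [hdd] at e <;> rw [e0, e]
      · left; group
      · right
        have hz : pr z z * d' = d' * pr z z := by
          obtain ⟨j', hj', rfl⟩ := (mem_im c.hJ'.le).mp hd'
          rw [← pr_mul c.hJ.z_mem (c.hJ'.le hj'), ← pr_mul (c.hJ'.le hj') c.hJ.z_mem,
            (mem_C.mp (c.hJ'.le hj')).eq]
        rw [← pr_inv c.hJ.z_mem, c.hJ.uinv.inv_eq, mul_assoc, hz, inv_mul_cancel_left]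
    rw [show pr z ((C z).subtype ⟨x', hx'C⟩) = pr z x' from rfl, ← he']
    exact mul_mem (mem_sup_left (hN1m d hd hcases)) (mem_sup_right (hN2m d' hd' hcases'))
  haveI : Group.IsSolvable ψ.ker := by
    refine S0205.result ?_
    rw [← Nat.coprime_two_right, Nat.coprime_comm, Nat.prime_two.coprime_iff_not_dvd]
    intro h2
    obtain ⟨⟨⟨k, hkF⟩, hkk⟩, hko⟩ := exists_prime_orderOf_dvd_card' (G := ψ.ker) 2 h2
    rw [Subgroup.orderOf_mk, Subgroup.orderOf_mk] at hko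
    exact Involutions.Basic.ne_one hko
      (two_eq_one_of_pr (hFC ⟨k, hkF⟩) (isTwo_of_order_two hko) hkk)
  haveI : Group.IsSolvable ψ.range := Group.isSolvable_of_isSolvable_injective
    (f := Subgroup.inclusion hrange) (Subgroup.inclusion_injective hrange)
  exact Group.isSolvable_of_ker_le_range ψ.ker.subtype ψ.rangeRestrict
    (by rw [MonoidHom.ker_rangeRestrict, range_subtype])

/-- The case `a ∉ N(K)` is impossible. -/
theorem false_of_move (c : Cfg J K R T T2 z t y) {a : G} (haR : a ∈ R) (haJ : a ∈ J)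
    (ha4 : orderOf a = 4) (haK : a ∉ normalizer (K : Set G)) : False := by
  obtain ⟨hyy, haat, hzy, hKne, hwzt⟩ := c.relations haR haJ ha4 haK
  obtain ⟨η, V, V', hηC, hηt, hηV', hVR, hVord, hVy, hV'H, hV'2, hV'E, hyV'⟩ :=
    c.exists_V haR haJ ha4 hyy haat hwzt
  obtain ⟨b, hb, -, hby, -, hbz, -⟩ := c.exists_b hyy
  obtain ⟨F, hFH, hFs, hFsol, hFmem⟩ := c.solvable_F haJ ha4 haat
  set K' := cj a⁻¹ K
  have hK' : Comp K' t := c.hK.conj_of_mem ((C t).inv_mem (c.RCt haR))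
  set y' := a⁻¹ * y * a with hy'
  have hy'K : y' ∈ K' := by
    have : a⁻¹ * y * a⁻¹⁻¹ ∈ cj a⁻¹ K := conj_mem_cj c.hyK
    rwa [inv_inv] at this
  have hV'moves : cj V' K ≠ K := by
    intro e
    refine c.no_z_in_K (x := y * V' * y⁻¹ * V'⁻¹) ?_ ?_ ?_
    · rw [show y * V' * y⁻¹ * V'⁻¹ = y * (V' * y⁻¹ * V'⁻¹) by group]
      exact K.mul_mem c.hyK ((mem_normalizer_iff.mp (mem_norm_iff.mpr e) _).mp (K.inv_mem c.hyK))
    · exact (C z).mul_mem ((C z).mul_mem ((C z).mul_mem c.yC hV'H.1) ((C z).inv_mem c.yC))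
        ((C z).inv_mem hV'H.1)
    · have hzc : pr z z * (pr z V')⁻¹ = (pr z V')⁻¹ * pr z z := by
        rw [← pr_inv hV'H.1, ← pr_mul c.hJ.z_mem ((C z).inv_mem hV'H.1),
          ← pr_mul ((C z).inv_mem hV'H.1) c.hJ.z_mem, (mem_C.mp ((C z).inv_mem hV'H.1)).eq]
      rw [pr_mul ((C z).mul_mem ((C z).mul_mem c.yC hV'H.1) ((C z).inv_mem c.yC))
        ((C z).inv_mem hV'H.1), hyV', pr_inv hV'H.1, mul_assoc, hzc, mul_inv_cancel_left]
  have hprz : pr t z = pr t y' * pr t y := by rw [← pr_mul (hK'.le hy'K) c.yCt, hy', hzy]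
  have hfix : ∀ Xc, Comp Xc t → Xc ≠ K → Xc ≠ K' → cj V' Xc = Xc := by
    intro Xc hX h1 h2
    have htr : Triv t Xc z := fun j hj => hprz ▸
      (hX.comm_of_ne hK' h2 hj hy'K).symm.mul_left (hX.comm_of_ne c.hK h1 hj c.hyK).symm
    obtain ⟨hle, hcomp⟩ := hX.fix_component htr
    have hm : V' ∈ F := hFmem V' ⟨hV'H.2, hV'H.1⟩ hV'E
    exact mem_norm_iff.mp (hX.norm_of_triv hV'H.2 fun j hj =>
      (cen_solvable c.zC c.hJ.uinv.inv hle hcomp hFH hFs hFsol _ (pr_mem_im hX.le hj) V' hm).symm)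
  have hswap : cj V' K = K' := by
    by_contra hne
    have h1 := hfix _ (c.hK.conj_of_mem hV'H.2) hV'moves hne
    exact hV'moves (cj_inj h1)
  have hswap' : cj V' K' = K := by rw [← hswap, ← cj_mul, hV'2, cj_one]
  have hzfix : ∀ Xc, Comp Xc t → cj z Xc = Xc := fun Xc hX =>
    mem_norm_iff.mp (hX.layer_inner c.zC (hprz ▸ mul_mem (hK'.mem_layer hy'K)
      (c.hK.mem_layer c.hyK))).1
  -- transport to `e = b V b⁻¹`
  set e := b * V * b⁻¹ with he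
  set g2 := b * η with hg2
  have hbt : b * t * b⁻¹ = t := conj_eq_of_mem_C (c.hK.le hb.2)
  have hg2t : g2 * t * g2⁻¹ = e := by rw [he, ← hηt, hg2]; group
  have hg2V : g2 * V' * g2⁻¹ = t := by
    rw [hg2, show b * η * V' * (b * η)⁻¹ = b * (η * V' * η⁻¹) * b⁻¹ by group, hηV', hbt]
  have hg2z : g2 * z * g2⁻¹ = z * t := by
    rw [hg2, show b * η * z * (b * η)⁻¹ = b * (η * z * η⁻¹) * b⁻¹ by group,
      conj_eq_of_mem_C hηC, hbz]
  set A0 := cj g2 K with hA0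
  set B0 := cj g2 K' with hB0
  have hAB : A0 ≠ B0 := fun h => hKne (cj_inj h)
  have htA : cj t A0 = B0 := by
    rw [← hg2V, hA0, ← cj_mul, inv_mul_cancel_right, cj_mul, hswap]
  have htB : cj t B0 = A0 := by
    rw [← hg2V, hB0, ← cj_mul, inv_mul_cancel_right, cj_mul, hswap']
  have hpair : ∀ X, Comp X e → cj t X ≠ X → X = A0 ∨ X = B0 := by
    intro X hX hmov
    set Xt := cj g2⁻¹ X with hXt
    have hXt' : Comp Xt t := by
      have := hX.conj g2⁻¹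
      rwa [show g2⁻¹ * e * g2⁻¹⁻¹ = t by rw [← hg2t]; group] at this
    have hXeq : X = cj g2 Xt := by rw [hXt, ← cj_mul, mul_inv_cancel, cj_one]
    rw [hA0, hB0, hXeq]
    by_contra hn
    push Not at hn
    refine hmov ?_
    rw [hXeq, ← hg2V, ← cj_mul, inv_mul_cancel_right, cj_mul,
      hfix Xt hXt' (fun h => hn.1 (by rw [h])) fun h => hn.2 (by rw [h])]
  have hzA : cj z A0 = B0 := by
    have h1 : cj (z * t) A0 = A0 := by
      rw [← hg2z, hA0, ← cj_mul, inv_mul_cancel_right, cj_mul, hzfix K c.hK]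
    calc cj z A0 = cj (t * (z * t)) A0 := by
          congr 1
          rw [c.hzt.eq, ← mul_assoc, c.t2, one_mul]
      _ = B0 := by rw [cj_mul, h1, htA]
  have hA0e : Comp A0 e := hg2t ▸ c.hK.conj g2
  have hB0e : Comp B0 e := hg2t ▸ hK'.conj g2
  have hVCt : V ∈ C t := c.RCt hVR
  have heCt : e ∈ C t := by
    have := mem_C_conj b hVCt
    rwa [hbt] at this
  have heCz : e ∈ C z := by
    have h1 := mem_C_conj b (c.RC hVR)
    rw [hbz] at h1
    refine mem_C.mpr ?_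
    have := (mem_C.mp h1).mul_right (mem_C.mp heCt)
    rwa [show z * t * t = z by rw [mul_assoc, c.t2, mul_one]] at this
  have heord : orderOf e = 2 := by rw [he, Involutions.Basic.orderOf_conj]; exact hVord
  have hey : e * y * e⁻¹ = y' := by
    have h0 : b⁻¹ * y⁻¹ * b = y := by rw [← hby]; group
    have h1 : b⁻¹ * y * b = y⁻¹ := by
      calc b⁻¹ * y * b = (b⁻¹ * y⁻¹ * b)⁻¹ := by group
        _ = y⁻¹ := by rw [h0]
    have h2 : V * y⁻¹ * V⁻¹ = y⁻¹ * z⁻¹ := by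
      rw [show V * y⁻¹ * V⁻¹ = (V * y * V⁻¹)⁻¹ by group, hVy, mul_inv_rev]
    have h3 : b * y⁻¹ * b⁻¹ = y := by
      calc b * y⁻¹ * b⁻¹ = (b * y * b⁻¹)⁻¹ := by group
        _ = y := by rw [hby, inv_inv]
    have hy'eq : y' = z * y⁻¹ := eq_mul_inv_iff_mul_eq.mpr hzy
    have hyi : y⁻¹ = y * t := inv_eq_of_mul_eq_one_right (by rw [← mul_assoc, hyy, c.t2])
    rw [he, show b * V * b⁻¹ * y * (b * V * b⁻¹)⁻¹ = b * (V * (b⁻¹ * y * b) * V⁻¹) * b⁻¹ by group,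
      h1, h2, show b * (y⁻¹ * z⁻¹) * b⁻¹ = (b * y⁻¹ * b⁻¹) * (b * z * b⁻¹)⁻¹ by group, h3, hbz,
      hy'eq, mul_inv_rev, c.hJ.uinv.inv_eq, c.hK.uinv.inv_eq, hyi, ← c.hzt.eq, ← mul_assoc,
      ← mul_assoc, c.hyz.eq]
  have hcjV : cj V K = K' := by
    refine (c.hK.conj_of_mem hVCt).eq_of_meet hK' (conj_mem_cj c.hyK : V * y * V⁻¹ ∈ _) ?_
      (c.hy2.conj V) ?_ ?_
    · have e' : z * y = y' * t := by rw [← hzy, mul_assoc, hyy]
      rw [hVy, e']
      exact mul_mem hy'K hK'.uinv.mem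
    · intro h
      rw [mul_inv_eq_one, mul_eq_left] at h
      exact c.hy1 h
    · intro h
      rw [hVy] at h
      refine c.z_notMem_K ?_
      rw [eq_mul_inv_of_mul_eq h]
      exact mul_mem c.hK.uinv.mem (K.inv_mem c.hyK)
  have hbK : cj b K = K := mem_norm_iff.mp (le_normalizer hb.2)
  have hmoveK : cj e K ≠ K := by
    rw [he, cj_mul, cj_inv hbK, cj_mul, hcjV, mem_norm_iff.mp (c.hK.norm_of_mem hK' hb.2)]
    exact hKne.symm
  obtain ⟨R1, hR1a, hR1c, hR1mem⟩ := c.hK.diag_component heCt heord hmoveK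
  have hR1p : ⁅R1, R1⁆ = R1 := by
    have := congrArg (Subgroup.map (centralizer ({pr t e} : Set (Q t))).subtype)
      (component_commutator_self hR1c)
    rwa [map_commutator, map_subgroupOf_eq_of_le hR1a] at this
  have hR1M : R1 ≤ im t (C t ⊓ C e) := by
    intro q hq
    obtain ⟨x, hx, rfl⟩ := pr_surj q
    obtain ⟨o, -, hoC, ho1, hc⟩ :=
      commute_lift hx heCt heord (mem_centralizer_singleton_iff.mp (hR1a hq))
    have := pr_mem_im (J := C t ⊓ C e) inf_le_left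
      (⟨(C t).mul_mem hoC hx, mem_C.mpr hc⟩ : o * x ∈ C t ⊓ C e)
    rwa [pr_mul hoC hx, ho1, one_mul] at this
  obtain ⟨L, hLM, hLp, hR1L⟩ := exists_perfect inf_le_left hR1p hR1M
  have hzR1 : pr t z ∈ R1 := by
    refine (hR1mem _).mpr ⟨y, c.hyK, ?_⟩
    rw [hey, pr_mul c.yCt (hK'.le hy'K), hprz]
    exact (c.hK.comm_of_ne hK' hKne c.hyK hy'K).eq.symm
  obtain ⟨l, hl, hlz⟩ := (mem_im (hLM.trans inf_le_left)).mp (hR1L hzR1)
  obtain ⟨m, hm, hm'⟩ := lift_involution (hLM hl).1 (by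
    rw [hlz, orderOf_pr c.zC (isTwo_of_order_two c.hJ.uinv.inv)]; exact c.hJ.uinv.inv)
  obtain ⟨o, ho, hoC, -, hoe⟩ := conj_of_pr_eq (hLM (L.pow_mem hl m)).1 c.zC hm c.hJ.uinv.inv
    (hm'.trans hlz)
  have hzCe : z ∈ C e := mem_C_comm.mp heCz
  have hoM : o ∈ C t ⊓ C e :=
    ⟨hoC, zpowers_le.mpr ((C e).mul_mem (hLM (L.pow_mem hl m)).2 hzCe) ho⟩
  set L2 := cj o L
  have hL2p : ⁅L2, L2⁆ = L2 := by
    show ⁅L.map (MulAut.conj o).toMonoidHom, L.map (MulAut.conj o).toMonoidHom⁆ = _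
    rw [← map_commutator, hLp]; rfl
  have hL2M : L2 ≤ C t ⊓ C e := by
    rintro _ ⟨x, hx, rfl⟩
    exact mul_mem (mul_mem hoM (hLM hx)) (inv_mem hoM)
  have hzL2 : z ∈ L2 := hoe ▸ conj_mem_cj (L.pow_mem hl m)
  have hperm : ∀ x ∈ L2, (cj x A0 = A0 ∨ cj x A0 = B0) ∧ (cj x B0 = A0 ∨ cj x B0 = B0) := by
    intro x hx
    have hxt : t * x = x * t := (mem_C.mp (hL2M hx).1).eq.symm
    refine ⟨hpair _ (hA0e.conj_of_mem (hL2M hx).2) ?_, hpair _ (hB0e.conj_of_mem (hL2M hx).2) ?_⟩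
    · rw [← cj_mul, hxt, cj_mul, htA]
      exact fun h => hAB (cj_inj h).symm
    · rw [← cj_mul, hxt, cj_mul, htB]
      exact fun h => hAB (cj_inj h)
  have hle : L2 ≤ normalizer (A0 : Set G) := by
    refine perfect_le_or hL2p fun p hp q hq hpA hqA => mem_norm_iff.mpr ?_
    have hqA' : cj q A0 = B0 := (hperm q hq).1.resolve_left fun h => hqA (mem_norm_iff.mpr h)
    have hpA' : cj p A0 = B0 := (hperm p hp).1.resolve_left fun h => hpA (mem_norm_iff.mpr h)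
    rw [cj_mul, hqA']
    exact (hperm p hp).2.resolve_right fun h => hAB (cj_inj (hpA'.trans h.symm))
  exact hAB ((mem_norm_iff.mp (hle hzL2)).symm.trans hzA)

end Cfg

end Cfsg.Agent.IntrinsicPair
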