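import Cfsg.Agent.Lib.Components.IntrinsicPair.Tools

/-!
Part (i): an element `y` moving `J` while `t` and `y²` fix it.  The configuration, an element of order
four of `J` fixed by `y²`, and the commutativity of the 2-group `R ∩ K`.
-/

set_option autoImplicit false
set_option linter.style.haveILetI false
set_option linter.unusedSectionVars false

namespace Cfsg.Agent.IntrinsicPair

open Subgroup
open scoped commutatorElement

universe u

variable {G : Type u} [Group G] [Finite G]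

local instance fact_two₃ : Fact (Nat.Prime 2) := ⟨Nat.prime_two⟩

/-- The configuration of a counterexample to part (i). -/
structure Cfg (J K R T T2 : Subgroup G) (z t y : G) : Prop where
  hJ : Comp J z
  hK : Comp K t
  hne : z ≠ t
  hyK : y ∈ K
  hy2 : IsTwo y
  hy1 : y ≠ 1
  hyt : y ≠ t
  hyz : Commute y z
  hyy : y * y ∈ normalizer (J : Set G)
  hyJ : y ∉ normalizer (J : Set G)
  htJ : t ∈ normalizer (J : Set G)
  hR : Syl R (H z t)
  hyR : y ∈ R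
  hT : Syl T (C z)
  hRT : R ≤ T
  hT2 : Syl T2 (C t)
  hRT2 : R ≤ T2

namespace Cfg

variable {J K R T T2 : Subgroup G} {z t y : G}

lemma z2 (c : Cfg J K R T T2 z t y) : z * z = 1 := c.hJ.uinv.mul_self

lemma t2 (c : Cfg J K R T T2 z t y) : t * t = 1 := c.hK.uinv.mul_self

lemma yC (c : Cfg J K R T T2 z t y) : y ∈ C z := mem_C.mpr c.hyz

lemma yCt (c : Cfg J K R T T2 z t y) : y ∈ C t := c.hK.le c.hyK

lemma t_pow (c : Cfg J K R T T2 z t y) : t ∈ zpowers y :=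
  let ⟨_, hk⟩ := c.hy2; c.hK.uinv.mem_zpowers c.hyK hk c.hy1

lemma hzt (c : Cfg J K R T T2 z t y) : Commute z t := (mem_C.mp (zpowers_le.mpr c.yC c.t_pow)).symm

lemma tC (c : Cfg J K R T T2 z t y) : t ∈ C z := mem_C.mpr c.hzt.symm

lemma zC (c : Cfg J K R T T2 z t y) : z ∈ C t := mem_C.mpr c.hzt

lemma zt_two (c : Cfg J K R T T2 z t y) : orderOf (z * t) = 2 := by
  rw [Involutions.Basic.orderOf_two_iff, c.hzt.symm.mul_mul_mul_comm, c.z2, c.t2, one_mul]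
  refine ⟨rfl, fun e => c.hne ?_⟩
  rw [eq_inv_of_mul_eq_one_left e, c.hK.uinv.inv_eq]

lemma hzK (c : Cfg J K R T T2 z t y) : z ∈ normalizer (K : Set G) := by
  refine mem_norm_iff.mpr ((c.hK.conj_of_mem c.zC).eq_of_meet c.hK ?_ c.hyK c.hy2 c.hy1 c.hyt)
  rw [mem_cj, mul_assoc, c.hyz.eq, inv_mul_cancel_left]
  exact c.hyK

lemma hRTeq (c : Cfg J K R T T2 z t y) : T ⊓ C t = R :=
  c.hR.inf_le_eq c.hT.two c.hRT (c.hR.le.trans inf_le_right) (inf_le_inf_right _ c.hT.le)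

lemma hRT2eq (c : Cfg J K R T T2 z t y) : T2 ⊓ C z = R :=
  c.hR.inf_le_eq c.hT2.two c.hRT2 (c.hR.le.trans inf_le_left)
    ((inf_le_inf_right _ c.hT2.le).trans_eq (inf_comm _ _))

lemma zR (c : Cfg J K R T T2 z t y) : z ∈ R :=
  c.hR.central_mem ⟨self_mem_C z, c.zC⟩ (isTwo_of_order_two c.hJ.uinv.inv)
    fun _ hr => (mem_C.mp (c.hR.le hr).1).symm

lemma tR (c : Cfg J K R T T2 z t y) : t ∈ R :=
  c.hR.central_mem ⟨c.tC, self_mem_C t⟩ (isTwo_of_order_two c.hK.uinv.inv)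
    fun _ hr => (mem_C.mp (c.hR.le hr).2).symm

lemma RC (c : Cfg J K R T T2 z t y) : R ≤ C z := c.hR.le.trans inf_le_left

lemma RCt (c : Cfg J K R T T2 z t y) : R ≤ C t := c.hR.le.trans inf_le_right

lemma pr_eq_zt (c : Cfg J K R T T2 z t y) : pr z z ≠ pr z t := fun e =>
  c.hne (pr_inj c.hR.two c.RC c.zR c.tR e)

lemma pr_eq_tz (c : Cfg J K R T T2 z t y) : pr t t ≠ pr t z := fun e =>
  c.hne (pr_inj c.hR.two c.RCt c.tR c.zR e).symm

/-- An element of `K` is not congruent to `z`. -/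
lemma no_z_in_K (c : Cfg J K R T T2 z t y) {x : G} (hx : x ∈ K) (hxC : x ∈ C z) :
    pr z x ≠ pr z z := fun e => by
  obtain ⟨n, hn, hn'⟩ := lift_involution hxC (by
    rw [e, orderOf_pr c.hJ.z_mem (isTwo_of_order_two c.hJ.uinv.inv)]; exact c.hJ.uinv.inv)
  rw [c.hK.uinv.uniq _ (K.pow_mem hx n) hn, e] at hn'
  exact c.pr_eq_zt hn'.symm

lemma z_notMem_K (c : Cfg J K R T T2 z t y) : z ∉ K := fun e => c.hne
  (c.hK.uinv.uniq z e c.hJ.uinv.inv)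

lemma hJ' (c : Cfg J K R T T2 z t y) : Comp (cj y J) z := c.hJ.conj_of_mem c.yC

lemma hJne (c : Cfg J K R T T2 z t y) : J ≠ cj y J := fun e => c.hyJ (mem_norm_iff.mpr e.symm)

lemma cj_y_J' (c : Cfg J K R T T2 z t y) : cj y (cj y J) = J := by
  rw [← cj_mul]; exact mem_norm_iff.mp c.hyy

lemma t_y (c : Cfg J K R T T2 z t y) : t * y = y * t := (mem_C.mp c.yCt).eq.symm

lemma htJ' (c : Cfg J K R T T2 z t y) : t ∈ normalizer (cj y J : Set G) := by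
  refine mem_norm_iff.mpr ?_
  rw [← cj_mul, c.t_y, cj_mul, mem_norm_iff.mp c.htJ]

lemma conj_yR (c : Cfg J K R T T2 z t y) {a : G} (ha : a ∈ R) : y * a * y⁻¹ ∈ R :=
  R.mul_mem (R.mul_mem c.hyR ha) (R.inv_mem c.hyR)

lemma conj_yT (c : Cfg J K R T T2 z t y) {a : G} (ha : a ∈ T) : y * a * y⁻¹ ∈ T :=
  T.mul_mem (T.mul_mem (c.hRT c.hyR) ha) (T.inv_mem (c.hRT c.hyR))

lemma conj_back (c : Cfg J K R T T2 z t y) {a : G} (ha : a ∈ cj y J) : y * a * y⁻¹ ∈ J :=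
  c.cj_y_J' ▸ conj_mem_cj ha

lemma comm_T (c : Cfg J K R T T2 z t y) {a b : G} (ha : a ∈ T) (haJ : a ∈ J) (hb : b ∈ T)
    (hbJ : b ∈ cj y J) : Commute a b :=
  c.hJ.commute_exact c.hJ' c.hJne c.hT.two c.hT.le ha haJ hb hbJ

/-- `t` acts nontrivially on `J`. -/
theorem tJ_nontriv (c : Cfg J K R T T2 z t y) : ¬ Triv z J t := by
  intro htr
  obtain ⟨hle, hcomp⟩ := c.hJ.fix_component htr
  rcases cen_dich c.tC c.hK.uinv.inv hle hcomp (M := K ⊓ H z t) inf_le_right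
    (subnormal_inf c.hK.pc.1 inf_le_right) with h | h
  · obtain ⟨m, hm, he⟩ := (mem_im (inf_le_right.trans inf_le_left)).mp
      (h (pr_mem_im c.hJ.le c.hJ.uinv.mem))
    exact c.no_z_in_K hm.1 hm.2.1 he
  · exact c.hyJ (c.hJ.norm_of_triv c.yC fun j hj =>
      (h _ (pr_mem_im c.hJ.le hj) y ⟨c.hyK, c.yC, c.yCt⟩).symm)

/-- Some element `i` of `T ∩ J` is moved by `t` to `i z`. -/
theorem exists_i (c : Cfg J K R T T2 z t y) :
    ∃ i ∈ T ⊓ J, t * i * t⁻¹ = i * z ∧ i * t * i⁻¹ = z * t ∧ i⁻¹ * t * i = z * t := by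
  have hS := c.hJ.syl_inf c.hT
  have hn : t ∈ normalizer ((T ⊓ J : Subgroup G) : Set G) :=
    mem_norm_inf (le_normalizer (c.hRT c.tR)) c.htJ
  obtain ⟨i, hi, he⟩ := exists_n (c.hJ.syl_uinv c.hT) hS.two c.t2 hn fun hc =>
    c.tJ_nontriv (c.hJ.triv_of_fix_sylow c.htJ c.t2 hS hc)
  have h1 : t * i = i * (z * t) := by rw [← mul_assoc, ← he]; group
  have h2 : i⁻¹ * t * i = z * t := by rw [mul_assoc, h1, inv_mul_cancel_left]
  refine ⟨i, hi, he, ?_, h2⟩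
  have hiz : i * z = z * i := (mem_C.mp (c.hJ.le hi.2)).eq
  have h3 : i * (z * t) * i⁻¹ = t := by rw [← h1]; group
  calc i * t * i⁻¹ = (z * z) * (i * t * i⁻¹) := by rw [c.z2, one_mul]
    _ = z * (z * i * t * i⁻¹) := by group
    _ = z * (i * (z * t) * i⁻¹) := by rw [← hiz]; group
    _ = z * t := by rw [h3]

/-- An element `u ∈ R` with `y u y⁻¹ = z u` moves `K` and forces `y² = t`. -/
theorem shift (c : Cfg J K R T T2 z t y) {u : G} (hu : u ∈ R) (he : y * u * y⁻¹ = z * u) :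
    y * y = t ∧ pr t z ∈ Cfsg.layer (Q t) ∧ ¬ Triv t K z := by
  set v := u * y⁻¹ * u⁻¹ with hv
  have hzv : z = y * v := by
    rw [hv, ← mul_assoc, ← mul_assoc, he, mul_assoc, mul_inv_cancel, mul_one]
  have huC : u ∈ C t := c.RCt hu
  have hK'' := c.hK.conj_of_mem huC
  have hvK : v ∈ cj u K := conj_mem_cj (K.inv_mem c.hyK)
  have hne : K ≠ cj u K := fun e => c.z_notMem_K (hzv ▸ K.mul_mem c.hyK (e ▸ hvK))
  have hvR : v ∈ R := R.mul_mem (R.mul_mem hu (R.inv_mem c.hyR)) (R.inv_mem hu)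
  have hcom := c.hK.commute_exact hK'' hne c.hR.two c.RCt c.hyR c.hyK hvR hvK
  refine ⟨?_, ?_, ?_⟩
  · have h1 : (y * y) * (v * v) = 1 := by
      rw [← hcom.symm.mul_mul_mul_comm, ← hzv, c.z2]
    have h2 : y * y ∈ cj u K := by
      rw [eq_inv_of_mul_eq_one_left h1]; exact inv_mem (mul_mem hvK hvK)
    rcases c.hK.meet_cases hK'' hne (K.mul_mem c.hyK c.hyK) h2
      (isTwo_of_pgroup c.hR.two (R.mul_mem c.hyR c.hyR)) with e | e
    · exact absurd (c.hK.uinv.eq_of_sq c.hyK e c.hy1) c.hyt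
    · exact e
  · rw [hzv, pr_mul c.yCt (c.RCt hvR)]
    exact mul_mem (c.hK.mem_layer c.hyK) (hK''.mem_layer hvK)
  · intro htr
    refine c.hK.not_triv c.hyK c.hy2 c.hy1 c.hyt fun j hj => ?_
    have e : pr t y = pr t z * (pr t v)⁻¹ := by
      rw [hzv, pr_mul c.yCt (c.RCt hvR), mul_inv_cancel_right]
    rw [e]
    exact Commute.mul_left (htr j hj) (c.hK.comm_of_ne hK'' hne hj hvK).symm.inv_left

/-- If `z` acts nontrivially on `K`, some element `n` of `T2 ∩ K` is moved by `z` to `n t`. -/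
theorem exists_n' (c : Cfg J K R T T2 z t y) (hnt : ¬ Triv t K z) :
    ∃ n ∈ T2 ⊓ K, z * n * z⁻¹ = n * t ∧ n * z * n⁻¹ = z * t ∧ n⁻¹ * z * n = z * t := by
  have hS := c.hK.syl_inf c.hT2
  have hn : z ∈ normalizer ((T2 ⊓ K : Subgroup G) : Set G) :=
    mem_norm_inf (le_normalizer (c.hRT2 c.zR)) c.hzK
  obtain ⟨i, hi, he⟩ := exists_n (c.hK.syl_uinv c.hT2) hS.two c.z2 hn fun hc =>
    hnt (c.hK.triv_of_fix_sylow c.hzK c.z2 hS hc)
  have hit : i * t = t * i := (mem_C.mp (c.hK.le hi.2)).eq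
  have h1 : z * i = i * (t * z) := by rw [← mul_assoc, ← he]; group
  have h2 : i⁻¹ * z * i = t * z := by rw [mul_assoc, h1, inv_mul_cancel_left]
  refine ⟨i, hi, he, ?_, by rw [h2]; exact c.hzt.eq.symm⟩
  have h3 : i * (t * z) * i⁻¹ = z := by rw [← h1]; group
  calc i * z * i⁻¹ = (t * t) * (i * z * i⁻¹) := by rw [c.t2, one_mul]
    _ = t * (t * i * z * i⁻¹) := by group
    _ = t * (i * (t * z) * i⁻¹) := by rw [← hit]; group
    _ = t * z := by rw [h3]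
    _ = z * t := c.hzt.eq.symm

/-- `g = i n` maps `z ↦ t ↦ z t`. -/
lemma g_maps (c : Cfg J K R T T2 z t y) {i n : G} (hi : i ∈ J) (hit : i * t * i⁻¹ = z * t)
    (hn : n ∈ K) (hnz : n * z * n⁻¹ = z * t) :
    (i * n) * z * (i * n)⁻¹ = t ∧ (i * n) * t * (i * n)⁻¹ = z * t ∧
      (i * n) * (z * t) * (i * n)⁻¹ = z := by
  have hiz := conj_eq_of_mem_C (c.hJ.le hi)
  have h1 : (i * n) * z * (i * n)⁻¹ = t := by
    rw [show (i * n) * z * (i * n)⁻¹ = i * (n * z * n⁻¹) * i⁻¹ by group, hnz,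
      show i * (z * t) * i⁻¹ = (i * z * i⁻¹) * (i * t * i⁻¹) by group, hiz, hit, ← mul_assoc, c.z2,
      one_mul]
  have h2 : (i * n) * t * (i * n)⁻¹ = z * t := by
    rw [show (i * n) * t * (i * n)⁻¹ = i * (n * t * n⁻¹) * i⁻¹ by group,
      conj_eq_of_mem_C (c.hK.le hn), hit]
  refine ⟨h1, h2, ?_⟩
  rw [show (i * n) * (z * t) * (i * n)⁻¹ =
    (i * n) * z * (i * n)⁻¹ * ((i * n) * t * (i * n)⁻¹) by group, h1, h2, c.hzt.eq, ← mul_assoc,
    c.t2, one_mul]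

/-- Some element of order four in `R ∩ J` commutes with `y²`. -/
theorem exists_a (c : Cfg J K R T T2 z t y) :
    ∃ a ∈ R, a ∈ J ∧ orderOf a = 4 ∧ Commute (y * y) a := by
  have hyR2 : y * y ∈ R := R.mul_mem c.hyR c.hyR
  by_cases hA : ∃ a ∈ R ⊓ J, a ≠ 1 ∧ a ≠ z
  · have hlt : zpowers z < R ⊓ J := by
      refine lt_of_le_of_ne (zpowers_le.mpr ⟨c.zR, c.hJ.uinv.mem⟩) fun e => ?_
      obtain ⟨a, ha, h1, h2⟩ := hA
      rw [← e] at ha
      obtain ⟨j, rfl⟩ := mem_zpowers_iff.mp ha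
      rcases Int.even_or_odd' j with ⟨k, rfl | rfl⟩
      · exact h1 (by rw [zpow_mul, zpow_two, c.z2, one_zpow])
      · exact h2 (by rw [zpow_add_one, zpow_mul, zpow_two, c.z2, one_zpow, one_mul])
    set T0 := R ⊓ normalizer (J : Set G)
    have hzc : T0 ≤ normalizer (zpowers z : Set G) := fun r hr =>
      centralizer_le_normalizer _ (mem_centralizer_iff.mpr fun w hw => by
        obtain ⟨j, rfl⟩ := mem_zpowers_iff.mp hw
        exact ((mem_C.mp (c.RC hr.1)).symm.zpow_left j).eq)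
    obtain ⟨s, hs, hsz, hfix⟩ := Components.SylowCentralizer.exists_fixed_step (p := 2)
      (c.hR.two.to_le inf_le_left : IsPGroup 2 T0) hlt (inf_le_inf_left R le_normalizer)
      (fun r hr => mem_norm_inf (le_normalizer hr.1) hr.2) hzc
    have hs1 : s ≠ 1 := fun e => hsz (e ▸ one_mem _)
    have hsz' : s ≠ z := fun e => hsz (e ▸ mem_zpowers z)
    obtain ⟨k, hk⟩ := isTwo_of_pgroup c.hR.two hs.1
    obtain ⟨m, hm⟩ := c.hJ.uinv.exists_four hs.2 hk hs1 hsz'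
    set a := s ^ m with ha
    have haR : a ∈ R := R.pow_mem hs.1 m
    have haJ : a ∈ J := J.pow_mem hs.2 m
    obtain ⟨j, hj⟩ := mem_zpowers_iff.mp (hfix (y * y) ⟨hyR2, c.hyy⟩)
    have hcase : (y * y) * a * (y * y)⁻¹ = a ∨ (y * y) * a * (y * y)⁻¹ = z * a := by
      have h1 : (y * y) * s * (y * y)⁻¹ = z ^ j * s := by rw [hj, commutatorElement_def]; group
      have h2 : (y * y) * a * (y * y)⁻¹ = (z ^ j) ^ m * a := by
        rw [ha, ← conj_pow, h1, (((mem_C.mp (c.hJ.le hs.2)).symm).zpow_left j).mul_pow]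
      rw [h2, ← zpow_natCast (z ^ j) m, ← zpow_mul]
      rcases Int.even_or_odd' (j * m) with ⟨q, hq | hq⟩ <;> rw [hq]
      · left; rw [zpow_mul, zpow_two, c.z2, one_zpow, one_mul]
      · right; rw [zpow_add_one, zpow_mul, zpow_two, c.z2, one_zpow, one_mul]
    rcases hcase with h | h
    · exact ⟨a, haR, haJ, hm, mul_inv_eq_iff_eq_mul.mp h⟩
    exfalso
    have haz : z * a = a * z := (mem_C.mp (c.hJ.le haJ)).eq.symm
    have hcom : Commute a (y * a * y⁻¹) :=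
      c.comm_T (c.hRT haR) haJ (c.conj_yT (c.hRT haR)) (conj_mem_cj haJ)
    have hu : y * (a * (y * a * y⁻¹)) * y⁻¹ = z * (a * (y * a * y⁻¹)) := by
      rw [show y * (a * (y * a * y⁻¹)) * y⁻¹ = y * a * y⁻¹ * ((y * y) * a * (y * y)⁻¹) by group, h,
        haz, ← mul_assoc, ← hcom.eq]
      exact (mem_C.mp ((C z).mul_mem (c.hJ.le haJ) (c.RC (c.conj_yR haR)))).eq
    have hy4 := (c.shift (R.mul_mem haR (c.conj_yR haR)) hu).1
    rw [hy4, (mem_C.mp (c.RCt haR)).eq.symm, mul_inv_cancel_right] at h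
    exact c.hJ.uinv.ne_one (mul_eq_right.mp h.symm)
  exfalso
  push Not at hA
  obtain ⟨i, hi, hit, hit', -⟩ := c.exists_i
  have hzy : y * z * y⁻¹ = z := conj_eq_of_mem_C c.yC
  have hcom : Commute i (y * i * y⁻¹) := c.comm_T hi.1 hi.2 (c.conj_yT hi.1) (conj_mem_cj hi.2)
  have hiz : i * z = z * i := (mem_C.mp (c.hJ.le hi.2)).eq
  have hti' : t * (y * i * y⁻¹) * t⁻¹ = y * i * y⁻¹ * z := by
    rw [show t * (y * i * y⁻¹) * t⁻¹ = (t * y) * i * (t * y)⁻¹ by group, c.t_y,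
      show y * t * i * (y * t)⁻¹ = y * (t * i * t⁻¹) * y⁻¹ by group, hit,
      show y * (i * z) * y⁻¹ = y * i * y⁻¹ * (y * z * y⁻¹) by group, hzy]
  set i' := y * i * y⁻¹ with hi'
  have hi'z : z * i' = i' * z := (mem_C.mp (c.hJ'.le (conj_mem_cj hi.2))).eq.symm
  have huR : i * i' ∈ R := by
    rw [← c.hRTeq]
    refine ⟨T.mul_mem hi.1 (c.conj_yT hi.1), mem_C.mpr (Commute.symm ?_)⟩
    show t * (i * i') = i * i' * t
    rw [← mul_inv_eq_iff_eq_mul, show t * (i * i') * t⁻¹ = (t * i * t⁻¹) * (t * i' * t⁻¹) by group,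
      hit, hti', show i * z * (i' * z) = i * (z * i') * z by group, hi'z]
    simp only [mul_assoc]
    rw [c.z2, mul_one]
  set i'' := y * i' * y⁻¹ with hi''
  have hi''J : i'' ∈ J := c.conj_back (conj_mem_cj hi.2)
  have hc' : Commute i'' i' :=
    c.comm_T (c.conj_yT (c.conj_yT hi.1)) hi''J (c.conj_yT hi.1) (conj_mem_cj hi.2)
  have hd : y * (i * i') * y⁻¹ * (i * i')⁻¹ = i'' * i⁻¹ := by
    rw [show y * (i * i') * y⁻¹ = (y * i * y⁻¹) * (y * i' * y⁻¹) by group, ← hi', ← hi'', ← hc'.eq,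
      mul_inv_rev]
    group
  have hmem : i'' * i⁻¹ ∈ R ⊓ J :=
    ⟨hd ▸ R.mul_mem (c.conj_yR huR) (R.inv_mem huR), J.mul_mem hi''J (J.inv_mem hi.2)⟩
  by_cases h1 : i'' * i⁻¹ = 1
  · have hfix : Commute (y * y) i := by
      refine mul_inv_eq_iff_eq_mul.mp ?_
      have e := mul_inv_eq_one.mp h1
      rw [hi'', hi'] at e
      conv_rhs => rw [← e]
      group
    obtain ⟨k, hk⟩ := isTwo_of_pgroup c.hR.two hyR2
    have hyy1 : y * y ≠ 1 := fun e => c.hyt (c.hK.uinv.eq_of_sq c.hyK e c.hy1)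
    obtain ⟨j, hj⟩ := mem_zpowers_iff.mp (c.hK.uinv.mem_zpowers (K.mul_mem c.hyK c.hyK) hk hyy1)
    have : Commute t i := hj ▸ hfix.zpow_left j
    rw [this.eq, mul_inv_cancel_right] at hit
    exact c.hJ.uinv.ne_one (mul_eq_left.mp hit.symm)
  have hsz := hA _ hmem h1
  obtain ⟨hy4, -, -⟩ := c.shift huR (by rw [← hsz, ← hd]; group)
  obtain ⟨-, hzl, hnt⟩ := c.shift huR (by rw [← hsz, ← hd]; group)
  obtain ⟨n, hn, -, hnz, -⟩ := c.exists_n' hnt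
  obtain ⟨hgz, hgt, hgzt⟩ := c.g_maps hi.2 hit' hn.2 hnz
  -- `t` lies in the layer at `z`
  set g := i * n
  have hg1 : g⁻¹ * t * g⁻¹⁻¹ = z := by rw [← hgz]; group
  have hg2 : g⁻¹ * z * g⁻¹⁻¹ = z * t := by
    calc g⁻¹ * z * g⁻¹⁻¹ = g⁻¹ * (g * (z * t) * g⁻¹) * g⁻¹⁻¹ := by rw [hgzt]
      _ = z * t := by group
  have hl := layer_conj g⁻¹ c.zC hzl
  rw [hg1, hg2] at hl
  have hzl' := c.hJ.mem_layer c.hJ.uinv.mem
  have htl : pr z t ∈ Cfsg.layer (Q z) := by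
    have := mul_mem hzl' hl
    rwa [← pr_mul c.hJ.z_mem ((C z).mul_mem c.hJ.z_mem c.tC), ← mul_assoc, c.z2, one_mul] at this
  obtain ⟨-, k, hk, hkey⟩ := c.hJ.layer_inner c.tC htl
  have hk4 := c.hJ.inner_four c.tC c.t2 hk hkey c.tJ_nontriv
  have hkc : Commute (pr z k) (pr z t) := by
    have e : pr z t * pr z k * (pr z t)⁻¹ = pr z k := by rw [hkey k hk]; group
    exact (mul_inv_eq_iff_eq_mul.mp e).symm
  obtain ⟨o, ho, hoC, ho1, hcom'⟩ := commute_lift (c.hJ.le hk) c.tC c.hK.uinv.inv hkc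
  have hoJ : o ∈ J := by
    refine zpowers_le.mpr ?_ ho
    rw [show k * t * k⁻¹ * t = k * (t * k⁻¹ * t) by group]
    refine J.mul_mem hk ?_
    have := (mem_normalizer_iff.mp c.htJ k⁻¹).mp (J.inv_mem hk)
    rwa [c.hK.uinv.inv_eq] at this
  set k' := o * k
  have hk' : k' ∈ J ⊓ C t := ⟨J.mul_mem hoJ hk, mem_C.mpr hcom'⟩
  have hpk : pr z k' = pr z k := by rw [pr_mul hoC (c.hJ.le hk), ho1, one_mul]
  have hk'C : k' ∈ C z := c.hJ.le hk'.1
  obtain ⟨q, hq⟩ := odd_of_pr_eq_one ((C z).pow_mem hk'C 4) (by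
    rw [pr_pow hk'C, hpk, ← hk4]; exact pow_orderOf_eq_one _)
  set x := k' ^ (2 * q + 1) with hx
  have hxC : x ∈ C z := (C z).pow_mem hk'C _
  have hx2 : IsTwo x := ⟨2, by
    rw [hx, ← pow_mul, mul_comm, pow_mul, show (2 : ℕ) ^ 2 = 4 from rfl, ← hq]
    exact pow_orderOf_eq_one _⟩
  have hx4 : orderOf (pr z x) = 4 := by
    rw [hx, pr_pow hk'C, hpk, orderOf_pow, hk4]
    have : Nat.gcd 4 (2 * q + 1) = 1 :=
      Nat.Coprime.pow_left 2 (Nat.coprime_two_left.mpr ⟨q, rfl⟩)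
    rw [this, Nat.div_one]
  rw [orderOf_pr hxC hx2] at hx4
  have hxM : x ∈ J ⊓ H z t :=
    ⟨J.pow_mem hk'.1 _, hxC, (C t).pow_mem hk'.2 _⟩
  obtain ⟨w, hw, hwx⟩ := (c.hR.inf inf_le_right (subnormal_inf c.hJ.pc.1 inf_le_left)).exists_conj
    hx2.isPGroup (zpowers_le.mpr hxM)
  have h4 : orderOf (w * x * w⁻¹) = 4 := by rw [Involutions.Basic.orderOf_conj]; exact hx4
  have hmem' := hwx x (mem_zpowers x)
  have := hA _ ⟨hmem'.1, hmem'.2.1⟩ (ne_of_order_four h4 (by rw [orderOf_one]; omega))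
  exact ne_of_order_four h4 c.hJ.uinv.inv.le this

/-- `z` acts nontrivially on `K`. -/
theorem zK_nontriv (c : Cfg J K R T T2 z t y) : ¬ Triv t K z := by
  intro htr
  obtain ⟨a, haR, haJ, ha4, -⟩ := c.exists_a
  obtain ⟨hle, hcomp⟩ := c.hK.fix_component htr
  have hH : H t z = H z t := inf_comm _ _
  rcases cen_dich c.zC c.hJ.uinv.inv hle hcomp (M := J ⊓ H t z) inf_le_right
    (subnormal_inf c.hJ.pc.1 inf_le_right) with h | h
  · obtain ⟨m, hm, he⟩ := (mem_im (inf_le_right.trans inf_le_left)).mp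
      (h (pr_mem_im c.hK.le c.hK.uinv.mem))
    obtain ⟨n, hn, hn'⟩ := lift_involution hm.2.1 (by
      rw [he, orderOf_pr c.hK.z_mem (isTwo_of_order_two c.hK.uinv.inv)]; exact c.hK.uinv.inv)
    rw [c.hJ.uinv.uniq _ (J.pow_mem hm.1 n) hn, he] at hn'
    exact c.pr_eq_tz hn'.symm
  · have hc := h _ (pr_mem_im c.hK.le c.hyK) a ⟨haJ, hH ▸ c.hR.le haR⟩
    have hcom := commute_of_pr c.hR.two c.RCt c.hyR haR hc
    have e : y * a * y⁻¹ = a := by rw [hcom.eq, mul_inv_cancel_right]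
    rcases c.hJ.meet_cases c.hJ' c.hJne haJ (e ▸ conj_mem_cj haJ) (isTwo_of_order_four ha4) with
      h1 | h1
    · exact (c.hJ.uinv.four_ne ha4).1 h1
    · exact (c.hJ.uinv.four_ne ha4).2 h1

/-- `t` in the layer at `z` forces `z` into the layer at `t`. -/
theorem layer_up (c : Cfg J K R T T2 z t y) (hl : pr z t ∈ Cfsg.layer (Q z)) :
    pr t z ∈ Cfsg.layer (Q t) := by
  obtain ⟨i, hi, -, hit, -⟩ := c.exists_i
  obtain ⟨n, hn, -, hnz, -⟩ := c.exists_n' c.zK_nontriv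
  obtain ⟨hgz, hgt, -⟩ := c.g_maps hi.2 hit hn.2 hnz
  exact layer_shift c.hzt hgz hgt hl c.t2 (c.hK.mem_layer c.hK.uinv.mem)

/-- The difference `a⁻¹ a'`. -/
theorem w_facts (c : Cfg J K R T T2 z t y) {a : G} (haR : a ∈ R) (haJ : a ∈ J)
    (ha4 : orderOf a = 4) :
    Commute a (y * a * y⁻¹) ∧ orderOf (a⁻¹ * (y * a * y⁻¹)) = 2 ∧
      pr z (a⁻¹ * (y * a * y⁻¹)) ∈ Cfsg.layer (Q z) ∧ y * a * y⁻¹ * (y * a * y⁻¹) = z := by
  have hcom : Commute a (y * a * y⁻¹) :=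
    c.comm_T (c.hRT haR) haJ (c.conj_yT (c.hRT haR)) (conj_mem_cj haJ)
  have hsq : y * a * y⁻¹ * (y * a * y⁻¹) = z :=
    c.hJ'.uinv.sq_of_four (conj_mem_cj haJ) (by rw [Involutions.Basic.orderOf_conj]; exact ha4)
  have hai4 : orderOf a⁻¹ = 4 := by rw [orderOf_inv]; exact ha4
  refine ⟨hcom, Involutions.Basic.orderOf_two_iff.mpr
    ⟨c.hJ.mul_involution (J.inv_mem haJ) hai4 hcom.inv_left hsq,
      c.hJ.mul_ne_one c.hJ' c.hJne (J.inv_mem haJ) (conj_mem_cj haJ) hai4⟩, ?_, hsq⟩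
  rw [pr_mul ((C z).inv_mem (c.hJ.le haJ)) (c.hJ'.le (conj_mem_cj haJ))]
  exact mul_mem (c.hJ.mem_layer (J.inv_mem haJ)) (c.hJ'.mem_layer (conj_mem_cj haJ))

/-- `R ∩ K` is abelian. -/
theorem commute_P (c : Cfg J K R T T2 z t y) :
    ∀ p ∈ R ⊓ K, ∀ q ∈ R ⊓ K, Commute p q := by
  by_cases hl : pr z t ∈ Cfsg.layer (Q z)
  · obtain ⟨-, k, hk, hkey⟩ := c.hK.layer_inner c.zC (c.layer_up hl)
    refine (c.hK.abelian_of_four (pr_mem_im c.hK.le hk)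
      (c.hK.inner_four c.zC c.z2 hk hkey c.zK_nontriv) (c.hR.two.to_le inf_le_left) inf_le_right
      fun p hp => ?_).1
    have h1 := hkey p hp.2
    rw [← pr_conj c.zC (c.hK.le hp.2), (mem_C.mp (c.RC hp.1)).eq.symm, mul_inv_cancel_right] at h1
    exact eq_mul_inv_iff_mul_eq.mp h1
  intro p hp q hq
  by_contra hne
  obtain ⟨a, haR, haJ, ha4, -⟩ := c.exists_a
  obtain ⟨-, hw2, hwl, -⟩ := c.w_facts haR haJ ha4
  by_cases haK : cj a⁻¹ K = K
  · refine hl ?_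
    rw [← c.hK.uinv.uniq (a⁻¹ * (y * a * y⁻¹)) ?_ hw2]
    · exact hwl
    · rw [show a⁻¹ * (y * a * y⁻¹) = (a⁻¹ * y * a) * y⁻¹ by group]
      refine K.mul_mem ?_ (K.inv_mem c.hyK)
      have : a⁻¹ * y * a⁻¹⁻¹ ∈ cj a⁻¹ K := conj_mem_cj c.hyK
      rwa [inv_inv, haK] at this
  have hK' := c.hK.conj_of_mem ((C t).inv_mem (c.RCt haR))
  set ξ : G → G := fun p => (a⁻¹ * p * a) * p⁻¹
  have hξl : ∀ p ∈ R, pr z (ξ p) ∈ Cfsg.layer (Q z) := fun p hp => by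
    show pr z ((a⁻¹ * p * a) * p⁻¹) ∈ _
    rw [show (a⁻¹ * p * a) * p⁻¹ = a⁻¹ * (p * a * p⁻¹) by group,
      pr_mul ((C z).inv_mem (c.hJ.le haJ)) ((c.hJ.conj_of_mem (c.RC hp)).le (conj_mem_cj haJ))]
    exact mul_mem (c.hJ.mem_layer (J.inv_mem haJ))
      ((c.hJ.conj_of_mem (c.RC hp)).mem_layer (conj_mem_cj haJ))
  have hA : ∀ p ∈ R ⊓ K, a⁻¹ * p * a ∈ R ⊓ cj a⁻¹ K := fun p hp =>
    ⟨R.mul_mem (R.mul_mem (R.inv_mem haR) hp.1) haR, by
      have : a⁻¹ * p * a⁻¹⁻¹ ∈ cj a⁻¹ K := conj_mem_cj hp.2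
      rwa [inv_inv] at this⟩
  have hcm : ∀ p ∈ R ⊓ K, ∀ q ∈ R ⊓ K, Commute (a⁻¹ * p * a) q := fun p hp q hq =>
    hK'.commute_exact c.hK haK c.hR.two c.RCt (hA p hp).1 (hA p hp).2 hq.1 hq.2
  set e := p⁻¹ * q⁻¹ * p * q with he
  have hpq := (R ⊓ K).mul_mem hp hq
  have heRK : e ∈ R ⊓ K :=
    mul_mem (mul_mem (mul_mem (inv_mem hp) (inv_mem hq)) hp) hq
  have hξC : ∀ p ∈ R, ξ p ∈ C z := fun p hp => c.RC
    (R.mul_mem (R.mul_mem (R.mul_mem (R.inv_mem haR) hp) haR) (R.inv_mem hp))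
  have hc1 : ξ p * ξ q * (ξ (p * q))⁻¹ = e := by
    set A := a⁻¹ * p * a with hAdef
    set B := a⁻¹ * q * a with hBdef
    have hABdef : a⁻¹ * (p * q) * a = A * B := by rw [hAdef, hBdef]; group
    have hBp : p⁻¹ * B = B * p⁻¹ := (hcm q hq p⁻¹ (inv_mem hp)).symm.eq
    have hABe : Commute (A * B) e := (hcm p hp e heRK).mul_left (hcm q hq e heRK)
    show A * p⁻¹ * (B * q⁻¹) * (a⁻¹ * (p * q) * a * (p * q)⁻¹)⁻¹ = e
    rw [hABdef, show A * p⁻¹ * (B * q⁻¹) * (A * B * (p * q)⁻¹)⁻¹ =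
      A * (p⁻¹ * B) * q⁻¹ * (p * q) * (A * B)⁻¹ by group, hBp,
      show A * (B * p⁻¹) * q⁻¹ * (p * q) * (A * B)⁻¹ = (A * B) * e * (A * B)⁻¹ by rw [he]; group,
      hABe.eq, mul_inv_cancel_right]
  have hel : pr z e ∈ Cfsg.layer (Q z) := by
    rw [← hc1, pr_mul ((C z).mul_mem (hξC p hp.1) (hξC q hq.1)) ((C z).inv_mem (hξC _ hpq.1)),
      pr_mul (hξC p hp.1) (hξC q hq.1), pr_inv (hξC _ hpq.1)]
    exact mul_mem (mul_mem (hξl p hp.1) (hξl q hq.1)) (inv_mem (hξl _ hpq.1))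
  have he1 : e ≠ 1 := fun h => hne (by
    show p * q = q * p
    calc p * q = (q * p) * e := by rw [he]; group
      _ = q * p := by rw [h, mul_one])
  obtain ⟨k, hk⟩ := isTwo_of_pgroup c.hR.two heRK.1
  exact hl (pr_mem_layer_pow (c.RC heRK.1) hel (c.hK.uinv.mem_zpowers heRK.2 hk he1))

end Cfg

end Cfsg.Agent.IntrinsicPair
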