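import Mathlib
import Cfsg.Agent.Lib.PGroups.UniqueSubgroup
import Cfsg.Agent.Lib.Involutions.Basic
import Cfsg.Agent.Lib.ZStar.Consequences

/-!
2-subgroups with a unique involution: cyclic or quaternion, elements of order four, central quotient.
-/

set_option autoImplicit false
set_option linter.style.haveILetI false
set_option linter.unusedSectionVars false

namespace Cfsg.Agent.IntrinsicPair

open Subgroup

universe u

variable {G : Type u} [Group G]

/-- `z` is the only involution of the subgroup `H`. -/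
structure UInv (H : Subgroup G) (z : G) : Prop where
  mem : z ∈ H
  inv : orderOf z = 2
  uniq : ∀ t ∈ H, orderOf t = 2 → t = z

lemma UInv.mul_self {H : Subgroup G} {z : G} (h : UInv H z) : z * z = 1 :=
  Involutions.Basic.inv_sq_one h.inv

lemma UInv.ne_one {H : Subgroup G} {z : G} (h : UInv H z) : z ≠ 1 :=
  Involutions.Basic.ne_one h.inv

lemma UInv.inv_eq {H : Subgroup G} {z : G} (h : UInv H z) : z⁻¹ = z :=
  Involutions.Basic.inv_eq h.inv

lemma UInv.eq_of_sq {H : Subgroup G} {z t : G} (h : UInv H z) (ht : t ∈ H) (h2 : t * t = 1)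
    (h1 : t ≠ 1) : t = z :=
  h.uniq t ht (Involutions.Basic.orderOf_two_iff.mpr ⟨h2, h1⟩)

lemma UInv.sq_of_four {H : Subgroup G} {z a : G} (h : UInv H z) (ha : a ∈ H) (h4 : orderOf a = 4) :
    a * a = z :=
  h.eq_of_sq (H.mul_mem ha ha)
    (by rw [← sq, ← sq, ← pow_mul, show (2 * 2 : ℕ) = orderOf a by rw [h4]]; exact pow_orderOf_eq_one a)
    (fun e => by
      have := orderOf_dvd_of_pow_eq_one (x := a) (n := 2) (by rwa [sq])
      rw [h4] at this; norm_num at this)

lemma UInv.comm {H : Subgroup G} {z g : G} (h : UInv H z) (hg : g ∈ normalizer (H : Set G)) :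
    Commute g z := by
  have : g * z * g⁻¹ = z :=
    h.uniq _ ((mem_normalizer_iff.mp hg z).mp h.mem) (by rw [Involutions.Basic.orderOf_conj]; exact h.inv)
  exact mul_inv_eq_iff_eq_mul.mp this

lemma orderOf_four {a z : G} (hz : orderOf z = 2) (h : a * a = z) : orderOf a = 4 := by
  haveI : Fact (Nat.Prime 2) := ⟨Nat.prime_two⟩
  have hz' := Involutions.Basic.orderOf_two_iff.mp hz
  exact orderOf_eq_prime_pow (p := 2) (n := 1)
    (by rw [pow_one, sq, h]; exact hz'.2)
    (by rw [show (2 : ℕ) ^ (1 + 1) = 2 * 2 from rfl, pow_mul, sq, sq, h]; exact hz'.1)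

lemma UInv.mono {H K : Subgroup G} {z : G} (h : UInv H z) (hK : K ≤ H) (hz : z ∈ K) : UInv K z :=
  ⟨hz, h.inv, fun t ht => h.uniq t (hK ht)⟩

/-- A nontrivial 2-element of a subgroup with a unique involution has that involution as a power. -/
lemma UInv.mem_zpowers {H : Subgroup G} {z x : G} (h : UInv H z) (hx : x ∈ H) {k : ℕ}
    (hk : x ^ 2 ^ k = 1) (h1 : x ≠ 1) : z ∈ zpowers x := by
  induction k generalizing x with
  | zero => exact absurd (by simpa using hk) h1
  | succ k ih =>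
    by_cases h2 : x * x = 1
    · rw [← h.eq_of_sq hx h2 h1]; exact Subgroup.mem_zpowers x
    · refine zpowers_le.mpr (pow_mem (Subgroup.mem_zpowers x) 2) (ih (H.pow_mem hx 2) ?_ (by rwa [sq]))
      rw [← pow_mul, ← pow_succ', hk]

/-- A 2-element other than `1` and `z` has a power of order four. -/
lemma UInv.exists_four {H : Subgroup G} {z x : G} (h : UInv H z) (hx : x ∈ H) {k : ℕ}
    (hk : x ^ 2 ^ k = 1) (h1 : x ≠ 1) (hz : x ≠ z) :
    ∃ m : ℕ, orderOf (x ^ m) = 4 := by
  induction k generalizing x with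
  | zero => exact absurd (by simpa using hk) h1
  | succ k ih =>
    by_cases h2 : x * x = 1
    · exact absurd (h.eq_of_sq hx h2 h1) hz
    by_cases h3 : x * x = z
    · exact ⟨1, by rw [pow_one]; exact orderOf_four h.inv h3⟩
    obtain ⟨m, hm⟩ := ih (H.pow_mem hx 2) (by rw [← pow_mul, ← pow_succ', hk]) (by rwa [sq])
      (by rwa [sq])
    exact ⟨2 * m, by rw [pow_mul]; exact hm⟩

/-- The quotient map from a generalized quaternion group onto the dihedral group. -/
def toDih (n : ℕ) : QuaternionGroup n →* DihedralGroup n :=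
  MonoidHom.mk' (fun g => match g with
    | .a i => .r (ZMod.castHom (Dvd.intro_left 2 rfl) (ZMod n) i)
    | .xa i => .sr (ZMod.castHom (Dvd.intro_left 2 rfl) (ZMod n) i)) fun x y => by
    rcases x with i | i <;> rcases y with j | j <;>
      simp [QuaternionGroup.a_mul_a, QuaternionGroup.a_mul_xa, QuaternionGroup.xa_mul_a,
        QuaternionGroup.xa_mul_xa, DihedralGroup.r_mul_r, DihedralGroup.r_mul_sr,
        DihedralGroup.sr_mul_r, DihedralGroup.sr_mul_sr]

variable [Finite G]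

lemma isCyclic_or_quaternion {S : Subgroup G} {z : G} (h : UInv S z) (hS : IsPGroup 2 S) :
    IsCyclic S ∨ ∃ k : ℕ, 1 ≤ k ∧ Nonempty (S ≃* QuaternionGroup (2 ^ k)) := by
  haveI : Fact (Nat.Prime 2) := ⟨Nat.prime_two⟩
  have key : ∀ A : Subgroup S, Nat.card A = 2 → A = zpowers ⟨z, h.mem⟩ := fun A hA => by
    have ho : orderOf (⟨z, h.mem⟩ : S) = 2 := by rw [orderOf_mk]; exact h.inv
    obtain ⟨a, ha, ha2⟩ : ∃ a ∈ A, orderOf a = 2 := by
      obtain ⟨⟨a, ha⟩, ha2⟩ := exists_prime_orderOf_dvd_card' (G := A) 2 (by rw [hA])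
      exact ⟨a, ha, by rwa [orderOf_mk] at ha2⟩
    have : a = ⟨z, h.mem⟩ :=
      Subtype.ext (h.uniq _ a.2 (by rw [Subgroup.orderOf_coe]; exact ha2))
    exact (eq_of_le_of_card_ge (zpowers_le.mpr (this ▸ ha))
      (by rw [hA, Nat.card_zpowers, ho])).symm
  rcases PGroups.UniqueSubgroup.isCyclic_or_quaternion hS
      (fun A B hA hB => (key A hA).trans (key B hB).symm) with hc | ⟨-, k, ⟨e⟩⟩
  · exact Or.inl hc
  rcases Nat.eq_zero_or_pos k with rfl | hk
  · rw [pow_zero] at e
    haveI := QuaternionGroup.quaternionGroup_one_isCyclic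
    exact Or.inl (isCyclic_of_surjective e.symm.toMonoidHom e.symm.surjective)
  · exact Or.inr ⟨k, hk, ⟨e⟩⟩

lemma isCyclic_of_commute {S : Subgroup G} {z : G} (h : UInv S z) (hS : IsPGroup 2 S)
    (hc : ∀ x ∈ S, ∀ y ∈ S, x * y = y * x) : IsCyclic S := by
  refine (isCyclic_or_quaternion h hS).resolve_right ?_
  rintro ⟨k, hk, ⟨e⟩⟩
  have h2 : 2 ≤ 2 ^ k := by
    calc 2 = 2 ^ 1 := rfl
      _ ≤ 2 ^ k := Nat.pow_le_pow_right two_pos hk
  haveI : NeZero (2 ^ k) := ⟨by omega⟩
  have := ZStar.Consequences.quaternion_center h2 (x := QuaternionGroup.xa 0) fun y => by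
    apply e.symm.injective
    rw [map_mul, map_mul]
    exact Subtype.ext (hc _ (e.symm y).2 _ (e.symm _).2)
  have ho := QuaternionGroup.orderOf_xa (n := 2 ^ k) 0
  have := orderOf_dvd_of_pow_eq_one (x := (QuaternionGroup.xa 0 : QuaternionGroup (2 ^ k))) (n := 2)
    (by rw [sq]; assumption)
  rw [ho] at this
  norm_num at this

lemma exists_noncommute {S : Subgroup G} {z : G} (h : UInv S z) (hS : IsPGroup 2 S)
    (hnc : ¬ IsCyclic S) : ∃ x ∈ S, ∃ y ∈ S, x * y ≠ y * x := by
  by_contra hn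
  push Not at hn
  exact hnc (isCyclic_of_commute h hS hn)

/-- A 2-group with a unique involution and a central element of order four is cyclic. -/
lemma isCyclic_of_central_four {S : Subgroup G} {z a : G} (h : UInv S z) (hS : IsPGroup 2 S)
    (ha : a ∈ S) (h4 : orderOf a = 4) (hc : ∀ x ∈ S, x * a = a * x) : IsCyclic S := by
  refine (isCyclic_or_quaternion h hS).resolve_right ?_
  rintro ⟨k, hk, ⟨e⟩⟩
  have h2 : 2 ≤ 2 ^ k := by
    calc 2 = 2 ^ 1 := rfl
      _ ≤ 2 ^ k := Nat.pow_le_pow_right two_pos hk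
  have := ZStar.Consequences.quaternion_center h2 (x := e ⟨a, ha⟩) fun y => by
    obtain ⟨x, rfl⟩ := e.surjective y
    rw [← map_mul, ← map_mul]
    exact congrArg e (Subtype.ext (hc x x.2))
  rw [← map_mul, ← map_one e] at this
  have h1 : a * a = 1 := congrArg Subtype.val (e.injective this)
  exact h.ne_one ((h.sq_of_four ha h4).symm.trans h1)

/-- In a cyclic group two elements of order four are equal or inverse. -/
lemma eq_or_eq_inv_of_cyclic {S : Subgroup G} [IsCyclic S] {z a b : G} (h : UInv S z)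
    (ha : a ∈ S) (hb : b ∈ S) (ha4 : orderOf a = 4) (hb4 : orderOf b = 4) : b = a ∨ b = a⁻¹ := by
  letI := IsCyclic.commGroup (α := S)
  have hc : Commute a b := congrArg Subtype.val (mul_comm (⟨a, ha⟩ : S) ⟨b, hb⟩)
  have hsq : (a⁻¹ * b) * (a⁻¹ * b) = 1 := by
    rw [(hc.inv_left).symm.mul_mul_mul_comm, ← mul_inv_rev, h.sq_of_four ha ha4,
      h.sq_of_four hb hb4, inv_mul_cancel]
  by_cases h1 : a⁻¹ * b = 1
  · exact Or.inl (inv_mul_eq_one.mp h1).symm
  · right
    have h2 := h.eq_of_sq (S.mul_mem (S.inv_mem ha) hb) hsq h1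
    have hz : a⁻¹ * a⁻¹ = z := by rw [← mul_inv_rev, h.sq_of_four ha ha4, h.inv_eq]
    rw [← hz] at h2
    exact mul_left_cancel h2

/-- In a noncyclic 2-group with a unique involution an element of order four is inverted by another. -/
lemma exists_inverting {S : Subgroup G} {z a : G} (h : UInv S z) (hS : IsPGroup 2 S)
    (hnc : ¬ IsCyclic S) (ha : a ∈ S) (h4 : orderOf a = 4) :
    ∃ b ∈ S, orderOf b = 4 ∧ b * a * b⁻¹ = a⁻¹ := by
  obtain ⟨k, hk, ⟨e⟩⟩ := (isCyclic_or_quaternion h hS).resolve_left hnc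
  haveI : NeZero (2 ^ k) := ⟨by positivity⟩
  set x := e ⟨a, ha⟩ with hx
  have hx4 : orderOf x = 4 := by rw [hx, MulEquiv.orderOf_eq, orderOf_mk]; exact h4
  suffices ∃ y : QuaternionGroup (2 ^ k), orderOf y = 4 ∧ y * x = x⁻¹ * y by
    obtain ⟨y, hy4, hy⟩ := this
    refine ⟨(e.symm y : S), (e.symm y).2, ?_, ?_⟩
    · rw [Subgroup.orderOf_coe, MulEquiv.orderOf_eq]; exact hy4
    · rw [mul_inv_eq_iff_eq_mul]
      have hy' := congrArg e.symm hy
      rw [map_mul, map_mul, map_inv, hx, MulEquiv.symm_apply_apply] at hy'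
      exact congrArg Subtype.val hy'
  rcases hxi : x with i | i
  · refine ⟨QuaternionGroup.xa 0, QuaternionGroup.orderOf_xa 0, ?_⟩
    rw [show (QuaternionGroup.a i)⁻¹ = QuaternionGroup.a (-i) from rfl, QuaternionGroup.xa_mul_a,
      QuaternionGroup.a_mul_xa]
    congr 1
    ring
  · obtain ⟨m, hm⟩ : ∃ m : ℕ, 2 ^ k = 2 * m := ⟨2 ^ (k - 1), by
      rw [← pow_succ', Nat.sub_add_cancel hk]⟩
    refine ⟨QuaternionGroup.a (m : ZMod (2 * 2 ^ k)), ?_, ?_⟩
    · have hm0 : 0 < m := by
        have := Nat.two_pow_pos k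
        omega
      rw [← QuaternionGroup.a_one_pow, orderOf_pow, QuaternionGroup.orderOf_a_one, hm,
        Nat.gcd_eq_right ⟨4, by ring⟩, show 2 * (2 * m) = 4 * m by ring, Nat.mul_div_cancel _ hm0]
    · rw [show (QuaternionGroup.xa i)⁻¹ = QuaternionGroup.xa (((2 ^ k : ℕ) : ZMod (2 * 2 ^ k)) + i) from rfl,
        QuaternionGroup.a_mul_xa, QuaternionGroup.xa_mul_a]
      congr 1
      have : ((2 ^ k : ℕ) : ZMod (2 * 2 ^ k)) + (2 ^ k : ℕ) = 0 := by
        rw [← Nat.cast_add, ← two_mul]; exact ZMod.natCast_self _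
      have hm' : ((2 ^ k : ℕ) : ZMod (2 * 2 ^ k)) = 2 * (m : ZMod (2 * 2 ^ k)) := by
        exact_mod_cast congrArg (Nat.cast : ℕ → ZMod (2 * 2 ^ k)) hm
      rw [hm'] at this ⊢
      linear_combination -this

/-- The quotient of a noncyclic 2-group with a unique involution `z` by `⟨z⟩` is dihedral. -/
lemma exists_dihedral_quotient {S : Subgroup G} {z : G} (h : UInv S z) (hS : IsPGroup 2 S)
    (hnc : ¬ IsCyclic S) {H : Type*} [Group H] (f : S →* H) (hf : Function.Surjective f)
    (hker : ∀ s : S, f s = 1 ↔ (s : G) = 1 ∨ (s : G) = z) :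
    ∃ k : ℕ, 1 ≤ k ∧ Nonempty (H ≃* DihedralGroup (2 ^ k)) := by
  obtain ⟨k, hk, ⟨e⟩⟩ := (isCyclic_or_quaternion h hS).resolve_left hnc
  haveI : NeZero (2 ^ k) := ⟨by positivity⟩
  refine ⟨k, hk, ?_⟩
  set n := 2 ^ k
  let ψ := (toDih n).comp e.toMonoidHom
  have hψ : Function.Surjective ψ := by
    intro y
    rcases y with i | i
    · obtain ⟨j, hj⟩ := ZMod.castHom_surjective (show n ∣ 2 * n from Dvd.intro_left 2 rfl) i
      exact ⟨e.symm (.a j), by simp [ψ, toDih]; exact hj⟩
    · obtain ⟨j, hj⟩ := ZMod.castHom_surjective (show n ∣ 2 * n from Dvd.intro_left 2 rfl) i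
      exact ⟨e.symm (.xa j), by simp [ψ, toDih]; exact hj⟩
  have hsq : ∀ w : QuaternionGroup n, toDih n w = 1 ↔ w * w = 1 := by
    intro w
    rcases w with i | i
    · simp only [toDih, MonoidHom.mk'_apply, QuaternionGroup.a_mul_a,
        DihedralGroup.one_def, QuaternionGroup.one_def, DihedralGroup.r.injEq, QuaternionGroup.a.injEq]
      obtain ⟨c, rfl⟩ := ZMod.intCast_surjective i
      rw [map_intCast, ← Int.cast_add, ZMod.intCast_zmod_eq_zero_iff_dvd,
        ZMod.intCast_zmod_eq_zero_iff_dvd, Nat.cast_mul, ← two_mul]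
      exact (mul_dvd_mul_iff_left two_ne_zero).symm
    · simp only [toDih, MonoidHom.mk'_apply, QuaternionGroup.xa_mul_xa,
        DihedralGroup.one_def, QuaternionGroup.one_def, reduceCtorEq, false_iff,
        QuaternionGroup.a.injEq, add_sub_cancel_right]
      rw [ZMod.natCast_eq_zero_iff]
      intro h
      have h1 := Nat.le_of_dvd (Nat.two_pow_pos k) h
      have := Nat.two_pow_pos k
      omega
  have hkk : f.ker = ψ.ker := by
    ext s
    rw [MonoidHom.mem_ker, MonoidHom.mem_ker, hker]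
    show _ ↔ toDih n (e s) = 1
    rw [hsq, ← map_mul, MulEquiv.map_eq_one_iff, Subtype.ext_iff]
    constructor
    · rintro (h1 | h1) <;> show (s : G) * s = 1 <;> rw [h1]
      · rw [one_mul]
      · exact h.mul_self
    · intro h1
      by_cases h2 : (s : G) = 1
      · exact Or.inl h2
      · exact Or.inr (h.eq_of_sq s.2 h1 h2)
  exact ⟨(QuotientGroup.quotientKerEquivOfSurjective f hf).symm.trans
      ((QuotientGroup.quotientMulEquivOfEq hkk).trans
        (QuotientGroup.quotientKerEquivOfSurjective ψ hψ))⟩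

end Cfsg.Agent.IntrinsicPair
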