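import Cfsg.Agent.Lib.Components.IntrinsicPair.AutTrivial
import Cfsg.Agent.Lib.Components.ComponentTwo
import Cfsg.Agent.Lib.Components.PLayerEquiv
import Cfsg.Agent.Lib.Cores.Subnormal

/-!
2-components with a unique involution inside the centralizer of that involution: the quotient by the
odd core, conjugation, Sylow subgroups, and components of the centralizer of a second involution.
-/

set_option autoImplicit false
set_option linter.style.haveILetI false
set_option linter.unusedSectionVars false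

namespace Cfsg.Agent.IntrinsicPair

open Subgroup
open Cfsg.Agent.Components.Basic Cfsg.Agent.Components.PComponents

universe u

variable {G : Type u} [Group G]

/-- The centralizer of `z`. -/
abbrev C (z : G) : Subgroup G := centralizer ({z} : Set G)

/-- `C(z)` modulo its odd core. -/
abbrev Q (z : G) : Type u := ↥(C z) ⧸ Cfsg.pPrimeCore 2 ↥(C z)

open scoped _root_.Classical in
/-- The image in `C(z)/O(C(z))`. -/
noncomputable def pr (z x : G) : Q z := if h : x ∈ C z then QuotientGroup.mk' _ (⟨x, h⟩ : C z) else 1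

/-- The image of a subgroup in `C(z)/O(C(z))`. -/
def im (z : G) (J : Subgroup G) : Subgroup (Q z) := (J.subgroupOf (C z)).map (QuotientGroup.mk' _)

/-- The conjugate subgroup `g H g⁻¹`. -/
def cj (g : G) (H : Subgroup G) : Subgroup G := H.map (MulAut.conj g).toMonoidHom

/-- `J` is a 2-component of `C(z)` whose only involution is `z`. -/
structure Comp (J : Subgroup G) (z : G) : Prop where
  uinv : UInv J z
  le : J ≤ C z
  pc : Cfsg.IsPComponent 2 (J.subgroupOf (C z))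

/-- A 2-element. -/
def IsTwo (x : G) : Prop := ∃ k : ℕ, x ^ 2 ^ k = 1

/-- `x` acts trivially on the image of `J`. -/
def Triv (z : G) (J : Subgroup G) (x : G) : Prop := ∀ j ∈ J, Commute (pr z x) (pr z j)

lemma mem_C {z x : G} : x ∈ C z ↔ Commute x z := mem_centralizer_singleton_iff

lemma mem_C_comm {z x : G} : x ∈ C z ↔ z ∈ C x := by
  rw [mem_C, mem_C]; exact ⟨Commute.symm, Commute.symm⟩

lemma self_mem_C (z : G) : z ∈ C z := mem_C.mpr (Commute.refl z)

lemma conj_eq_of_mem_C {z x : G} (hx : x ∈ C z) : x * z * x⁻¹ = z :=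
  mul_inv_eq_iff_eq_mul.mpr (mem_C.mp hx)

lemma mem_C_conj {z x : G} (g : G) (hx : x ∈ C z) : g * x * g⁻¹ ∈ C (g * z * g⁻¹) :=
  mem_C.mpr ((mem_C.mp hx).map (MulAut.conj g).toMonoidHom)

/-! ### Conjugation -/

lemma mem_cj {g x : G} {H : Subgroup G} : x ∈ cj g H ↔ g⁻¹ * x * g ∈ H := by
  constructor
  · rintro ⟨y, hy, rfl⟩
    show g⁻¹ * (g * y * g⁻¹) * g ∈ H
    rwa [show g⁻¹ * (g * y * g⁻¹) * g = y by group]
  · intro h
    exact ⟨_, h, show g * (g⁻¹ * x * g) * g⁻¹ = x by group⟩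

lemma conj_mem_cj {g x : G} {H : Subgroup G} (hx : x ∈ H) : g * x * g⁻¹ ∈ cj g H := ⟨x, hx, rfl⟩

lemma cj_mul (g h : G) (H : Subgroup G) : cj (g * h) H = cj g (cj h H) := by
  ext x; simp only [mem_cj, mul_inv_rev, mul_assoc]

lemma cj_one (H : Subgroup G) : cj (1 : G) H = H := by ext x; simp [mem_cj]

lemma cj_inj {g : G} {H K : Subgroup G} (h : cj g H = cj g K) : H = K :=
  Subgroup.map_injective (MulAut.conj g).injective h

lemma cj_inv {g : G} {H K : Subgroup G} (h : cj g H = K) : cj g⁻¹ K = H := by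
  rw [← h, ← cj_mul, inv_mul_cancel, cj_one]

lemma mem_norm_iff {g : G} {H : Subgroup G} : g ∈ normalizer (H : Set G) ↔ cj g H = H :=
  mem_normalizer_iff_map_conj_eq

lemma card_cj (g : G) (H : Subgroup G) : Nat.card (cj g H) = Nat.card H :=
  Subgroup.card_map_of_injective (MulAut.conj g).injective

/-! ### 2-elements -/

lemma isTwo_of_pgroup {R : Subgroup G} (hR : IsPGroup 2 R) {x : G} (hx : x ∈ R) : IsTwo x :=
  let ⟨k, hk⟩ := hR ⟨x, hx⟩; ⟨k, congrArg Subtype.val hk⟩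

lemma isTwo_of_order_two {x : G} (hx : orderOf x = 2) : IsTwo x :=
  ⟨1, by rw [pow_one, ← hx]; exact pow_orderOf_eq_one x⟩

lemma isTwo_of_order_four {x : G} (hx : orderOf x = 4) : IsTwo x :=
  ⟨2, by rw [show (2 : ℕ) ^ 2 = orderOf x by rw [hx]; rfl]; exact pow_orderOf_eq_one x⟩

lemma IsTwo.pow {x : G} (h : IsTwo x) (n : ℕ) : IsTwo (x ^ n) :=
  let ⟨k, hk⟩ := h; ⟨k, by rw [← pow_mul, mul_comm, pow_mul, hk, one_pow]⟩

lemma IsTwo.conj {x : G} (h : IsTwo x) (g : G) : IsTwo (g * x * g⁻¹) :=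
  let ⟨k, hk⟩ := h; ⟨k, by rw [conj_pow, hk, mul_one, mul_inv_cancel]⟩

lemma IsTwo.isPGroup {x : G} (h : IsTwo x) : IsPGroup 2 (zpowers x) := by
  obtain ⟨k, hk⟩ := h
  rintro ⟨y, hy⟩
  obtain ⟨i, rfl⟩ := mem_zpowers_iff.mp hy
  refine ⟨k, Subtype.ext ?_⟩
  show (x ^ i) ^ 2 ^ k = 1
  rw [← zpow_natCast, ← zpow_mul, mul_comm, zpow_mul, zpow_natCast, hk, one_zpow]

lemma isTwo_of_isPGroup_zpowers {x : G} (h : IsPGroup 2 (zpowers x)) : IsTwo x :=
  isTwo_of_pgroup h (mem_zpowers x)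

/-! ### The quotient map -/

lemma pr_mk {z x : G} (hx : x ∈ C z) : pr z x = QuotientGroup.mk' _ (⟨x, hx⟩ : C z) := by
  rw [pr, dif_pos hx]

lemma pr_one (z : G) : pr z (1 : G) = 1 := by rw [pr_mk (C z).one_mem]; exact map_one _

lemma pr_mul {z x y : G} (hx : x ∈ C z) (hy : y ∈ C z) : pr z (x * y) = pr z x * pr z y := by
  rw [pr_mk hx, pr_mk hy, pr_mk ((C z).mul_mem hx hy), ← map_mul]; rfl

lemma pr_inv {z x : G} (hx : x ∈ C z) : pr z x⁻¹ = (pr z x)⁻¹ := by
  rw [pr_mk hx, pr_mk ((C z).inv_mem hx), ← map_inv]; rfl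

lemma pr_pow {z x : G} (hx : x ∈ C z) (n : ℕ) : pr z (x ^ n) = pr z x ^ n := by
  rw [pr_mk hx, pr_mk ((C z).pow_mem hx n), ← map_pow]; rfl

lemma pr_conj {z g x : G} (hg : g ∈ C z) (hx : x ∈ C z) :
    pr z (g * x * g⁻¹) = pr z g * pr z x * (pr z g)⁻¹ := by
  rw [pr_mul ((C z).mul_mem hg hx) ((C z).inv_mem hg), pr_mul hg hx, pr_inv hg]

lemma pr_surj {z : G} (q : Q z) : ∃ x ∈ C z, pr z x = q := by
  obtain ⟨⟨x, hx⟩, rfl⟩ := QuotientGroup.mk'_surjective _ q
  exact ⟨x, hx, pr_mk hx⟩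

lemma mem_im {z : G} {J : Subgroup G} (hJ : J ≤ C z) {q : Q z} :
    q ∈ im z J ↔ ∃ j ∈ J, pr z j = q := by
  constructor
  · rintro ⟨⟨j, hj⟩, hjJ, rfl⟩
    exact ⟨j, hjJ, pr_mk hj⟩
  · rintro ⟨j, hj, rfl⟩
    exact ⟨⟨j, hJ hj⟩, hj, (pr_mk (hJ hj)).symm⟩

lemma pr_mem_im {z j : G} {J : Subgroup G} (hJ : J ≤ C z) (hj : j ∈ J) : pr z j ∈ im z J :=
  (mem_im hJ).mpr ⟨j, hj, rfl⟩

/-! ### Sylow subgroups of subgroups -/

/-- `R` is a Sylow 2-subgroup of the subgroup `X`. -/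
structure Syl (R X : Subgroup G) : Prop where
  two : IsPGroup 2 R
  le : R ≤ X
  idx : ¬ 2 ∣ R.relIndex X

variable [Finite G]

local instance fact_two : Fact (Nat.Prime 2) := ⟨Nat.prime_two⟩

/-- The Sylow subgroup of `X` determined by `R`. -/
noncomputable def Syl.toSylow {R X : Subgroup G} (h : Syl R X) : Sylow 2 X :=
  IsPGroup.toSylow (h.two.of_equiv (subgroupOfEquivOfLe h.le).symm) h.idx

lemma Syl.toSylow_coe {R X : Subgroup G} (h : Syl R X) :
    (h.toSylow : Subgroup X) = R.subgroupOf X := rfl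

lemma exists_syl_ge {P X : Subgroup G} (hP : IsPGroup 2 P) (hPX : P ≤ X) :
    ∃ R, Syl R X ∧ P ≤ R := by
  obtain ⟨S, hS⟩ := (hP.comap_of_injective X.subtype X.subtype_injective).exists_le_sylow
  refine ⟨(S : Subgroup X).map X.subtype, ⟨S.2.map _, map_subtype_le _, ?_⟩,
    fun x hx => ⟨⟨x, hPX hx⟩, hS (show x ∈ P from hx), rfl⟩⟩
  show ¬ 2 ∣ (((S : Subgroup X).map X.subtype).subgroupOf X).index
  rw [subgroupOf, comap_map_eq_self_of_injective X.subtype_injective]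
  exact S.not_dvd_index

lemma Syl.eq_of_le {R P X : Subgroup G} (h : Syl R X) (hP : IsPGroup 2 P) (hRP : R ≤ P)
    (hPX : P ≤ X) : P = R := by
  have hP' : IsPGroup 2 ↥(P.subgroupOf X) := hP.of_equiv (subgroupOfEquivOfLe hPX).symm
  have := congrArg (Subgroup.map X.subtype)
    (h.toSylow.3 hP' (fun x hx => hRP hx : (h.toSylow : Subgroup X) ≤ P.subgroupOf X))
  rwa [Syl.toSylow_coe, map_subgroupOf_eq_of_le hPX, map_subgroupOf_eq_of_le h.le] at this

lemma Syl.inf {R X M : Subgroup G} (h : Syl R X) (hMX : M ≤ X)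
    (hM : (M.subgroupOf X).IsSubnormal) : Syl (R ⊓ M) M := by
  refine ⟨h.two.to_le inf_le_left, inf_le_right, ?_⟩
  have := Cores.sylow_subgroupOf_isSubnormal h.toSylow hM
  rw [← Subgroup.relIndex, Syl.toSylow_coe, relIndex_subgroupOf hMX] at this
  rwa [inf_relIndex_right]

lemma Syl.exists_conj {R X : Subgroup G} (h : Syl R X) {P : Subgroup G} (hP : IsPGroup 2 P)
    (hPX : P ≤ X) : ∃ x ∈ X, ∀ p ∈ P, x * p * x⁻¹ ∈ R := by
  obtain ⟨S, hS⟩ := (hP.comap_of_injective X.subtype X.subtype_injective).exists_le_sylow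
  obtain ⟨x, hx⟩ := MulAction.exists_smul_eq X S h.toSylow
  refine ⟨x, x.2, fun p hp => ?_⟩
  have h1 : x * ⟨p, hPX hp⟩ * x⁻¹ ∈ (h.toSylow : Subgroup X) := by
    rw [← hx, ← SetLike.mem_coe, Sylow.coe_subgroup_smul]
    exact ⟨_, hS (show p ∈ P from hp), rfl⟩
  exact h1

/-! ### Odd core -/

lemma two_eq_one_of_pr {z x : G} (hx : x ∈ C z) (h2 : IsTwo x) (h : pr z x = 1) : x = 1 := by
  rw [pr_mk hx, QuotientGroup.mk'_apply, QuotientGroup.eq_one_iff] at h
  obtain ⟨k, hk⟩ := h2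
  have hd : orderOf x ∣ Nat.card (Cfsg.pPrimeCore 2 ↥(C z)) := by
    have := orderOf_dvd_natCard (G := Cfsg.pPrimeCore 2 ↥(C z)) ⟨⟨x, hx⟩, h⟩
    rwa [Subgroup.orderOf_mk, Subgroup.orderOf_mk] at this
  exact orderOf_eq_one_iff.mp (Nat.eq_one_of_dvd_coprimes
    ((Cores.pPrimeCore_card_coprime (G := ↥(C z)) 2).pow_right k) hd (orderOf_dvd_of_pow_eq_one hk))

lemma pr_inj {z x y : G} {R : Subgroup G} (hR : IsPGroup 2 R) (hRC : R ≤ C z) (hx : x ∈ R)
    (hy : y ∈ R) (h : pr z x = pr z y) : x = y :=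
  inv_mul_eq_one.mp (two_eq_one_of_pr ((C z).mul_mem ((C z).inv_mem (hRC hx)) (hRC hy))
    (isTwo_of_pgroup hR (R.mul_mem (R.inv_mem hx) hy))
    (by rw [pr_mul ((C z).inv_mem (hRC hx)) (hRC hy), pr_inv (hRC hx), h, inv_mul_cancel]))

lemma commute_of_pr {z x y : G} {R : Subgroup G} (hR : IsPGroup 2 R) (hRC : R ≤ C z) (hx : x ∈ R)
    (hy : y ∈ R) (h : Commute (pr z x) (pr z y)) : Commute x y :=
  pr_inj hR hRC (R.mul_mem hx hy) (R.mul_mem hy hx) (by
    rw [pr_mul (hRC hx) (hRC hy), pr_mul (hRC hy) (hRC hx)]; exact h)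

lemma odd_of_pr_eq_one {z x : G} (hx : x ∈ C z) (h : pr z x = 1) : Odd (orderOf x) := by
  rw [pr_mk hx, QuotientGroup.mk'_apply, QuotientGroup.eq_one_iff] at h
  have := orderOf_dvd_natCard (G := Cfsg.pPrimeCore 2 ↥(C z)) ⟨⟨x, hx⟩, h⟩
  rw [Subgroup.orderOf_mk, Subgroup.orderOf_mk] at this
  exact (Nat.coprime_two_right.mp (Cores.pPrimeCore_card_coprime (G := ↥(C z)) 2)).of_dvd_nat this

/-- A power of `m` is an involution with the same image when the image is an involution. -/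
lemma lift_involution {z m : G} (hm : m ∈ C z) (h : orderOf (pr z m) = 2) :
    ∃ n : ℕ, orderOf (m ^ n) = 2 ∧ pr z (m ^ n) = pr z m := by
  obtain ⟨h2, h1⟩ := Involutions.Basic.orderOf_two_iff.mp h
  have hsq : pr z (m ^ 2) = 1 := by rw [pr_pow hm, sq, h2]
  obtain ⟨c, hc⟩ := odd_of_pr_eq_one ((C z).pow_mem hm 2) hsq
  refine ⟨2 * c + 1, ?_⟩
  have hpr : pr z (m ^ (2 * c + 1)) = pr z m := by
    rw [pr_pow hm, pow_succ, pow_mul, sq, h2, one_pow, one_mul]
  refine ⟨orderOf_eq_prime ?_ fun e => h1 (by rw [← hpr, e, pr_one]), hpr⟩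
  rw [← pow_mul, mul_comm, pow_mul, ← hc]
  exact pow_orderOf_eq_one _

/-- Involutions with the same image are conjugate by an element of the kernel. -/
lemma conj_of_pr_eq {z x y : G} (hx : x ∈ C z) (hy : y ∈ C z) (hx2 : orderOf x = 2)
    (hy2 : orderOf y = 2) (h : pr z x = pr z y) :
    ∃ o ∈ zpowers (x * y), o ∈ C z ∧ pr z o = 1 ∧ o * x * o⁻¹ = y := by
  have h1 : pr z (x * y) = 1 := by
    rw [pr_mul hx hy, ← h, ← pr_mul hx hx, Involutions.Basic.inv_sq_one hx2, pr_one]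
  obtain ⟨d, hd, he⟩ := Involutions.Basic.exists_conj_of_odd hx2 hy2
    (odd_of_pr_eq_one ((C z).mul_mem hx hy) h1)
  have hxy : x * y ∈ C z := (C z).mul_mem hx hy
  refine ⟨d, hd, zpowers_le.mpr hxy hd, ?_, he⟩
  obtain ⟨i, rfl⟩ := mem_zpowers_iff.mp hd
  rw [pr_mk ((C z).zpow_mem hxy i), show (⟨(x * y) ^ i, (C z).zpow_mem hxy i⟩ : C z) =
    (⟨x * y, hxy⟩ : C z) ^ i from Subtype.ext rfl, map_zpow, ← pr_mk hxy, h1, one_zpow]

/-- Lifting commutation with an involution. -/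
lemma commute_lift {z a x : G} (hx : x ∈ C z) (ha : a ∈ C z) (ha2 : orderOf a = 2)
    (h : Commute (pr z x) (pr z a)) :
    ∃ o ∈ zpowers (x * a * x⁻¹ * a), o ∈ C z ∧ pr z o = 1 ∧ Commute (o * x) a := by
  have h1 : pr z (x * a * x⁻¹) = pr z a := by
    rw [pr_conj hx ha, mul_inv_eq_iff_eq_mul]; exact h
  obtain ⟨o, ho, hoC, ho1, he⟩ := conj_of_pr_eq
    ((C z).mul_mem ((C z).mul_mem hx ha) ((C z).inv_mem hx)) ha
    (by rw [Involutions.Basic.orderOf_conj, ha2]) ha2 h1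
  exact ⟨o, ho, hoC, ho1, mul_inv_eq_iff_eq_mul.mp (by rw [mul_inv_rev]; simpa [mul_assoc] using he)⟩

/-! ### Transport of the quotient -/

/-- Conjugation as an isomorphism of centralizers. -/
def cC (g z : G) : C z ≃* C (g * z * g⁻¹) where
  toFun x := ⟨g * (x : G) * g⁻¹, mem_C_conj g x.2⟩
  invFun x := ⟨g⁻¹ * (x : G) * g, by
    have := mem_C_conj g⁻¹ x.2
    rwa [show g⁻¹ * (g * z * g⁻¹) * g⁻¹⁻¹ = z by group, inv_inv] at this⟩
  left_inv x := Subtype.ext (show g⁻¹ * (g * (x : G) * g⁻¹) * g = x by group)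
  right_inv x := Subtype.ext (show g * (g⁻¹ * (x : G) * g) * g⁻¹ = x by group)
  map_mul' x y := Subtype.ext
    (show g * ((x : G) * y) * g⁻¹ = g * x * g⁻¹ * (g * y * g⁻¹) by group)

/-- Conjugation as an isomorphism of the quotients. -/
noncomputable def qconj (g z : G) : Q z ≃* Q (g * z * g⁻¹) :=
  QuotientGroup.congr _ _ (cC g z) (Cores.map_pPrimeCore_eq (cC g z) 2)

lemma qconj_pr (g : G) {z x : G} (hx : x ∈ C z) :
    qconj g z (pr z x) = pr (g * z * g⁻¹) (g * x * g⁻¹) := by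
  rw [pr_mk hx, pr_mk (mem_C_conj g hx)]; rfl

lemma layer_conj (g : G) {z x : G} (hx : x ∈ C z) (h : pr z x ∈ Cfsg.layer (Q z)) :
    pr (g * z * g⁻¹) (g * x * g⁻¹) ∈ Cfsg.layer (Q (g * z * g⁻¹)) := by
  rw [← qconj_pr g hx, ← layer_map_equiv (qconj g z)]
  exact ⟨_, h, rfl⟩

/-! ### Components with a unique involution -/

namespace Comp

variable {J J' : Subgroup G} {z : G}

lemma z_mem (h : Comp J z) : z ∈ C z := self_mem_C z

lemma conj (h : Comp J z) (g : G) : Comp (cj g J) (g * z * g⁻¹) := by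
  refine ⟨⟨conj_mem_cj h.uinv.mem, by rw [Involutions.Basic.orderOf_conj]; exact h.uinv.inv, ?_⟩,
    ?_, ?_⟩
  · rintro _ ⟨t, ht, rfl⟩ h2
    change orderOf (g * t * g⁻¹) = 2 at h2
    rw [Involutions.Basic.orderOf_conj] at h2
    show g * t * g⁻¹ = g * z * g⁻¹
    rw [h.uinv.uniq t ht h2]
  · rintro _ ⟨t, ht, rfl⟩
    exact mem_C_conj g (h.le ht)
  · have := Components.PLayerEquiv.isPComponent_map (cC g z) h.pc
    convert this using 1
    ext x
    rw [mem_subgroupOf, mem_cj, Subgroup.mem_map]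
    constructor
    · intro hx
      exact ⟨⟨_, h.le hx⟩, hx, Subtype.ext (show g * (g⁻¹ * (x : G) * g) * g⁻¹ = x by group)⟩
    · rintro ⟨w, hw, rfl⟩
      show g⁻¹ * (g * (w : G) * g⁻¹) * g ∈ J
      rwa [show g⁻¹ * (g * (w : G) * g⁻¹) * g = w by group]

lemma conj_of_mem (h : Comp J z) {g : G} (hg : g ∈ C z) : Comp (cj g J) z := by
  have := h.conj g
  rwa [conj_eq_of_mem_C hg] at this

lemma component (h : Comp J z) : Cfsg.IsComponent (im z J) := h.pc.2.1

lemma ext (h : Comp J z) (h' : Comp J' z) (he : im z J = im z J') : J = J' := by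
  have := pcomp_ext h.pc h'.pc he
  rw [← map_subgroupOf_eq_of_le h.le, this, map_subgroupOf_eq_of_le h'.le]

lemma two_mem (h : Comp J z) {x : G} (hx : x ∈ C z) (h2 : IsTwo x) (hi : pr z x ∈ im z J) :
    x ∈ J := by
  obtain ⟨k, hk⟩ := h2
  have : (⟨x, hx⟩ : C z) ∈ J.subgroupOf (C z) := by
    rw [pcomp_eq_liftComp h.pc]
    refine subset_closure ⟨?_, k, Subtype.ext hk⟩
    rw [Subgroup.mem_comap, ← pr_mk hx]
    exact hi
  exact this

lemma perfect (h : Comp J z) : ⁅J, J⁆ = J := by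
  have := congrArg (Subgroup.map (C z).subtype) (pcomp_perfect h.pc)
  rwa [map_commutator, map_subgroupOf_eq_of_le h.le] at this

lemma im_cj (h : Comp J z) {g : G} (hg : g ∈ C z) :
    im z (cj g J) = (im z J).map (MulAut.conj (pr z g)).toMonoidHom := by
  ext q
  rw [mem_im (h.conj_of_mem hg).le, Subgroup.mem_map]
  constructor
  · rintro ⟨_, ⟨j, hj, rfl⟩, rfl⟩
    exact ⟨pr z j, pr_mem_im h.le hj, (pr_conj hg (h.le hj)).symm⟩
  · rintro ⟨p, hp, rfl⟩
    obtain ⟨j, hj, rfl⟩ := (mem_im h.le).mp hp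
    exact ⟨_, conj_mem_cj hj, pr_conj hg (h.le hj)⟩

lemma pr_z_ne_one (h : Comp J z) : pr z z ≠ 1 := fun e =>
  h.uinv.ne_one (two_eq_one_of_pr h.z_mem (isTwo_of_order_two h.uinv.inv) e)

lemma qq (h : Comp J z) : QQ (im z J) ⟨pr z z, pr_mem_im h.le h.uinv.mem⟩ := by
  refine ⟨h.component.2, ⟨Subgroup.mem_top _, ?_, ?_⟩,
    isPGroup_center_component (Cores.pPrimeCore_quotient_self 2) h.component⟩
  · rw [Subgroup.orderOf_mk, Involutions.Basic.orderOf_two_iff]
    refine ⟨?_, h.pr_z_ne_one⟩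
    rw [← pr_mul h.z_mem h.z_mem, h.uinv.mul_self, pr_one]
  · rintro ⟨q, hq⟩ - h2
    rw [Subgroup.orderOf_mk] at h2
    obtain ⟨j, hj, rfl⟩ := (mem_im h.le).mp hq
    obtain ⟨n, hn, hn'⟩ := lift_involution (h.le hj) h2
    refine Subtype.ext ?_
    show pr z j = pr z z
    rw [← hn', h.uinv.uniq _ (J.pow_mem hj n) hn]

lemma comm_of_ne (h : Comp J z) (h' : Comp J' z) (hne : J ≠ J') {j j' : G} (hj : j ∈ J)
    (hj' : j' ∈ J') : Commute (pr z j) (pr z j') := by
  have h0 := component_commutator_eq_bot_of_ne h.component h'.component fun e => hne (h.ext h' e)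
  exact (mem_centralizer_iff.mp (commutator_eq_bot_iff_le_centralizer.mp h0 (pr_mem_im h.le hj)) _
    (pr_mem_im h'.le hj')).symm

lemma central_cases (h : Comp J z) {q : Q z} (hq : q ∈ im z J)
    (hc : ∀ j ∈ J, Commute q (pr z j)) : q = 1 ∨ q = pr z z := by
  have h1 : (⟨q, hq⟩ : im z J) ∈ Subgroup.center (im z J) := by
    rw [mem_center_iff]
    rintro ⟨p, hp⟩
    obtain ⟨j, hj, rfl⟩ := (mem_im h.le).mp hp
    exact Subtype.ext (hc j hj).eq.symm
  rw [← QuotientGroup.eq_one_iff, h.qq.mk_eq_one] at h1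
  rcases h1 with h1 | h1
  · exact Or.inl (congrArg Subtype.val h1)
  · exact Or.inr (congrArg Subtype.val h1)

/-- A 2-element of `J` other than `1` and `z` is not central. -/
lemma not_triv (h : Comp J z) {a : G} (ha : a ∈ J) (h2 : IsTwo a) (h1 : a ≠ 1) (hz : a ≠ z) :
    ¬ Triv z J a := by
  intro hc
  have hR := h2.isPGroup
  have hle : zpowers a ≤ C z := zpowers_le.mpr (h.le ha)
  rcases h.central_cases (pr_mem_im h.le ha) hc with e | e
  · exact h1 (two_eq_one_of_pr (h.le ha) h2 e)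
  · obtain ⟨k, hk⟩ := h2
    exact hz (pr_inj hR hle (mem_zpowers a) (h.uinv.mem_zpowers ha hk h1) e)

lemma not_triv_four (h : Comp J z) {a : G} (ha : a ∈ J) (h4 : orderOf a = 4) : ¬ Triv z J a := by
  refine h.not_triv ha (isTwo_of_order_four h4) (fun e => ?_) fun e => ?_
  · rw [e, orderOf_one] at h4; omega
  · rw [e, h.uinv.inv] at h4; omega

/-- Components sharing a 2-element other than `1` and `z` are equal. -/
lemma eq_of_meet (h : Comp J z) (h' : Comp J' z) {a : G} (ha : a ∈ J) (ha' : a ∈ J')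
    (h2 : IsTwo a) (h1 : a ≠ 1) (hz : a ≠ z) : J = J' :=
  by_contra fun hne => h.not_triv ha h2 h1 hz fun _ hj => (h.comm_of_ne h' hne hj ha').symm

lemma cj_of_pr (h : Comp J z) {g : G} (hg : g ∈ C z)
    (he : ∀ j ∈ J, pr z g * pr z j * (pr z g)⁻¹ ∈ im z J) : cj g J = J := by
  refine (h.conj_of_mem hg).ext h (eq_of_le_of_card_ge ?_ ?_)
  · rw [h.im_cj hg]
    rintro _ ⟨q, hq, rfl⟩
    obtain ⟨j, hj, rfl⟩ := (mem_im h.le).mp hq
    exact he j hj
  · rw [h.im_cj hg, Subgroup.card_map_of_injective (MulAut.conj (pr z g)).injective]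

lemma norm_of_triv (h : Comp J z) {g : G} (hg : g ∈ C z) (ht : Triv z J g) :
    g ∈ normalizer (J : Set G) := by
  refine mem_norm_iff.mpr (h.cj_of_pr hg fun j hj => ?_)
  rw [(ht j hj).eq, mul_inv_cancel_right]
  exact pr_mem_im h.le hj

lemma norm_of_pr_one (h : Comp J z) {g : G} (hg : g ∈ C z) (he : pr z g = 1) :
    g ∈ normalizer (J : Set G) :=
  h.norm_of_triv hg fun j _ => by rw [he]; exact Commute.one_left _

lemma norm_le (h : Comp J z) : normalizer (J : Set G) ≤ C z := fun _ hx =>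
  mem_C.mpr (h.uinv.comm hx)

/-- The action of the normalizer on the image. -/
noncomputable def act (h : Comp J z) : ↥(normalizer (J : Set G)) →* MulAut (im z J) :=
  (im z J).normalizerMonoidHom.comp
    (((QuotientGroup.mk' _).comp (Subgroup.inclusion h.norm_le)).codRestrict _ fun x => by
      have hx : (x : G) ∈ C z := h.norm_le x.2
      rw [MonoidHom.comp_apply, show Subgroup.inclusion h.norm_le x = (⟨x, hx⟩ : C z) from rfl,
        ← pr_mk hx, mem_normalizer_iff_map_conj_eq]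
      exact (h.im_cj hx).symm.trans (by rw [mem_norm_iff.mp x.2]))

lemma act_apply (h : Comp J z) (x : ↥(normalizer (J : Set G))) (q : im z J) :
    ((h.act x q : im z J) : Q z) = pr z x * q * (pr z x)⁻¹ := by
  rw [pr_mk (h.norm_le x.2)]; rfl

lemma act_eq_one (h : Comp J z) {x : ↥(normalizer (J : Set G))} :
    h.act x = 1 ↔ Triv z J x := by
  constructor
  · intro he j hj
    have := h.act_apply x ⟨pr z j, pr_mem_im h.le hj⟩
    rw [he, MulAut.one_apply] at this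
    exact (eq_mul_inv_iff_mul_eq.mp this).symm
  · intro ht
    ext ⟨q, hq⟩
    obtain ⟨j, hj, rfl⟩ := (mem_im h.le).mp hq
    rw [h.act_apply, MulAut.one_apply, (ht j hj).eq, mul_inv_cancel_right]

/-- A perfect subgroup of the normalizer acts by inner automorphisms, trivially on a central involution. -/
lemma triv_of_central (h : Comp J z) {W : Subgroup G} (hW : ⁅W, W⁆ = W)
    (hWN : W ≤ normalizer (J : Set G)) {u : G} (hu : u ∈ W) (hu2 : u * u = 1)
    (hc : ∀ w ∈ W, Commute u w) : Triv z J u := by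
  have hW' : _root_.commutator W = ⊤ := Subgroup.map_injective W.subtype_injective (by
    rw [Subgroup.map_subtype_commutator, hW, ← MonoidHom.range_eq_map, range_subtype])
  have := h.qq.eq_one_of_central hW' (h.act.comp (Subgroup.inclusion hWN)) (u := ⟨u, hu⟩)
    (Subtype.ext hu2) fun w => Subtype.ext (hc w w.2)
  exact h.act_eq_one.mp this

/-- An involution centralizing a Sylow 2-subgroup of `J` acts trivially. -/
lemma triv_of_fix_sylow (h : Comp J z) {x : G} (hx : x ∈ normalizer (J : Set G)) (hx2 : x * x = 1)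
    {S : Subgroup G} (hS : Syl S J) (hc : ∀ s ∈ S, Commute x s) : Triv z J x := by
  let f : J →* im z J := MonoidHom.mk' (fun j => ⟨pr z j, pr_mem_im h.le j.2⟩) fun a b =>
    Subtype.ext (pr_mul (h.le a.2) (h.le b.2))
  have hf : Function.Surjective f := fun q => by
    obtain ⟨j, hj, he⟩ := (mem_im h.le).mp q.2
    exact ⟨⟨j, hj⟩, Subtype.ext he⟩
  refine (h.act_eq_one (x := ⟨x, hx⟩)).mp
    (h.qq.eq_one_of_fix_sylow ?_ (hS.toSylow.mapSurjective hf) ?_)
  · rw [← map_mul, show (⟨x, hx⟩ : normalizer (J : Set G)) * ⟨x, hx⟩ = 1 from Subtype.ext hx2,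
      map_one]
  · rintro _ ⟨s, hs, rfl⟩
    refine Subtype.ext ?_
    rw [h.act_apply]
    show pr z x * pr z s * (pr z x)⁻¹ = pr z s
    rw [← pr_conj (h.norm_le hx) (h.le s.2), mul_inv_eq_iff_eq_mul.mpr (hc s hs).eq]

/-- An element of the layer acts like an element of `J`. -/
lemma layer_inner (h : Comp J z) {x : G} (hx : x ∈ C z) (hl : pr z x ∈ Cfsg.layer (Q z)) :
    x ∈ normalizer (J : Set G) ∧ ∃ k ∈ J, ∀ j ∈ J,
      pr z x * pr z j * (pr z x)⁻¹ = pr z k * pr z j * (pr z k)⁻¹ := by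
  have hm : pr z x ∈ (↑(im z J ⊔ centralizer (im z J : Set (Q z))) : Set (Q z)) :=
    Components.ComponentTwo.layer_le_sup_centralizer h.component hl
  rw [coe_mul_of_right_le_normalizer_left _ _ (centralizer_le_normalizer _)] at hm
  obtain ⟨d, hd, c, hc, he⟩ := hm
  obtain ⟨k, hk, rfl⟩ := (mem_im h.le).mp hd
  have key : ∀ j ∈ J, pr z x * pr z j * (pr z x)⁻¹ = pr z k * pr z j * (pr z k)⁻¹ := by
    intro j hj
    have hcj : c * pr z j = pr z j * c := (mem_centralizer_iff.mp hc _ (pr_mem_im h.le hj)).symm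
    rw [← he, mul_inv_rev, mul_assoc _ c, hcj]
    group
  refine ⟨mem_norm_iff.mpr (h.cj_of_pr hx fun j hj => ?_), k, hk, key⟩
  rw [key j hj]
  exact mul_mem (mul_mem (pr_mem_im h.le hk) (pr_mem_im h.le hj)) (inv_mem (pr_mem_im h.le hk))

lemma mem_layer (h : Comp J z) {j : G} (hj : j ∈ J) : pr z j ∈ Cfsg.layer (Q z) :=
  Components.Basic.le_layer h.component (pr_mem_im h.le hj)

end Comp

end Cfsg.Agent.IntrinsicPair
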