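import Cfsg.Agent.Lib.Components.IntrinsicPair.Cent

/-!
Sylow subgroups, elements and subgroups of a component, layer transport.
-/

set_option autoImplicit false
set_option linter.style.haveILetI false
set_option linter.unusedSectionVars false

namespace Cfsg.Agent.IntrinsicPair

open Subgroup
open Cfsg.Agent.Components.Basic Cfsg.Agent.Components.PComponents

universe u

variable {G : Type u} [Group G] [Finite G]

local instance fact_two'' : Fact (Nat.Prime 2) := ⟨Nat.prime_two⟩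

lemma ne_of_order_four {a x : G} (h4 : orderOf a = 4) (hx : orderOf x ≤ 2) : a ≠ x := fun e => by
  rw [e] at h4; omega

lemma UInv.four_ne {H : Subgroup G} {z a : G} (h : UInv H z) (h4 : orderOf a = 4) :
    a ≠ 1 ∧ a ≠ z :=
  ⟨ne_of_order_four h4 (by rw [orderOf_one]; omega), ne_of_order_four h4 (by rw [h.inv])⟩

lemma UInv.four_inv {H : Subgroup G} {z a : G} (h : UInv H z) (ha : a ∈ H) (h4 : orderOf a = 4) :
    a⁻¹ = a * z :=
  inv_eq_of_mul_eq_one_right (by rw [← mul_assoc, h.sq_of_four ha h4, h.mul_self])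

/-- The intersection of a subgroup of `C` subnormal there with a smaller subgroup. -/
lemma subnormal_inf {M C' H' : Subgroup G} (hM : (M.subgroupOf C').IsSubnormal) (hle : H' ≤ C') :
    ((M ⊓ H').subgroupOf H').IsSubnormal := by
  convert hM.comap (inclusion hle) using 1
  ext ⟨x, hx⟩
  show x ∈ M ⊓ H' ↔ x ∈ M
  exact ⟨fun e => e.1, fun e => ⟨e, hx⟩⟩

lemma Syl.central_mem {R X : Subgroup G} (h : Syl R X) {x : G} (hx : x ∈ X) (h2 : IsTwo x)
    (hc : ∀ r ∈ R, Commute x r) : x ∈ R := by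
  have hn : zpowers x ≤ normalizer (R : Set G) :=
    zpowers_le.mpr (centralizer_le_normalizer _ (mem_centralizer_iff.mpr fun r hr => (hc r hr).eq.symm))
  have := h.eq_of_le (IsPGroup.to_sup_of_normal_left' h.two h2.isPGroup hn) le_sup_left
    (sup_le h.le (zpowers_le.mpr hx))
  exact this ▸ le_sup_right (α := Subgroup G) (mem_zpowers x)

lemma Syl.inf_le_eq {R X T Y : Subgroup G} (h : Syl R X) (hT : IsPGroup 2 T) (hRT : R ≤ T)
    (hRY : R ≤ Y) (hle : T ⊓ Y ≤ X) : T ⊓ Y = R :=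
  h.eq_of_le (hT.to_le inf_le_left) (le_inf hRT hRY) hle

lemma mem_norm_inf {g : G} {A B : Subgroup G} (hA : g ∈ normalizer (A : Set G))
    (hB : g ∈ normalizer (B : Set G)) : g ∈ normalizer ((A ⊓ B : Subgroup G) : Set G) :=
  inf_normalizer_le_normalizer_inf ⟨hA, hB⟩

lemma orderOf_pr {z x : G} (hx : x ∈ C z) (h2 : IsTwo x) : orderOf (pr z x) = orderOf x := by
  refine Nat.dvd_antisymm (orderOf_dvd_of_pow_eq_one (by
    rw [← pr_pow hx, pow_orderOf_eq_one, pr_one])) (orderOf_dvd_of_pow_eq_one ?_)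
  exact two_eq_one_of_pr ((C z).pow_mem hx _) (h2.pow _) (by rw [pr_pow hx, pow_orderOf_eq_one])

lemma pr_mem_layer_pow {z c t : G} (hc : c ∈ C z) (h : pr z c ∈ Cfsg.layer (Q z))
    (ht : t ∈ zpowers c) : pr z t ∈ Cfsg.layer (Q z) := by
  obtain ⟨m, rfl⟩ := (mem_powers_iff_mem_zpowers.mpr ht : t ∈ Submonoid.powers c)
  show pr z (c ^ m) ∈ _
  rw [pr_pow hc]
  exact pow_mem h m

/-- From `t` in the layer at `z`, with `g` mapping `z ↦ t ↦ zt`, get `z` in the layer at `t`. -/
lemma layer_shift {z t g : G} (hzt : Commute z t) (hgz : g * z * g⁻¹ = t)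
    (hgt : g * t * g⁻¹ = z * t) (hl : pr z t ∈ Cfsg.layer (Q z)) (ht2 : t * t = 1)
    (hlt : pr t t ∈ Cfsg.layer (Q t)) : pr t z ∈ Cfsg.layer (Q t) := by
  have h1 := layer_conj g (mem_C.mpr hzt.symm : t ∈ C z) hl
  rw [hgz, hgt] at h1
  have h2 := mul_mem h1 hlt
  rwa [← pr_mul (mem_C.mpr ((hzt.mul_left (Commute.refl t)))) (self_mem_C t), mul_assoc, ht2,
    mul_one] at h2

namespace Comp

variable {J J' : Subgroup G} {z t : G}

lemma syl_not_cyclic (h : Comp J z) {S : Subgroup G} (hS : Syl S J) : ¬ IsCyclic S := by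
  intro hc
  let f : J →* im z J := MonoidHom.mk' (fun j => ⟨pr z j, pr_mem_im h.le j.2⟩) fun a b =>
    Subtype.ext (pr_mul (h.le a.2) (h.le b.2))
  have hf : Function.Surjective f := fun q => by
    obtain ⟨j, hj, he⟩ := (mem_im h.le).mp q.2
    exact ⟨⟨j, hj⟩, Subtype.ext he⟩
  haveI : IsCyclic (hS.toSylow : Subgroup J) :=
    isCyclic_of_surjective (subgroupOfEquivOfLe hS.le).symm.toMonoidHom (MulEquiv.surjective _)
  exact h.qq.sylow_not_cyclic (hS.toSylow.mapSurjective hf)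
    (isCyclic_of_surjective (f.subgroupMap _) (f.subgroupMap_surjective _))

lemma syl_inf (h : Comp J z) {T : Subgroup G} (hT : Syl T (C z)) : Syl (T ⊓ J) J :=
  hT.inf h.le h.pc.1

lemma syl_uinv (h : Comp J z) {T : Subgroup G} (hT : Syl T (C z)) : UInv (T ⊓ J) z :=
  h.uinv.mono inf_le_right ⟨hT.central_mem h.z_mem (isTwo_of_order_two h.uinv.inv)
    fun _ hr => (mem_C.mp (hT.le hr)).symm, h.uinv.mem⟩

lemma exists_four_mem (h : Comp J z) {T : Subgroup G} (hT : Syl T (C z)) :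
    ∃ i ∈ T ⊓ J, orderOf i = 4 := by
  have hS := h.syl_inf hT
  have hu := h.syl_uinv hT
  obtain ⟨x, hx, y, hy, hne⟩ := exists_noncommute hu hS.two (h.syl_not_cyclic hS)
  have hx1 : x ≠ 1 := fun e => hne (by rw [e, one_mul, mul_one])
  have hxz : x ≠ z := fun e => hne (by
    rw [e]; exact ((hu.comm (le_normalizer hy)).eq).symm)
  obtain ⟨k, hk⟩ := isTwo_of_pgroup hS.two hx
  obtain ⟨m, hm⟩ := hu.exists_four hx hk hx1 hxz
  exact ⟨_, pow_mem hx m, hm⟩

/-- Elements of two distinct components lying in one 2-group commute. -/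
lemma commute_exact (h : Comp J z) (h' : Comp J' z) (hne : J ≠ J') {R : Subgroup G}
    (hR : IsPGroup 2 R) (hRC : R ≤ C z) {x x' : G} (hx : x ∈ R) (hxJ : x ∈ J) (hx' : x' ∈ R)
    (hx'J : x' ∈ J') : Commute x x' :=
  commute_of_pr hR hRC hx hx' (h.comm_of_ne h' hne hxJ hx'J)

/-- A 2-element common to two distinct components is `1` or `z`. -/
lemma meet_cases (h : Comp J z) (h' : Comp J' z) (hne : J ≠ J') {x : G} (hx : x ∈ J)
    (hx' : x ∈ J') (h2 : IsTwo x) : x = 1 ∨ x = z := by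
  by_contra hc
  push Not at hc
  exact hne (h.eq_of_meet h' hx hx' h2 hc.1 hc.2)

lemma mul_ne_one (h : Comp J z) (h' : Comp J' z) (hne : J ≠ J') {x x' : G} (hx : x ∈ J)
    (hx' : x' ∈ J') (h4 : orderOf x = 4) : x * x' ≠ 1 := fun e => by
  rcases h.meet_cases h' hne hx ((eq_inv_of_mul_eq_one_left e).symm ▸ J'.inv_mem hx')
    (isTwo_of_order_four h4) with e' | e'
  · exact (h.uinv.four_ne h4).1 e'
  · exact (h.uinv.four_ne h4).2 e'

lemma mul_involution (h : Comp J z) {x x' : G} (hx : x ∈ J) (h4 : orderOf x = 4)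
    (hc : Commute x x') (hx' : x' * x' = z) : (x * x') * (x * x') = 1 := by
  rw [hc.symm.mul_mul_mul_comm, h.uinv.sq_of_four hx h4, hx', h.uinv.mul_self]

/-- The layer normalizes: an element of a component normalizes every component. -/
lemma norm_of_mem (h : Comp J z) (h' : Comp J' z) {j : G} (hj : j ∈ J) :
    j ∈ normalizer (J' : Set G) :=
  (h'.layer_inner (h.le hj) (h.mem_layer hj)).1

/-- A 2-group of elements commuting with an element of order four of the image is abelian. -/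
lemma abelian_of_four (h : Comp J z) {q : Q z} (hq : q ∈ im z J) (h4 : orderOf q = 4)
    {P : Subgroup G} (hP : IsPGroup 2 P) (hPJ : P ≤ J) (hc : ∀ p ∈ P, Commute (pr z p) q) :
    (∀ p ∈ P, ∀ p' ∈ P, Commute p p') ∧
      ∀ p ∈ P, orderOf p = 4 → pr z p = q ∨ pr z p = q⁻¹ := by
  set qX : im z J := ⟨q, hq⟩
  let f : P →* im z J := MonoidHom.mk' (fun p => ⟨pr z p, pr_mem_im h.le (hPJ p.2)⟩) fun a b =>
    Subtype.ext (pr_mul (h.le (hPJ a.2)) (h.le (hPJ b.2)))
  have hq4 : orderOf qX = 4 := by rw [Subgroup.orderOf_mk]; exact h4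
  set S := f.range ⊔ zpowers qX with hS
  have hcq : ∀ w ∈ f.range, w * qX = qX * w := by
    rintro _ ⟨p, rfl⟩
    exact Subtype.ext (hc p p.2)
  have hS2 : IsPGroup 2 S := IsPGroup.to_sup_of_normal_left'
    (hP.of_surjective f.rangeRestrict f.rangeRestrict_surjective)
    (isTwo_of_order_four hq4).isPGroup
    (zpowers_le.mpr (centralizer_le_normalizer _ (mem_centralizer_iff.mpr hcq)))
  have hqS : qX ∈ S := le_sup_right (α := Subgroup _) (mem_zpowers qX)
  have hu := h.qq.uinv.mono (le_top : S ≤ ⊤) (h.qq.uinv.sq_of_four (Subgroup.mem_top qX) hq4 ▸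
    S.mul_mem hqS hqS)
  have hcent : ∀ w ∈ S, w * qX = qX * w := by
    have : S ≤ centralizer ({qX} : Set (im z J)) := sup_le
      (fun w hw => mem_centralizer_singleton_iff.mpr (hcq w hw))
      (zpowers_le.mpr (mem_centralizer_singleton_iff.mpr rfl))
    exact fun w hw => mem_centralizer_singleton_iff.mp (this hw)
  haveI hcyc := isCyclic_of_central_four hu hS2 hqS hq4 hcent
  constructor
  · intro p hp p' hp'
    letI := hcyc.commGroup
    have := mul_comm (⟨f ⟨p, hp⟩, le_sup_left (α := Subgroup _) ⟨_, rfl⟩⟩ : S)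
      ⟨f ⟨p', hp'⟩, le_sup_left (α := Subgroup _) ⟨_, rfl⟩⟩
    exact commute_of_pr hP (hPJ.trans h.le) hp hp' (congrArg Subtype.val (congrArg Subtype.val this))
  · intro p hp hp4
    rcases eq_or_eq_inv_of_cyclic hu hqS
      (le_sup_left (α := Subgroup _) (⟨⟨p, hp⟩, rfl⟩ : f ⟨p, hp⟩ ∈ f.range)) hq4
      (by
        show orderOf (⟨pr z p, pr_mem_im h.le (hPJ hp)⟩ : im z J) = 4
        rw [Subgroup.orderOf_mk, orderOf_pr (h.le (hPJ hp)) (isTwo_of_pgroup hP hp)]; exact hp4)
      with e | e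
    · exact Or.inl (congrArg Subtype.val e)
    · exact Or.inr (congrArg Subtype.val e)

/-- An involution acting like an element of `J`: that element has order four in the image. -/
lemma inner_four (h : Comp J z) {x k : G} (hx : x ∈ C z) (hx2 : x * x = 1) (hk : k ∈ J)
    (hkey : ∀ j ∈ J, pr z x * pr z j * (pr z x)⁻¹ = pr z k * pr z j * (pr z k)⁻¹)
    (hnt : ¬ Triv z J x) : orderOf (pr z k) = 4 := by
  have hp2 : pr z x * pr z x = 1 := by rw [← pr_mul hx hx, hx2, pr_one]
  have hkx : pr z x * pr z k * (pr z x)⁻¹ = pr z k := by rw [hkey k hk]; group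
  have hcen : ∀ j ∈ J, Commute (pr z k * pr z k) (pr z j) := by
    intro j hj
    have h1 : pr z x * (pr z x * pr z j * (pr z x)⁻¹) * (pr z x)⁻¹ =
        pr z k * pr z k * pr z j * (pr z k * pr z k)⁻¹ := by
      rw [hkey j hj, show pr z x * (pr z k * pr z j * (pr z k)⁻¹) * (pr z x)⁻¹ =
        (pr z x * pr z k * (pr z x)⁻¹) * (pr z x * pr z j * (pr z x)⁻¹) *
          (pr z x * pr z k * (pr z x)⁻¹)⁻¹ by group, hkx, hkey j hj]
      group
    rw [show pr z x * (pr z x * pr z j * (pr z x)⁻¹) * (pr z x)⁻¹ =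
      (pr z x * pr z x) * pr z j * (pr z x * pr z x)⁻¹ by group, hp2] at h1
    simp only [one_mul, inv_one, mul_one] at h1
    exact (eq_mul_inv_iff_mul_eq.mp h1).symm
  have hne : ∀ q ∈ ({1, pr z z} : Set (Q z)), pr z k ≠ q := by
    intro q hq e
    refine hnt fun j hj => ?_
    have h1 := hkey j hj
    rw [e] at h1
    have hcj : Commute q (pr z j) := by
      rcases hq with rfl | rfl
      · exact Commute.one_left _
      · show pr z z * pr z j = pr z j * pr z z
        rw [← pr_mul h.z_mem (h.le hj), ← pr_mul (h.le hj) h.z_mem, (mem_C.mp (h.le hj)).eq]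
    rw [hcj.eq, mul_inv_cancel_right] at h1
    exact mul_inv_eq_iff_eq_mul.mp h1
  rcases h.central_cases (mul_mem (pr_mem_im h.le hk) (pr_mem_im h.le hk)) hcen with e | e
  · exfalso
    have hX := h.qq.uinv.eq_of_sq (Subgroup.mem_top ⟨pr z k, pr_mem_im h.le hk⟩)
      (Subtype.ext e) fun e1 => hne 1 (Or.inl rfl) (congrArg Subtype.val e1)
    exact hne _ (Or.inr rfl) (congrArg Subtype.val hX)
  · refine orderOf_four ?_ e
    rw [orderOf_pr h.z_mem (isTwo_of_order_two h.uinv.inv)]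
    exact h.uinv.inv

lemma triv_conj (h : Comp J z) {g : G} (hg : g ∈ C z) {x : G} (hx : x ∈ C z)
    (ht : Triv z J x) : Triv z (cj g J) (g * x * g⁻¹) := by
  rintro _ ⟨j, hj, rfl⟩
  show Commute (pr z (g * x * g⁻¹)) (pr z (g * j * g⁻¹))
  rw [pr_conj hg hx, pr_conj hg (h.le hj)]
  exact (ht j hj).map (MulAut.conj (pr z g)).toMonoidHom

end Comp

end Cfsg.Agent.IntrinsicPair
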