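import Cfsg.Agent.Lib.Components.IntrinsicPair.One

/-!
Part (ii): if `z` normalizes `K` then `t` normalizes `J`.
-/

set_option autoImplicit false
set_option linter.style.haveILetI false
set_option linter.unusedSectionVars false

namespace Cfsg.Agent.IntrinsicPair

open Subgroup
open Cfsg.Agent.Components.Basic

universe u

variable {G : Type u} [Group G] [Finite G]

lemma triv_qconj {K : Subgroup G} {t x : G} (hK : Comp K t) (hx : x ∈ C t) (h : Triv t K x)
    (g : G) : Triv (g * t * g⁻¹) (cj g K) (g * x * g⁻¹) := by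
  rintro _ ⟨j, hj, rfl⟩
  show Commute (pr (g * t * g⁻¹) (g * x * g⁻¹)) (pr (g * t * g⁻¹) (g * j * g⁻¹))
  rw [← qconj_pr g hx, ← qconj_pr g (hK.le hj)]
  exact (h j hj).map (qconj g t).toMonoidHom

/-- A power of order four of a lift of an element of order four. -/
lemma lift_four {z w : G} (hw : w ∈ C z) (h : orderOf (pr z w) = 4) :
    ∃ n : ℕ, orderOf (w ^ n) = 4 := by
  obtain ⟨q, hq⟩ := odd_of_pr_eq_one ((C z).pow_mem hw 4) (by
    rw [pr_pow hw, ← h]; exact pow_orderOf_eq_one _)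
  refine ⟨2 * q + 1, ?_⟩
  have h2 : IsTwo (w ^ (2 * q + 1)) := ⟨2, by
    rw [← pow_mul, mul_comm, pow_mul, show (2 : ℕ) ^ 2 = 4 from rfl, ← hq]
    exact pow_orderOf_eq_one _⟩
  rw [← orderOf_pr ((C z).pow_mem hw _) h2, pr_pow hw, orderOf_pow, h,
    show Nat.gcd 4 (2 * q + 1) = 1 from Nat.Coprime.pow_left 2 (Nat.coprime_two_left.mpr ⟨q, rfl⟩),
    Nat.div_one]

/-- An involution `u` trivial on `K` makes `t` trivial on the component `U` at `u`. -/
theorem transfer {U K : Subgroup G} {t u : G} (hK : Comp K t) (hU : Comp U u) (huC : u ∈ C t)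
    (htr : Triv t K u) : Triv u U t := by
  have huN := hK.norm_of_triv huC htr
  have hle : im t K ≤ im t (K ⊓ C u) := by
    intro q hq
    obtain ⟨j, hj, rfl⟩ := (mem_im hK.le).mp hq
    obtain ⟨o, ho, hoC, ho1, hc⟩ := commute_lift (hK.le hj) huC hU.uinv.inv (htr j hj).symm
    have hoK : o ∈ K := by
      refine zpowers_le.mpr ?_ ho
      rw [show j * u * j⁻¹ * u = j * (u * j⁻¹ * u) by group]
      refine K.mul_mem hj ?_
      have := (mem_normalizer_iff.mp huN j⁻¹).mp (K.inv_mem hj)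
      rwa [hU.uinv.inv_eq] at this
    have := pr_mem_im (J := K ⊓ C u) (inf_le_left.trans hK.le)
      (⟨K.mul_mem hoK hj, mem_C.mpr hc⟩ : o * j ∈ K ⊓ C u)
    rwa [pr_mul hoC (hK.le hj), ho1, one_mul] at this
  obtain ⟨W, hWM, hWp, hWim⟩ := exists_perfect (inf_le_left.trans hK.le)
    (component_commutator_self hK.component) hle
  have hWC : W ≤ C t := hWM.trans (inf_le_left.trans hK.le)
  have htW : t ∈ W := by
    obtain ⟨m, hm, he⟩ := (mem_im hWC).mp (hWim (pr_mem_im hK.le hK.uinv.mem))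
    obtain ⟨n, hn, -⟩ := lift_involution (hWC hm) (by
      rw [he, orderOf_pr hK.z_mem (isTwo_of_order_two hK.uinv.inv)]; exact hK.uinv.inv)
    exact hK.uinv.uniq _ (hWM (W.pow_mem hm n)).1 hn ▸ W.pow_mem hm n
  have htN : t ∈ normalizer (U : Set G) := by
    obtain ⟨T, hT, -⟩ := exists_syl_ge (IsPGroup.of_bot (p := 2) (G := G)) (bot_le : ⊥ ≤ C t)
    obtain ⟨i, hi, hi4⟩ := hK.exists_four_mem hT
    obtain ⟨w, hw, he⟩ := (mem_im hWC).mp (hWim (pr_mem_im hK.le hi.2))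
    obtain ⟨n, hn⟩ := lift_four (hWC hw) (by
      rw [he, orderOf_pr (hK.le hi.2) (isTwo_of_order_four hi4)]; exact hi4)
    have hwn := hWM (W.pow_mem hw n)
    rw [← hK.uinv.sq_of_four hwn.1 hn]
    have := normalizes hU hK hwn.1 (isTwo_of_order_four hn) hn.ge (mem_C.mp hwn.2)
    exact mul_mem this this
  refine hU.triv_of_central hWp (perfect_le_of_two hWp fun x hx hx2 => ?_) htW hK.uinv.mul_self
    fun w hw => (mem_C.mp (hWC hw)).symm
  by_cases hx1 : x = 1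
  · rw [hx1]; exact one_mem _
  by_cases hxt : x = t
  · rw [hxt]; exact htN
  obtain ⟨k, hk⟩ := hx2
  obtain ⟨m, hm⟩ := hK.uinv.exists_four (hWM hx).1 hk hx1 hxt
  refine normalizes hU hK (hWM hx).1 ⟨k, hk⟩ ?_ (mem_C.mp (hWM hx).2)
  rw [← hm]
  exact Nat.le_of_dvd (orderOf_pos x) (orderOf_pow_dvd m)

/-- The subgroup of `H` over `C(z̄)` inside `A B` is solvable. -/
lemma solvable_F' {A B : Subgroup G} {z t : G} (hA : Comp A t) (hB : Comp B t) (hne : A ≠ B)
    (hzA : z ∈ normalizer (A : Set G)) (hzB : z ∈ normalizer (B : Set G))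
    (hsA : Group.IsSolvable ((bar (hA.act ⟨z, hzA⟩)).toMonoidHom.eqLocus (MonoidHom.id _)))
    (hsB : Group.IsSolvable ((bar (hB.act ⟨z, hzB⟩)).toMonoidHom.eqLocus (MonoidHom.id _))) :
    ∃ F : Subgroup G, F ≤ H z t ∧ (F.subgroupOf (H z t)).IsSubnormal ∧ Group.IsSolvable F ∧
      ∀ x ∈ H z t, pr t x ∈ im t A ⊔ im t B → x ∈ F := by
  set E := im t A ⊔ im t B with hE
  have hEn : Cfsg.layer (Q t) ≤ normalizer (E : Set (Q t)) := fun g hg =>
    mem_normalizer_iff_map_conj_eq.mpr ((Subgroup.map_sup _ _ _).trans (congrArg₂ (· ⊔ ·)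
      (mem_normalizer_iff_map_conj_eq.mp (Components.Basic.layer_le_normalizer hA.component hg))
      (mem_normalizer_iff_map_conj_eq.mp (Components.Basic.layer_le_normalizer hB.component hg))))
  have hEs : E.IsSubnormal := IsSubnormal.trans
    (sup_le (le_layer hA.component) (le_layer hB.component))
    (normal_subgroupOf_of_le_normalizer hEn).isSubnormal
    (inferInstance : (Cfsg.layer (Q t)).Normal).isSubnormal
  set M := (E.comap (QuotientGroup.mk' (Cfsg.pPrimeCore 2 ↥(C t)))).map (C t).subtype with hM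
  have hMs : (M.subgroupOf (C t)).IsSubnormal := by
    rw [hM, subgroupOf, comap_map_eq_self_of_injective (C t).subtype_injective]
    exact hEs.comap _
  refine ⟨M ⊓ H z t, inf_le_right, subnormal_inf hMs inf_le_right, ?_,
    fun x hx hxE => ⟨⟨⟨x, hx.2⟩, ?_, rfl⟩, hx⟩⟩
  swap
  · rw [SetLike.mem_coe, Subgroup.mem_comap, ← pr_mk hx.2]
    exact hxE
  set Zq := pr t z
  have key : ∀ {S : Subgroup G} (hS : Comp S t) (hzS : z ∈ normalizer (S : Set G)),
      Group.IsSolvable ((bar (hS.act ⟨z, hzS⟩)).toMonoidHom.eqLocus (MonoidHom.id _)) →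
      ∃ N : Subgroup (Q t), Group.IsSolvable N ∧ N ≤ im t S ∧ ∀ d ∈ im t S,
        (d⁻¹ * (Zq * d * Zq⁻¹) = 1 ∨ d⁻¹ * (Zq * d * Zq⁻¹) = pr t t) → d ∈ N := by
    intro S hS hzS hsol
    set τ := hS.act ⟨z, hzS⟩
    set X := ↥(im t S)
    set π := QuotientGroup.mk' (Subgroup.center X)
    haveI := hsol
    set Np := ((bar τ).toMonoidHom.eqLocus (MonoidHom.id (X ⧸ Subgroup.center X))).comap π
    haveI : Group.IsSolvable Np := by
      haveI : Group.IsSolvable ↥((Subgroup.center X).subgroupOf Np) :=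
        Group.isSolvable_of_comm fun x y => Subtype.ext (Subtype.ext
          (mem_center_iff.mp (show ((y : Np) : X) ∈ Subgroup.center X from y.2) x))
      refine Group.isSolvable_of_ker_le_range ((Subgroup.center X).subgroupOf Np).subtype
        (π.subgroupComap _) fun x hx => ?_
      rw [range_subtype, mem_subgroupOf, ← QuotientGroup.eq_one_iff]
      exact congrArg Subtype.val (MonoidHom.mem_ker.mp hx)
    refine ⟨Np.map (im t S).subtype,
      Group.isSolvable_of_surjective ((im t S).subtype.subgroupMap_surjective Np), map_subtype_le _,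
      fun d hd hc => ⟨⟨d, hd⟩, ?_, rfl⟩⟩
    set dX : X := ⟨d, hd⟩
    show bar τ (π dX) = π dX
    have h1 : π (dX⁻¹ * τ dX) = 1 := by
      refine hS.qq.mk_eq_one.mpr (hc.imp (fun e => Subtype.ext ?_) fun e => Subtype.ext ?_) <;>
        · show d⁻¹ * (hS.act ⟨z, hzS⟩ ⟨d, hd⟩ : Q t) = _
          rw [hS.act_apply]; exact e
    rw [map_mul, map_inv, inv_mul_eq_one] at h1
    exact h1.symm
  obtain ⟨N1, hN1, hN1le, hN1m⟩ := key hA hzA hsA
  obtain ⟨N2, hN2, hN2le, hN2m⟩ := key hB hzB hsB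
  have hcc : ∀ p ∈ im t A, ∀ q ∈ im t B, Commute p q := fun p hp q hq => by
    obtain ⟨j, hj, rfl⟩ := (mem_im hA.le).mp hp
    obtain ⟨j', hj', rfl⟩ := (mem_im hB.le).mp hq
    exact hA.comm_of_ne hB hne hj hj'
  haveI hNs : Group.IsSolvable ↥(N1 ⊔ N2) :=
    isSolvable_sup hN1 hN2 fun p hp q hq => hcc p (hN1le hp) q (hN2le hq)
  have hZc : ∀ {S : Subgroup G}, Comp S t → z ∈ normalizer (S : Set G) → ∀ d ∈ im t S,
      Zq * d * Zq⁻¹ ∈ im t S := by
    intro S hS hzS d hd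
    have := hS.act_apply ⟨z, hzS⟩ ⟨d, hd⟩
    rw [← this]
    exact (hS.act ⟨z, hzS⟩ ⟨d, hd⟩).2
  set F := M ⊓ H z t
  have hFC : ∀ x : F, (x : G) ∈ C t := fun x => x.2.2.2
  let ψ : F →* Q t := MonoidHom.mk' (fun x => pr t x) fun p q => pr_mul (hFC p) (hFC q)
  have hrange : ψ.range ≤ N1 ⊔ N2 := by
    rintro _ ⟨⟨x, hxM, hxz, hxt⟩, rfl⟩
    show pr t x ∈ N1 ⊔ N2
    obtain ⟨⟨x', hx'C⟩, hx', rfl⟩ := hxM
    have hxE : pr t x' ∈ (↑E : Set (Q t)) := by rw [pr_mk hx'C]; exact hx'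
    rw [hE, coe_mul_of_right_le_normalizer_left] at hxE
    swap
    · exact le_trans (fun q hq => mem_centralizer_iff.mpr fun p hp => (hcc p hp q hq).eq)
        (centralizer_le_normalizer _)
    obtain ⟨d, hd, d', hd', he⟩ := hxE
    have he' : d * d' = pr t x' := he
    have hxz' : x' ∈ C z := hxz
    have hzC : z ∈ C t := hA.norm_le hzA
    have hcomm : (Zq * d * Zq⁻¹) * (Zq * d' * Zq⁻¹) = d * d' := by
      have h1 : Zq * pr t x' * Zq⁻¹ = pr t x' := by
        rw [← pr_conj hzC hx'C, (mem_C.mp hxz').eq.symm, mul_inv_cancel_right]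
      rw [← he'] at h1
      conv_rhs => rw [← h1]
      group
    have hdd : d⁻¹ * (Zq * d * Zq⁻¹) = d' * (Zq * d' * Zq⁻¹)⁻¹ := by
      rw [inv_mul_eq_iff_eq_mul, ← mul_assoc, eq_mul_inv_iff_mul_eq]; exact hcomm
    have hw1 : d⁻¹ * (Zq * d * Zq⁻¹) ∈ im t A := mul_mem (inv_mem hd) (hZc hA hzA d hd)
    have hw2 : d' * (Zq * d' * Zq⁻¹)⁻¹ ∈ im t B := mul_mem hd' (inv_mem (hZc hB hzB d' hd'))
    have hcases : d⁻¹ * (Zq * d * Zq⁻¹) = 1 ∨ d⁻¹ * (Zq * d * Zq⁻¹) = pr t t :=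
      hA.central_cases hw1 fun j hj => hdd ▸ (hcc _ (pr_mem_im hA.le hj) _ hw2).symm
    have hcases' : d'⁻¹ * (Zq * d' * Zq⁻¹) = 1 ∨ d'⁻¹ * (Zq * d' * Zq⁻¹) = pr t t := by
      have e0 : d'⁻¹ * (Zq * d' * Zq⁻¹) = d'⁻¹ * (d' * (Zq * d' * Zq⁻¹)⁻¹)⁻¹ * d' := by group
      rcases hcases with e | e <;> rw [hdd] at e <;> rw [e0, e]
      · left; group
      · right
        have hz : pr t t * d' = d' * pr t t := by
          obtain ⟨j', hj', rfl⟩ := (mem_im hB.le).mp hd'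
          rw [← pr_mul hA.z_mem (hB.le hj'), ← pr_mul (hB.le hj') hA.z_mem,
            (mem_C.mp (hB.le hj')).eq]
        rw [← pr_inv hA.z_mem, hA.uinv.inv_eq, mul_assoc, hz, inv_mul_cancel_left]
    rw [show pr t ((C t).subtype ⟨x', hx'C⟩) = pr t x' from rfl, ← he']
    exact mul_mem (mem_sup_left (hN1m d hd hcases)) (mem_sup_right (hN2m d' hd' hcases'))
  haveI : Group.IsSolvable ψ.ker := by
    refine S0205.result ?_
    rw [← Nat.coprime_two_right, Nat.coprime_comm, Nat.prime_two.coprime_iff_not_dvd]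
    intro h2
    obtain ⟨⟨⟨k, hkF⟩, hkk⟩, hko⟩ := exists_prime_orderOf_dvd_card' (G := ψ.ker) 2 h2
    rw [Subgroup.orderOf_mk, Subgroup.orderOf_mk] at hko
    exact Involutions.Basic.ne_one hko
      (two_eq_one_of_pr (hFC ⟨k, hkF⟩) (isTwo_of_order_two hko) hkk)
  haveI : Group.IsSolvable ψ.range := Group.isSolvable_of_isSolvable_injective
    (f := Subgroup.inclusion hrange) (Subgroup.inclusion_injective hrange)
  exact Group.isSolvable_of_ker_le_range ψ.ker.subtype ψ.rangeRestrict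
    (by rw [MonoidHom.ker_rangeRestrict, range_subtype])

/-- Part (ii). -/
theorem normalizes_symm {J K : Subgroup G} {z t : G} (hJ : Comp J z) (hK : Comp K t)
    (hzK : z ∈ normalizer (K : Set G)) : t ∈ normalizer (J : Set G) := by
  by_cases hne : z = t
  · exact hne ▸ le_normalizer hJ.uinv.mem
  have hzt : Commute z t := hK.uinv.comm hzK
  have htC : t ∈ C z := mem_C.mpr hzt.symm
  have hzC : z ∈ C t := mem_C.mpr hzt
  have z2 := hJ.uinv.mul_self
  have t2 := hK.uinv.mul_self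
  by_contra htJ
  -- 2-elements of components at `t` centralizing `z`
  have hP : ∀ K' : Subgroup G, Comp K' t → ∀ x ∈ K', IsTwo x → Commute x z → x = 1 ∨ x = t := by
    intro K' hK' x hx hx2 hxz
    by_contra hn
    push Not at hn
    obtain ⟨k, hk⟩ := hx2
    obtain ⟨m, hm⟩ := hK'.uinv.exists_four hx hk hn.1 hn.2
    refine htJ ?_
    rw [← hK'.uinv.sq_of_four (K'.pow_mem hx m) hm]
    have := normalizes hJ hK' (K'.pow_mem hx m) (isTwo_of_order_four hm) hm.ge (hxz.pow_left m)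
    exact mul_mem this this
  have hfix : ∀ K' : Subgroup G, ∀ (hK' : Comp K' t) (hz' : z ∈ normalizer (K' : Set G)),
      Group.IsSolvable ((bar (hK'.act ⟨z, hz'⟩)).toMonoidHom.eqLocus (MonoidHom.id _)) := by
    intro K' hK' hz'
    refine hK'.qq.solvable_fix _ ?_
    rintro ⟨q, hq⟩ hfx ⟨k, hk⟩
    obtain ⟨j, hj, rfl⟩ := (mem_im hK'.le).mp hq
    have h1 : pr t z * pr t j * (pr t z)⁻¹ = pr t j := by
      have := congrArg Subtype.val hfx
      rwa [hK'.act_apply] at this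
    obtain ⟨o, ho, hoC, ho1, hc⟩ := commute_lift (hK'.le hj) hzC hJ.uinv.inv
      (mul_inv_eq_iff_eq_mul.mp h1 : pr t z * pr t j = pr t j * pr t z).symm
    have hoK : o ∈ K' := by
      refine zpowers_le.mpr ?_ ho
      rw [show j * z * j⁻¹ * z = j * (z * j⁻¹ * z) by group]
      refine K'.mul_mem hj ?_
      have := (mem_normalizer_iff.mp hz' j⁻¹).mp (K'.inv_mem hj)
      rwa [hJ.uinv.inv_eq] at this
    set k' := o * j
    have hk'K : k' ∈ K' := K'.mul_mem hoK hj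
    have hpk : pr t k' = pr t j := by rw [pr_mul hoC (hK'.le hj), ho1, one_mul]
    have hk' : pr t j ^ 2 ^ k = 1 := congrArg Subtype.val hk
    obtain ⟨q2, hq2⟩ := odd_of_pr_eq_one ((C t).pow_mem (hK'.le hk'K) (2 ^ k))
      (by rw [pr_pow (hK'.le hk'K), hpk, hk'])
    set c0 := 2 * q2 + 1
    have hx2 : IsTwo (k' ^ c0) := ⟨k, by
      rw [← pow_mul, mul_comm, pow_mul, show c0 = orderOf (k' ^ 2 ^ k) from hq2.symm]
      exact pow_orderOf_eq_one _⟩
    obtain ⟨m, hm⟩ := exists_pow_eq_self_of_coprime (x := pr t j) (n := c0)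
      (Nat.Coprime.coprime_dvd_right (orderOf_dvd_of_pow_eq_one hk')
        (Nat.Coprime.pow_right k (Nat.coprime_two_right.mpr ⟨q2, rfl⟩)))
    have hxc : pr t (k' ^ c0) = pr t j ^ c0 := by rw [pr_pow (hK'.le hk'K), hpk]
    rcases hP K' hK' _ (K'.pow_mem hk'K c0) hx2
      ((mem_C.mp (mem_C.mpr hc : k' ∈ C z)).pow_left c0) with e | e
    · left
      refine Subtype.ext ?_
      show pr t j = 1
      rw [← hm, ← hxc, e, pr_one, one_pow]
    · have h2 : pr t t * pr t t = 1 := by rw [← pr_mul hK'.z_mem hK'.z_mem, t2, pr_one]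
      rcases Nat.even_or_odd' m with ⟨r, rfl | rfl⟩
      · left
        refine Subtype.ext ?_
        show pr t j = 1
        rw [← hm, ← hxc, e, pow_mul, sq, h2, one_pow]
      · right
        refine Subtype.ext ?_
        show pr t j = pr t t
        rw [← hm, ← hxc, e, pow_succ, pow_mul, sq, h2, one_pow, one_mul]
  obtain ⟨R, hR, -⟩ := exists_syl_ge (IsPGroup.of_bot (p := 2) (G := G)) (bot_le : ⊥ ≤ H z t)
  have htR : t ∈ R := hR.central_mem ⟨htC, self_mem_C t⟩ (isTwo_of_order_two hK.uinv.inv)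
    fun _ hr => (mem_C.mp (hR.le hr).2).symm
  have hzR : z ∈ R := hR.central_mem ⟨self_mem_C z, hzC⟩ (isTwo_of_order_two hJ.uinv.inv)
    fun _ hr => (mem_C.mp (hR.le hr).1).symm
  obtain ⟨T, hT, hRT⟩ := exists_syl_ge hR.two (hR.le.trans inf_le_left)
  obtain ⟨T2, hT2, hRT2⟩ := exists_syl_ge hR.two (hR.le.trans inf_le_right)
  -- `z` moves some `n`
  have hS2 := hK.syl_inf hT2
  obtain ⟨n, hn, hzn⟩ := exists_n (hK.syl_uinv hT2) hS2.two z2
    (mem_norm_inf (le_normalizer (hRT2 hzR)) hzK) fun hc => by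
      obtain ⟨x, hx, y, hy, hxy⟩ := exists_noncommute (hK.syl_uinv hT2) hS2.two
        (hK.syl_not_cyclic hS2)
      rcases hP K hK x hx.2 (isTwo_of_pgroup hS2.two hx) (hc x hx).symm with e | e <;> rw [e] at hxy
      · exact hxy (by rw [one_mul, mul_one])
      · exact hxy (mem_C.mp (hK.le hy.2)).eq.symm
  obtain ⟨hnz, -⟩ := moved_facts hzt (mem_C.mp (hK.le hn.2)) t2 hzn
  -- `i`, `u`
  have hmov : cj t J ≠ J := fun e => htJ (mem_norm_iff.mpr e)
  have hJt := hJ.conj_of_mem htC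
  obtain ⟨i, hi, hi4⟩ := hJ.exists_four_mem hT
  set i' := t * i * t⁻¹ with hi'
  have hi'J : i' ∈ cj t J := conj_mem_cj hi.2
  have hi'T : i' ∈ T := T.mul_mem (T.mul_mem (hRT htR) hi.1) (T.inv_mem (hRT htR))
  have hcom := hJ.commute_exact hJt (Ne.symm hmov) hT.two hT.le hi.1 hi.2 hi'T hi'J
  have hi'sq : i' * i' = z :=
    hJt.uinv.sq_of_four hi'J (by rw [hi', Involutions.Basic.orderOf_conj]; exact hi4)
  set u := i * i' with hu
  have huord : orderOf u = 2 := Involutions.Basic.orderOf_two_iff.mpr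
    ⟨hJ.mul_involution hi.2 hi4 hcom hi'sq, hJ.mul_ne_one hJt (Ne.symm hmov) hi.2 hi'J hi4⟩
  have hiz : Commute i z := mem_C.mp (hJ.le hi.2)
  have hit : i⁻¹ * t * i = z * u * t := by
    calc i⁻¹ * t * i = i⁻¹ * i' * t := by rw [hi']; group
      _ = (z * i) * i' * t := by rw [hJ.uinv.four_inv hi.2 hi4, hiz.eq]
      _ = z * u * t := by rw [hu]; group
  have huC : u ∈ C z := (C z).mul_mem (hJ.le hi.2) (hJt.le hi'J)
  have huCt : u ∈ C t := mem_C.mpr (Commute.symm (by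
    refine mul_inv_eq_iff_eq_mul.mp ?_
    rw [hu, show t * (i * i') * t⁻¹ = i' * ((t * t) * i * (t * t)⁻¹) by rw [hi']; group, t2,
      one_mul, inv_one, mul_one, hcom.eq]))
  have hS := hJ.syl_inf hT
  obtain ⟨β, hβ, -, hβi⟩ := exists_inverting (hJ.syl_uinv hT) hS.two (hJ.syl_not_cyclic hS) hi hi4
  have hβi' := hJ.commute_exact hJt (Ne.symm hmov) hT.two hT.le hβ.1 hβ.2 hi'T hi'J
  have hβu : β * u * β⁻¹ = z * u := by
    rw [hu, show β * (i * i') * β⁻¹ = (β * i * β⁻¹) * (β * i' * β⁻¹) by group, hβi, hβi'.eq,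
      mul_inv_cancel_right, hJ.uinv.four_inv hi.2 hi4, hiz.eq, mul_assoc]
  -- the perfect group `L`
  obtain ⟨R0, hR0a, hR0c, hR0m⟩ := hJ.diag_component htC hK.uinv.inv hmov
  have hR0p : ⁅R0, R0⁆ = R0 := by
    have := congrArg (Subgroup.map (centralizer ({pr z t} : Set (Q z))).subtype)
      (component_commutator_self hR0c)
    rwa [map_commutator, map_subgroupOf_eq_of_le hR0a] at this
  set M := (R0.comap (QuotientGroup.mk' (Cfsg.pPrimeCore 2 ↥(C z)))).map (C z).subtype ⊓ H z t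
  have hR0M : R0 ≤ im z M := by
    intro q hq
    obtain ⟨x, hx, rfl⟩ := pr_surj q
    obtain ⟨o, -, hoC, ho1, hc⟩ :=
      commute_lift hx htC hK.uinv.inv (mem_centralizer_singleton_iff.mp (hR0a hq))
    have hox : o * x ∈ M := by
      refine ⟨⟨⟨o * x, (C z).mul_mem hoC hx⟩, ?_, rfl⟩, (C z).mul_mem hoC hx, mem_C.mpr hc⟩
      rw [SetLike.mem_coe, Subgroup.mem_comap, ← pr_mk ((C z).mul_mem hoC hx), pr_mul hoC hx, ho1,
        one_mul]
      exact hq
    have := pr_mem_im (J := M) (inf_le_right.trans inf_le_left) hox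
    rwa [pr_mul hoC hx, ho1, one_mul] at this
  obtain ⟨L, hLM, hLp, hR0L⟩ := exists_perfect (inf_le_right.trans inf_le_left) hR0p hR0M
  have hLH : L ≤ H z t := hLM.trans inf_le_right
  have hLR : ∀ l ∈ L, pr z l ∈ R0 := fun l hl => by
    obtain ⟨⟨l', hl'C⟩, hl', rfl⟩ := (hLM hl).1
    show pr z l' ∈ R0
    rw [pr_mk hl'C]
    exact hl'
  -- `L` normalizes `K`
  have hLN : L ≤ normalizer (K : Set G) := by
    refine perfect_le_or hLp fun x hx y hy hxK hyK => ?_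
    by_contra hxyK
    have hmem : ∀ {g : G}, g ∉ normalizer (K : Set G) → K ≠ cj g K :=
      fun h e => h (mem_norm_iff.mpr e.symm)
    have hKy := hK.conj_of_mem (hLH hy).2
    have hKx := hK.conj_of_mem (hLH hx).2
    have hKxy := hK.conj_of_mem ((C t).mul_mem (hLH hx).2 (hLH hy).2)
    have hzy : z ∈ normalizer (cj y K : Set G) := by
      refine mem_norm_iff.mpr ?_
      rw [← cj_mul, (mem_C.mp (hLH hy).1).eq.symm, cj_mul, mem_norm_iff.mp hzK]
    obtain ⟨F, hFH, hFs, hFsol, hFmem⟩ := solvable_F' hK hKy (hmem hyK) hzK hzy (hfix K hK hzK)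
      (hfix _ hKy hzy)
    set q := n * (y * n * y⁻¹)⁻¹ with hq
    have hnC : n ∈ C t := hK.le hn.2
    have hnyC : y * n * y⁻¹ ∈ C t := hKy.le (conj_mem_cj hn.2)
    have hqC : q ∈ C t := (C t).mul_mem hnC ((C t).inv_mem hnyC)
    have hzny : z * (y * n * y⁻¹) * z⁻¹ = y * n * y⁻¹ * t := by
      rw [show z * (y * n * y⁻¹) * z⁻¹ = (z * y) * n * (z * y)⁻¹ by group,
        (mem_C.mp (hLH hy).1).eq.symm,
        show y * z * n * (y * z)⁻¹ = y * (z * n * z⁻¹) * y⁻¹ by group, hzn, mul_assoc y,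
        mul_assoc n t, ((mem_C.mp (hLH hy).2).symm.inv_right).eq]
      group
    have hqz : q ∈ C z := by
      refine mem_C.mpr (Commute.symm (mul_inv_eq_iff_eq_mul.mp ?_))
      rw [hq, show z * (n * (y * n * y⁻¹)⁻¹) * z⁻¹ = (z * n * z⁻¹) * (z * (y * n * y⁻¹) * z⁻¹)⁻¹
        by group, hzn, hzny, mul_inv_rev, mul_assoc n t, mul_inv_cancel_left]
    have hqF : q ∈ F := hFmem q ⟨hqz, hqC⟩ (by
      rw [hq, pr_mul hnC ((C t).inv_mem hnyC), pr_inv hnyC]
      exact mul_mem (mem_sup_left (pr_mem_im hK.le hn.2))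
        (inv_mem (mem_sup_right (pr_mem_im hKy.le (conj_mem_cj hn.2)))))
    have hcq := cen_solvable htC hK.uinv.inv hR0a hR0c hFH hFs hFsol _ (hLR x hx) q hqF
    set x2 := q⁻¹ * (x * q * x⁻¹) with hx2
    have hxC : x ∈ C z := (hLH hx).1
    have hx2z : x2 ∈ C z :=
      (C z).mul_mem ((C z).inv_mem hqz) ((C z).mul_mem ((C z).mul_mem hxC hqz) ((C z).inv_mem hxC))
    have hodd : Odd (orderOf x2) := odd_of_pr_eq_one hx2z (by
      rw [hx2, pr_mul ((C z).inv_mem hqz) ((C z).mul_mem ((C z).mul_mem hxC hqz) ((C z).inv_mem hxC)),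
        pr_inv hqz, pr_conj hxC hqz, hcq.eq, mul_inv_cancel_right, inv_mul_cancel])
    set P1 := y * n * y⁻¹
    set P2 := x * n * x⁻¹
    set P3 := (x * y) * n * (x * y)⁻¹
    have hx2eq : x2 = P1 * n⁻¹ * P2 * P3⁻¹ := by simp only [hx2, hq, P1, P2, P3]; group
    have hP2C : P2 ∈ C t := hKx.le (conj_mem_cj hn.2)
    have hP3C : P3 ∈ C t := hKxy.le (conj_mem_cj hn.2)
    have hx2C : x2 ∈ C t := hx2eq ▸
      (C t).mul_mem ((C t).mul_mem ((C t).mul_mem hnyC ((C t).inv_mem hnC)) hP2C) ((C t).inv_mem hP3C)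
    have hkey : ∀ j ∈ K, pr t x2 * pr t j * (pr t x2)⁻¹ = pr t n⁻¹ * pr t j * (pr t n⁻¹)⁻¹ := by
      intro j hj
      have c2 : Commute (pr t j) (pr t P2) := hK.comm_of_ne hKx (hmem hxK) hj (conj_mem_cj hn.2)
      have c3 : Commute (pr t j) (pr t P3) := hK.comm_of_ne hKxy (hmem hxyK) hj (conj_mem_cj hn.2)
      have c1 : Commute (pr t n⁻¹ * pr t j * (pr t n⁻¹)⁻¹) (pr t P1) := by
        rw [← pr_conj ((C t).inv_mem hnC) (hK.le hj)]
        exact hK.comm_of_ne hKy (hmem hyK)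
          (K.mul_mem (K.mul_mem (K.inv_mem hn.2) hj) (K.inv_mem (K.inv_mem hn.2))) (conj_mem_cj hn.2)
      rw [hx2eq, pr_mul ((C t).mul_mem ((C t).mul_mem hnyC ((C t).inv_mem hnC)) hP2C)
          ((C t).inv_mem hP3C),
        pr_mul ((C t).mul_mem hnyC ((C t).inv_mem hnC)) hP2C, pr_mul hnyC ((C t).inv_mem hnC),
        pr_inv hP3C]
      calc pr t P1 * pr t n⁻¹ * pr t P2 * (pr t P3)⁻¹ * pr t j *
            (pr t P1 * pr t n⁻¹ * pr t P2 * (pr t P3)⁻¹)⁻¹
          = pr t P1 * pr t n⁻¹ * pr t P2 * ((pr t P3)⁻¹ * pr t j * pr t P3) * (pr t P2)⁻¹ *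
              (pr t n⁻¹)⁻¹ * (pr t P1)⁻¹ := by group
        _ = pr t P1 * pr t n⁻¹ * (pr t P2 * pr t j * (pr t P2)⁻¹) * (pr t n⁻¹)⁻¹ * (pr t P1)⁻¹ := by
            rw [mul_assoc (pr t P3)⁻¹, c3.eq, inv_mul_cancel_left]; group
        _ = pr t P1 * (pr t n⁻¹ * pr t j * (pr t n⁻¹)⁻¹) * (pr t P1)⁻¹ := by
            rw [c2.symm.eq, mul_inv_cancel_right]; group
        _ = pr t n⁻¹ * pr t j * (pr t n⁻¹)⁻¹ := by rw [c1.symm.eq, mul_inv_cancel_right]
    have hniN : n⁻¹ ∈ normalizer (K : Set G) := le_normalizer (K.inv_mem hn.2)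
    have hx2N : x2 ∈ normalizer (K : Set G) := mem_norm_iff.mpr (hK.cj_of_pr hx2C fun j hj => by
      rw [hkey j hj, ← pr_conj ((C t).inv_mem hnC) (hK.le hj)]
      exact pr_mem_im hK.le ((mem_normalizer_iff.mp hniN j).mp hj))
    have hact : hK.act ⟨x2, hx2N⟩ = hK.act ⟨n⁻¹, hniN⟩ := by
      ext ⟨p, hp⟩
      obtain ⟨j, hj, rfl⟩ := (mem_im hK.le).mp hp
      rw [hK.act_apply, hK.act_apply]
      exact hkey j hj
    set m := orderOf x2
    have hnm : hK.act (⟨n⁻¹, hniN⟩ ^ m) = 1 := by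
      rw [map_pow, ← hact, ← map_pow,
        show (⟨x2, hx2N⟩ : normalizer (K : Set G)) ^ m = 1 from Subtype.ext (pow_orderOf_eq_one x2),
        map_one]
    have htr : Triv t K ((n⁻¹) ^ m) := hK.act_eq_one.mp hnm
    have hni2 : IsTwo n⁻¹ := isTwo_of_pgroup hS2.two (inv_mem hn)
    obtain ⟨k, hk⟩ := hni2
    obtain ⟨r, hr⟩ := exists_pow_eq_self_of_coprime (x := n⁻¹) (n := m)
      (Nat.Coprime.coprime_dvd_right (orderOf_dvd_of_pow_eq_one hk)
        (Nat.Coprime.pow_right k (Nat.coprime_two_right.mpr hodd)))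
    have hcase : (n⁻¹) ^ m = 1 ∨ (n⁻¹) ^ m = t := by
      by_contra hn'
      push Not at hn'
      exact hK.not_triv (K.pow_mem (K.inv_mem hn.2) m) (IsTwo.pow ⟨k, hk⟩ m) hn'.1 hn'.2 htr
    have hnt : Commute z n⁻¹ := by
      rw [← hr]
      rcases hcase with e | e <;> rw [e]
      · exact (Commute.one_right z).pow_right r
      · exact hzt.pow_right r
    have hzn' : z * n * z⁻¹ = n := by
      have h1 : Commute z n := by simpa using hnt.inv_right
      rw [h1.eq, mul_inv_cancel_right]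
    exact Involutions.Basic.ne_one hK.uinv.inv (mul_eq_left.mp (hzn.symm.trans hzn'))
  -- `L` is trivial on `K`
  have hLtriv : ∀ l ∈ L, Triv t K l := by
    intro l hl
    have hL' : _root_.commutator L = ⊤ := Subgroup.map_injective L.subtype_injective (by
      rw [Subgroup.map_subtype_commutator, hLp, ← MonoidHom.range_eq_map, range_subtype])
    exact hK.act_eq_one.mp (hK.qq.trivial_of_commute (τ := hK.act ⟨z, hzK⟩) (hfix K hK hzK) hL'
      (hK.act.comp (Subgroup.inclusion hLN))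
      (fun w => Commute.map (show Commute (⟨z, hzK⟩ : normalizer (K : Set G)) (Subgroup.inclusion hLN w)
        from Subtype.ext (mem_C.mp (hLH w.2).1).eq.symm) hK.act) ⟨l, hl⟩)
  -- adjust `u` into `L`
  obtain ⟨l, hl, hlu⟩ := (mem_im (hLH.trans inf_le_left)).mp
    (hR0L ((hR0m _).mpr ⟨i, hi.2, rfl⟩))
  obtain ⟨m, hm, hm'⟩ := lift_involution (hLH hl).1 (by
    rw [hlu, orderOf_pr huC (isTwo_of_order_two huord)]; exact huord)
  set u0 := l ^ m
  have hu0L : u0 ∈ L := L.pow_mem hl m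
  have hu0C : u0 ∈ C z := (hLH hu0L).1
  have hu0Ct : u0 ∈ C t := (hLH hu0L).2
  obtain ⟨o, ho, hoC, ho1, hoe⟩ := conj_of_pr_eq huC hu0C huord hm (hlu.symm.trans hm'.symm)
  have hoCt : o ∈ C t := zpowers_le.mpr ((C t).mul_mem huCt hu0Ct) ho
  have hoz := conj_eq_of_mem_C hoC
  have hot := conj_eq_of_mem_C hoCt
  set i1 := o * i * o⁻¹ with hi1
  set β1 := o * β * o⁻¹ with hβ1
  have hi1t : i1⁻¹ * t * i1 = z * u0 * t := by
    calc i1⁻¹ * t * i1 = i1⁻¹ * (o * t * o⁻¹) * i1 := by rw [hot]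
      _ = o * (i⁻¹ * t * i) * o⁻¹ := by rw [hi1]; group
      _ = (o * z * o⁻¹) * (o * u * o⁻¹) * (o * t * o⁻¹) := by rw [hit]; group
      _ = z * u0 * t := by rw [hoz, hoe, hot]
  have hi1u : Commute i1 u0 := by
    rw [hi1, ← hoe]
    exact (((Commute.refl i).mul_right hcom)).map (MulAut.conj o).toMonoidHom
  have hβ1u : β1 * u0 * β1⁻¹ = z * u0 := by
    rw [hβ1, ← hoe, show o * β * o⁻¹ * (o * u * o⁻¹) * (o * β * o⁻¹)⁻¹ =
      o * (β * u * β⁻¹) * o⁻¹ by group, hβu, show o * (z * u) * o⁻¹ =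
      (o * z * o⁻¹) * (o * u * o⁻¹) by group, hoz]
  have hu0J : ¬ Triv z J u0 := by
    intro htr
    refine hJ.not_triv_four hi.2 hi4 fun j hj => ?_
    have h1 : pr z u = pr z u0 := hlu.symm.trans hm'.symm
    have h2 : pr z i = pr z u0 * (pr z i')⁻¹ := by
      rw [← h1, hu, pr_mul (hJ.le hi.2) (hJt.le hi'J), mul_inv_cancel_right]
    rw [h2]
    exact (htr j hj).mul_left (hJ.comm_of_ne hJt (Ne.symm hmov) hj hi'J).symm.inv_left
  have hu0t : u0 ≠ t := by
    intro e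
    refine htJ (hJ.layer_inner htC ?_).1
    rw [← e, show pr z u0 = pr z u from hm'.trans hlu, hu, pr_mul (hJ.le hi.2) (hJt.le hi'J)]
    exact mul_mem (hJ.mem_layer hi.2) (hJt.mem_layer hi'J)
  -- conjugation by `n`
  have hnC : n ∈ C t := hK.le hn.2
  set u1 := n * u0 * n⁻¹ with hu1
  have hnt' := conj_eq_of_mem_C hnC
  have hu1Ct : u1 ∈ C t := (C t).mul_mem ((C t).mul_mem hnC hu0Ct) ((C t).inv_mem hnC)
  have hu1C : u1 ∈ C z := by
    have h1 := mem_C_conj n hu0C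
    rw [hnz] at h1
    refine mem_C.mpr ?_
    have := (mem_C.mp h1).mul_right (mem_C.mp hu1Ct)
    rwa [show z * t * t = z by rw [mul_assoc, t2, mul_one]] at this
  have hu1pr : pr t u1 = pr t u0 := by
    rw [hu1, pr_conj hnC hu0Ct, (hLtriv u0 hu0L n hn.2).eq.symm, mul_inv_cancel_right]
  obtain ⟨o2, ho2, ho2Ct, -, ho2e⟩ := conj_of_pr_eq hu1Ct hu0Ct
    (by rw [hu1, Involutions.Basic.orderOf_conj]; exact hm) hm hu1pr
  have ho2C : o2 ∈ C z := zpowers_le.mpr ((C z).mul_mem hu1C hu0C) ho2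
  have hβ1C : β1 ∈ C z := (C z).mul_mem ((C z).mul_mem hoC (hJ.le hβ.2)) ((C z).inv_mem hoC)
  set h := β1 * o2 * n * i1⁻¹ with hh
  have hhu : h * t * h⁻¹ = u0 := by
    calc h * t * h⁻¹ = β1 * (o2 * (n * (i1⁻¹ * t * i1) * n⁻¹) * o2⁻¹) * β1⁻¹ := by rw [hh]; group
      _ = β1 * (o2 * ((n * z * n⁻¹) * u1 * (n * t * n⁻¹)) * o2⁻¹) * β1⁻¹ := by
          rw [hi1t, hu1]; group
      _ = β1 * (o2 * (z * u1) * o2⁻¹) * β1⁻¹ := by
          rw [hnz, hnt', mul_assoc z t, (mem_C.mp hu1Ct).eq.symm, ← mul_assoc z,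
            mul_assoc (z * u1), t2, mul_one]
      _ = β1 * ((o2 * z * o2⁻¹) * (o2 * u1 * o2⁻¹)) * β1⁻¹ := by group
      _ = (β1 * z * β1⁻¹) * (β1 * u0 * β1⁻¹) := by
          rw [conj_eq_of_mem_C ho2C, ho2e]; group
      _ = u0 := by rw [conj_eq_of_mem_C hβ1C, hβ1u, ← mul_assoc, z2, one_mul]
  have hU : Comp (cj h K) u0 := hhu ▸ hK.conj h
  set U := cj h K
  have hUt : Triv u0 U t := transfer hK hU hu0Ct (hLtriv u0 hu0L)
  set tt := i1⁻¹ * t * i1 with htt
  have hK2 : Comp (cj i1⁻¹ K) tt := by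
    have := hK.conj i1⁻¹
    rwa [inv_inv] at this
  have hK2t : Triv tt (cj i1⁻¹ K) u0 := by
    have := triv_qconj hK hu0Ct (hLtriv u0 hu0L) i1⁻¹
    rwa [inv_inv, show i1⁻¹ * u0 * i1 = u0 by
      rw [mul_assoc, hi1u.eq.symm, inv_mul_cancel_left]] at this
  have hu0tt : u0 ∈ C tt := by
    rw [hi1t]
    exact mem_C.mpr (((mem_C.mp hu0C).mul_right (Commute.refl u0)).mul_right (mem_C.mp hu0Ct))
  have hUtt : Triv u0 U tt := transfer hK2 hU hu0tt hK2t
  have hUz : Triv u0 U z := by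
    intro j hj
    have hz : z = tt * u0 * t := by
      rw [hi1t, mul_assoc (z * u0) t u0, (mem_C.mp hu0Ct).eq.symm, ← mul_assoc (z * u0) u0 t,
        mul_assoc z u0 u0, Involutions.Basic.inv_sq_one hm, mul_one, mul_assoc, t2, mul_one]
    have htC' : t ∈ C u0 := mem_C_comm.mp hu0Ct
    have httC : tt ∈ C u0 := mem_C_comm.mp hu0tt
    have hu0c : Commute (pr u0 u0) (pr u0 j) := by
      show pr u0 u0 * pr u0 j = pr u0 j * pr u0 u0
      rw [← pr_mul (self_mem_C u0) (hU.le hj), ← pr_mul (hU.le hj) (self_mem_C u0),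
        (mem_C.mp (hU.le hj)).eq]
    rw [hz, pr_mul ((C u0).mul_mem httC (self_mem_C u0)) htC', pr_mul httC (self_mem_C u0)]
    exact ((hUtt j hj).mul_left hu0c).mul_left (hUt j hj)
  exact hu0J (transfer hU hJ (mem_C_comm.mp hu0C) hUz)

end Cfsg.Agent.IntrinsicPair
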